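import Cfsg.Agent.H316.HT.Defs
import Cfsg.Prelude.Def_KGroupFacts
import Mathlib.RingTheory.RootsOfUnity.PrimitiveRoots
import Mathlib
import Cfsg.Agent.H234.HT.Diag
import Mathlib.GroupTheory.Sylow
import Cfsg.Agent.ClassicalGeometry.SympIso
import Cfsg.Agent.LieClassical.SympCount
import Cfsg.Agent.H988.CopCyc.Orth
import Cfsg.Agent.H334.Moved.Orth
import Cfsg.Agent.H362.HT.Over
import Cfsg.Agent.H112.HT.Ind_m3
import Cfsg.Agent.H672.Main
import Cfsg.Agent.H892.EP.Good_m3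
import Cfsg.Agent.Characters.Brauer
import Cfsg.Agent.Characters.CentralCharacter
import Cfsg.Agent.CharDeep.LinearChar
import Mathlib.NumberTheory.LegendreSymbol.AddCharacter
import Cfsg.Agent.Lib.FastPerm
import Cfsg.Agent.S0886
import Cfsg.Agent.S0965
import Cfsg.Agent.Blocks.PRegular
import Cfsg.Agent.Blocks.PrincipalSection
import Cfsg.Agent.H825.HT.Tools
import Cfsg.Agent.H16.Sl.DefZero
import Cfsg.Agent.H611.CoverPrincipal
import Cfsg.Agent.H596.Degree
import Cfsg.Agent.H436.Krein_m3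
import Mathlib.Algebra.Polynomial.Eval.Coeff
import Mathlib.Algebra.Polynomial.BigOperators
import Mathlib.Data.Rat.Cast.Order
import Mathlib.Tactic
import Mathlib.NumberTheory.Multiplicity
import Mathlib.NumberTheory.Padics.PadicVal.Basic
import Mathlib.GroupTheory.OrderOfElement
import Cfsg.Agent.Blocks.Orthogonality
import Cfsg.Agent.Blocks.PPart
import Cfsg.Agent.Blocks.RegularCount
import Cfsg.Agent.Characters.AverageRoots
import Cfsg.Agent.H145.BR.Count
import Cfsg.Agent.H686.CharKit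
import Cfsg.Agent.OddOrderCharacters.PF9.CliffGen
import Cfsg.Agent.CharactersDeep.AbelianQuotient
import Cfsg.Agent.H670.Hg.Cls
import Cfsg.Agent.H361.PSLThree
import Cfsg.Agent.S4459
import Cfsg.Agent.Characters.Core
import Cfsg.Agent.H777.PGrp
import Cfsg.Prelude.Def_Blocks
import Mathlib.NumberTheory.NumberField.Cyclotomic.Basic
import Mathlib.FieldTheory.Finite.Basic
import Mathlib.Analysis.Complex.Polynomial.Basic
import Mathlib.RingTheory.RootsOfUnity.AlgebraicallyClosed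
import Cfsg.Agent.Characters.CCBasic
import Mathlib.GroupTheory.SpecificGroups.Cyclic
import Mathlib.RingTheory.ZMod.UnitsCyclic
import Cfsg.Agent.OddOrderCharacters.FeitCoherence
import Cfsg.Agent.Lib.SylowNormalInf
import Cfsg.Agent.Blocks.Local
import Cfsg.Agent.Blocks.LocalRing
import Cfsg.Agent.Blocks.OrbitSum
import Mathlib.LinearAlgebra.Matrix.Charpoly.Basic
import Mathlib.LinearAlgebra.Matrix.GeneralLinearGroup.Defs
import Mathlib.Data.ZMod.Basic
import Mathlib.LinearAlgebra.Matrix.Charpoly.FiniteField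
import Mathlib.LinearAlgebra.Matrix.Charpoly.Minpoly
import Mathlib.FieldTheory.IsAlgClosed.AlgebraicClosure
import Mathlib.RingTheory.Polynomial.Cyclotomic.Basic
import Mathlib.Data.Nat.Factorization.Defs
import Cfsg.Agent.H726.HT.Ab_m3
import Cfsg.Agent.H378.SmallTor_m3
import Cfsg.Agent.H129.TorusMain
import Cfsg.Agent.H720.RowsNeg_m3
import Cfsg.Agent.FastGrp
import Cfsg.Agent.Prune
set_option linter.all false

section
prune_inst 0x7fd0a8f88ba881dfdf7f7e35f690cdf810808fffa4dff943bfe0219f0b1f030209c1618109e000fc0c82403410a87803b97eceffe06bd87ffffd1db41ffbee0fe5f7b5081190842406200ff603f057086f3ffff7fffcffffffffffffffffffbeffbffbfeffff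

-- part: H37/HT/Fd
section
set_option linter.all false

/-!
# S4933, part (O): `P ⊓ N` abelian, `P ≰ N`.  The interface (helper37)

* `IsP p x`     : `x` is a `p`-element;
* `AbSyl p S`   : the Sylow `p`-subgroups of `S` are abelian;
* `PInn p t`    : the automorphism `t` is a `p`-element modulo the inner automorphisms;
* `FD p r f S`  : a class function `F` of `S` (the "Brauer lift" of a module) with
    `lin`  : on a Sylow `p`-subgroup it is a sum of linear characters,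
    `frob` : `r ^ f` acts trivially;
* `FD.Auts`     : the automorphisms with `PInn` act on the values as powers `r ^ j`, their conjugates in the same way;
* `Test`        : `p ∣ f` implies `F (y ^ r ^ (f / p)) ≢ F y mod p` for a `p`-element `y`;
* `ED p r f S K`: the multisets of eigenvalues in `K` (a module of `S` or of a `p'`-covering of `S`);
* `EY`          : the element `y` with its eigenvalues (the input of Lemma B).
-/

set_option autoImplicit false

open Subgroup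

namespace Cfsg.Agent.H37.HT

open Cfsg

universe u v

/-- `x` is a `p`-element -/
def IsP (p : ℕ) {S : Type u} [Group S] (x : S) : Prop := ∃ k : ℕ, x ^ p ^ k = 1

/-- the Sylow `p`-subgroups of `S` are abelian -/
def AbSyl (p : ℕ) (S : Type u) [Group S] : Prop :=
  ∀ P : Sylow p S, ∀ x ∈ (P : Subgroup S), ∀ y ∈ (P : Subgroup S), x * y = y * x

/-- a `p`-element modulo the inner automorphisms -/
def PInn (p : ℕ) {S : Type u} [Group S] (t : MulAut S) : Prop := ∃ k : ℕ, t ^ p ^ k ∈ Inn S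

/-- `a ≡ b mod p`, algebraic integers -/
def Cong (p : ℕ) (a b : ℂ) : Prop := ∃ z : ℂ, IsIntegral ℤ z ∧ a - b = p * z

/-- a fusion invariant generalized character -/
structure FD (p r f : ℕ) (S : Type u) [Group S] where
  /-- the function -/
  F : S → ℂ
  conj : ∀ g x : S, F (g * x * g⁻¹) = F x
  lin : ∀ P : Sylow p S, ∃ (n : ℕ) (l : Fin n → ((P : Subgroup S) →* ℂˣ)),
    ∀ x : (P : Subgroup S), F x = ∑ i, (l i x : ℂ)
  frob : ∀ x : S, IsP p x → F (x ^ r ^ f) = F x

/-- the action of the automorphisms -/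
def FD.Auts {p r f : ℕ} {S : Type u} [Group S] (D : FD p r f S) : Prop :=
  (∀ t : MulAut S, PInn p t → ∃ j : ℕ, ∀ x : S, IsP p x → D.F (t x) = D.F (x ^ r ^ j)) ∧
  (∀ g t : MulAut S, PInn p t → ∀ x : S, IsP p x → D.F (g (t (g⁻¹ x))) = D.F (t x)) ∧
  ∀ t : MulAut S, PInn p t → (∀ x : S, IsP p x → D.F (t x) = D.F x) → t ∈ Inn S

/-- the test: the automorphism of order `p` moves a value modulo `p` -/
def Test {p r f : ℕ} {S : Type u} [Group S] (D : FD p r f S) : Prop :=
  p ∣ f → ∃ y : S, IsP p y ∧ ¬ Cong p (D.F (y ^ r ^ (f / p))) (D.F y)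

/-- eigenvalues of the `p`-elements in a module over `K` (characteristic `r`) -/
structure ED (p r f : ℕ) (S : Type u) [Group S] (K : Type v) [Field K] where
  /-- the eigenvalues with multiplicities (only used at `p`-elements) -/
  E : S → Multiset K
  conj : ∀ g x : S, IsP p x → E (g * x * g⁻¹) = E x
  lin : ∀ P : Sylow p S, ∃ (n : ℕ) (l : Fin n → ((P : Subgroup S) →* Kˣ)),
    ∀ x : (P : Subgroup S), E x = (Finset.univ : Finset (Fin n)).val.map fun i => (l i x : K)
  frob : ∀ x : S, IsP p x → ((E x).map fun a => a ^ r ^ f) = E x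

/-- the element `y` : `ω` of order `p ^ (m + 1)`, the exact power of `p` in `q ^ e - 1`, `q = r ^ f`, `e` the order of `q`
modulo `p`.  The number of eigenvalues `ω ^ k`, `k ≡ r₀ mod p ^ m` is not divisible by `p` (or the second criterion). -/
def EY {p r f : ℕ} {S : Type u} [Group S] {K : Type v} [Field K] (E : ED p r f S K) : Prop :=
  p ∣ f → ∀ (e m : ℕ) (ω : K), 0 < e → orderOf ((r ^ f : ℕ) : ZMod p) = e → 1 ≤ m →
    p ^ (m + 1) ∣ (r ^ f) ^ e - 1 → ¬ p ^ (m + 2) ∣ (r ^ f) ^ e - 1 → IsPrimitiveRoot ω (p ^ (m + 1)) →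
    ∃ (y : S) (s : Multiset ℕ) (r₀ : ℕ), IsP p y ∧ E.E y = s.map (fun k => ω ^ k) ∧ ¬ p ∣ r₀ ∧
      (¬ p ∣ (s.filter fun k => k % p ^ m = r₀ % p ^ m).card ∨
        (5 ≤ p ∧ ¬ p ∣ ((s.filter fun k => k % p ^ m = r₀ % p ^ m).map fun k => k % p ^ (m + 1) / p ^ m).sum))

end Cfsg.Agent.H37.HT
end

-- part: H722/HT/Roots_mg
section
prune_inst 0x8000300000000000000000000000004010000
set_option linter.all false
open scoped Cfsg.Agent.FastGrp

-- part: H722/HT/Roots
section
/-!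
# Roots of polynomials over a finite field in an extension (helper722, for S4933)

* `roots_pow_card`, `roots_map_frob` : the roots of a polynomial over `F` and the Frobenius map;
* `roots_minpoly` : the roots of the minimal polynomial of `ω` are `ω ^ q ^ i`, `i < e`;
* `exists_matrix` : a matrix with these eigenvalues.
-/

set_option autoImplicit false
set_option linter.unusedSectionVars false

open Polynomial

namespace Cfsg.Agent.H722.HT

section roots

variable {F : Type} [Field F] [Fintype F] {K : Type} [Field K] [Algebra F K]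

/-- the value at `x ^ q` -/
theorem aeval_pow_card (P : F[X]) (x : K) : aeval (x ^ Fintype.card F) P = (aeval x P) ^ Fintype.card F := by
  rw [← map_pow, ← FiniteField.expand_card, expand_aeval]

theorem aeval_pow_card_pow (P : F[X]) (x : K) (i : ℕ) (h : aeval x P = 0) :
    aeval (x ^ Fintype.card F ^ i) P = 0 := by
  induction i with
  | zero => simpa using h
  | succ i ih => rw [pow_succ, pow_mul, aeval_pow_card, ih, zero_pow Fintype.card_ne_zero]

/-- the roots of a polynomial over `F` are stable under the `q`-th power -/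
theorem roots_pow_card [IsAlgClosed K] (P : F[X]) :
    ((P.map (algebraMap F K)).roots.map fun a => a ^ Fintype.card F) = (P.map (algebraMap F K)).roots := by
  obtain ⟨r, hr⟩ := CharP.exists F
  have hrp : r.Prime := CharP.char_is_prime F r
  have : Fact r.Prime := ⟨hrp⟩
  obtain ⟨f, -, hf⟩ := FiniteField.card F r
  have hK : CharP K r := charP_of_injective_algebraMap (algebraMap F K).injective r
  have h1 : (fun a : K => a ^ Fintype.card F) = iterateFrobenius K r f := by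
    funext a
    rw [iterateFrobenius_def, hf]
  rw [h1, ← Polynomial.Splits.roots_map (IsAlgClosed.splits _), Polynomial.map_map]
  congr 2
  ext a
  rw [RingHom.comp_apply, iterateFrobenius_def, ← hf, ← map_pow, FiniteField.pow_card]

/-- the Frobenius map on polynomials -/
theorem roots_map_frob [IsAlgClosed K] {r : ℕ} [Fact r.Prime] [CharP F r] [CharP K r] (P : F[X]) :
    ((P.map (frobenius F r)).map (algebraMap F K)).roots = (P.map (algebraMap F K)).roots.map fun a => a ^ r := by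
  have h1 : (fun a : K => a ^ r) = frobenius K r := by
    funext a
    rw [frobenius_def]
  rw [h1, ← Polynomial.Splits.roots_map (IsAlgClosed.splits _), Polynomial.map_map, Polynomial.map_map]
  congr 2
  ext a
  simp [frobenius_def]

variable {ω : K} {e : ℕ}

theorem natDegree_minpoly (hω : IsIntegral F ω) (h : ∀ d, ω ^ Fintype.card F ^ d = ω ↔ e ∣ d) :
    (minpoly F ω).natDegree = e := by
  have hirr := minpoly.irreducible hω
  have key : ∀ d, ((minpoly F ω).natDegree ∣ d ↔ e ∣ d) := by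
    intro d
    rw [← h d, hirr.natDegree_dvd_iff_dvd_X_pow_card_pow_sub_X, minpoly.dvd_iff, Nat.card_eq_fintype_card, map_sub,
      map_pow, aeval_X, sub_eq_zero]
  exact Nat.dvd_antisymm ((key e).2 dvd_rfl) ((key _).1 dvd_rfl)

/-- the roots of the minimal polynomial -/
theorem roots_minpoly (hω : IsIntegral F ω) (h : ∀ d, ω ^ Fintype.card F ^ d = ω ↔ e ∣ d) :
    ((minpoly F ω).map (algebraMap F K)).roots = (Multiset.range e).map fun i => ω ^ Fintype.card F ^ i := by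
  have hne : (minpoly F ω).map (algebraMap F K) ≠ 0 := by
    rw [Polynomial.map_ne_zero_iff (algebraMap F K).injective]
    exact minpoly.ne_zero hω
  have hdeg : ((minpoly F ω).map (algebraMap F K)).natDegree = e := by
    rw [Polynomial.natDegree_map, natDegree_minpoly hω h]
  have hnd : ((Multiset.range e).map fun i => ω ^ Fintype.card F ^ i).Nodup := by
    refine Multiset.Nodup.map_on ?_ (Multiset.nodup_range e)
    have key : ∀ i j, i ≤ j → j < e → ω ^ Fintype.card F ^ i = ω ^ Fintype.card F ^ j → i = j := by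
      intro i j hij hj hh
      have h2 : (ω ^ Fintype.card F ^ i) ^ Fintype.card F ^ (e - i) = ω := by
        rw [← pow_mul, ← pow_add, show i + (e - i) = e by omega, (h e).2 dvd_rfl]
      have h3 : (ω ^ Fintype.card F ^ j) ^ Fintype.card F ^ (e - i) = ω ^ Fintype.card F ^ (j - i) := by
        rw [← pow_mul, ← pow_add, show j + (e - i) = e + (j - i) by omega, pow_add, pow_mul, (h e).2 dvd_rfl]
      rw [hh, h3] at h2
      have h4 := (h _).1 h2
      rcases Nat.eq_zero_or_pos (j - i) with h5 | h5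
      · omega
      · have := Nat.le_of_dvd h5 h4
        omega
    intro i hi j hj hh
    rw [Multiset.mem_range] at hi hj
    rcases le_total i j with h1 | h1
    · exact key i j h1 hj hh
    · exact (key j i h1 hi hh.symm).symm
  symm
  refine Multiset.eq_of_le_of_card_le ((Multiset.le_iff_subset hnd).2 ?_) ?_
  · intro x hx
    obtain ⟨i, -, rfl⟩ := Multiset.mem_map.1 hx
    rw [mem_roots hne, IsRoot.def, eval_map_algebraMap]
    exact aeval_pow_card_pow _ _ _ (minpoly.aeval F ω)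
  · rw [Multiset.card_map, Multiset.card_range]
    calc _ ≤ ((minpoly F ω).map (algebraMap F K)).natDegree := card_roots' _
      _ = e := hdeg

/-- a matrix with these eigenvalues -/
theorem exists_matrix (hω : IsIntegral F ω) (h : ∀ d, ω ^ Fintype.card F ^ d = ω ↔ e ∣ d) :
    ∃ A : Matrix (Fin e) (Fin e) F, A.charpoly = minpoly F ω ∧ ∀ k, ω ^ k = 1 → A ^ k = 1 := by
  obtain ⟨pb, hpb⟩ : ∃ pb : PowerBasis F (IntermediateField.adjoin F {ω}), pb.gen = IntermediateField.AdjoinSimple.gen F ω :=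
    ⟨_, IntermediateField.adjoin.powerBasis_gen hω⟩
  have h1 : minpoly F pb.gen = minpoly F ω := by
    rw [hpb]
    exact IntermediateField.minpoly_gen F ω
  have hdim : pb.dim = e := by
    rw [← pb.natDegree_minpoly, h1, natDegree_minpoly hω h]
  subst hdim
  refine ⟨Algebra.leftMulMatrix pb.basis pb.gen, ?_, ?_⟩
  · rw [charpoly_leftMulMatrix, h1]
  · intro k hk
    rw [← map_pow]
    have h2 : pb.gen ^ k = 1 := by
      rw [hpb]
      apply Subtype.ext
      simpa using hk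
    rw [h2, map_one]

end roots

end Cfsg.Agent.H722.HT
end

-- part: H483/HT/Rep
section
/-!
# S4933, part (O), box O.rep: eigenvalues of a projective representation (helper483)
-/

set_option autoImplicit false

open Subgroup Polynomial

namespace Cfsg.Agent.H483.HT

open Cfsg Cfsg.Agent.H37.HT

universe u v

/-- uniqueness of the lift of a `p`-element through a central `p'`-kernel -/
theorem lift_unique {p : ℕ} [hp : Fact p.Prime] {S : Type u} {T : Type v} [Group S] [Group T] [Finite T]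
    (π : T →* S) (hk : ∀ z ∈ π.ker, ∀ x : T, z * x = x * z) (hkp : ¬ p ∣ Nat.card π.ker)
    {t t' : T} (ht : IsP p t) (ht' : IsP p t') (h : π t = π t') : t = t' := by
  obtain ⟨i, hi⟩ := ht
  obtain ⟨j, hj⟩ := ht'
  have hz : t * t'⁻¹ ∈ π.ker := by rw [MonoidHom.mem_ker, map_mul, map_inv, h, mul_inv_cancel]
  have hc : Commute (t * t'⁻¹) t' := hk _ hz t'
  have e1 : t = (t * t'⁻¹) * t' := by group
  have h1 : (t * t'⁻¹) ^ p ^ (i + j) = 1 := by
    have h2 : t ^ p ^ (i + j) = 1 := by rw [pow_add, pow_mul, hi, one_pow]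
    have h3 : t' ^ p ^ (i + j) = 1 := by rw [pow_add, mul_comm (p ^ i), pow_mul, hj, one_pow]
    rw [e1, hc.mul_pow, h3, mul_one] at h2
    exact h2
  have h4 : orderOf (t * t'⁻¹) ∣ p ^ (i + j) := orderOf_dvd_of_pow_eq_one h1
  have h5 : orderOf (t * t'⁻¹) ∣ Nat.card π.ker := by
    have := orderOf_dvd_natCard (⟨t * t'⁻¹, hz⟩ : π.ker)
    rwa [← Subgroup.orderOf_coe] at this
  have hcop : Nat.Coprime (p ^ (i + j)) (Nat.card π.ker) :=
    Nat.Coprime.pow_left _ ((Nat.Prime.coprime_iff_not_dvd hp.out).2 hkp)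
  have h6 : orderOf (t * t'⁻¹) = 1 := Nat.dvd_one.1 (hcop ▸ Nat.dvd_gcd h4 h5)
  exact mul_inv_eq_one.1 (orderOf_eq_one_iff.1 h6)

theorem cp_conj {K : Type v} [Field K] {n : ℕ} (a b : (Matrix (Fin n) (Fin n) K)ˣ) :
    ((a * b * a⁻¹ : (Matrix (Fin n) (Fin n) K)ˣ) : Matrix (Fin n) (Fin n) K).charpoly =
      (b : Matrix (Fin n) (Fin n) K).charpoly := by
  rw [Units.val_mul, Units.val_mul, Matrix.charpoly_mul_comm, ← mul_assoc, Units.inv_mul, one_mul]

/-- **BOX O.rep** -/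
theorem exists_lin {p : ℕ} [Fact p.Prime] {S : Type u} {T : Type v} [Group S] [Finite S] [Group T] [Finite T]
    (hab : AbSyl p S) (π : T →* S) (hπ : Function.Surjective π) (hk : ∀ z ∈ π.ker, ∀ x : T, z * x = x * z)
    (hkp : ¬ p ∣ Nat.card π.ker) {K : Type v} [Field K] [IsAlgClosed K] (hpK : (p : K) ≠ 0) {n : ℕ}
    (ρ : T →* (Matrix (Fin n) (Fin n) K)ˣ) :
    ∃ E : S → Multiset K, (∀ t : T, IsP p t → E (π t) = ((ρ t : Matrix (Fin n) (Fin n) K).charpoly).roots) ∧
      (∀ x : S, IsP p x → ∃ t : T, IsP p t ∧ π t = x) ∧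
      (∀ g x : S, IsP p x → E (g * x * g⁻¹) = E x) ∧
      (∀ P : Sylow p S, ∃ l : Fin n → ((P : Subgroup S) →* Kˣ),
        ∀ x : (P : Subgroup S), E x = (Finset.univ : Finset (Fin n)).val.map fun i => (l i x : K)) := by
  classical
  let E : S → Multiset K := fun x => if h : ∃ t : T, IsP p t ∧ π t = x then
    ((ρ h.choose : Matrix (Fin n) (Fin n) K).charpoly).roots else 0
  have hE : ∀ t : T, IsP p t → E (π t) = ((ρ t : Matrix (Fin n) (Fin n) K).charpoly).roots := by
    intro t ht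
    have h : ∃ t' : T, IsP p t' ∧ π t' = π t := ⟨t, ht, rfl⟩
    have h1 : h.choose = t := lift_unique π hk hkp h.choose_spec.1 ht h.choose_spec.2
    simp only [E, dif_pos h, h1]
  -- sections over the Sylow subgroups
  have hsec : ∀ P : Sylow p S, ∃ σ : (P : Subgroup S) →* T, (∀ x, π (σ x) = x) ∧ ∀ x, IsP p (σ x) := by
    intro P
    obtain ⟨Q, rfl⟩ := Sylow.mapSurjective_surjective hπ p P
    have hQ : ∀ t : (Q : Subgroup T), IsP p (t : T) := by
      intro t
      obtain ⟨k, hk'⟩ := Q.2 t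
      exact ⟨k, by simpa using congrArg Subtype.val hk'⟩
    let f : (Q : Subgroup T) →* ((Q : Subgroup T).map π) := π.subgroupMap Q
    have hf : Function.Bijective f := by
      refine ⟨fun a b hab' => ?_, π.subgroupMap_surjective Q⟩
      exact Subtype.ext (lift_unique π hk hkp (hQ a) (hQ b) (congrArg Subtype.val hab'))
    let e : (Q : Subgroup T) ≃* ((Q : Subgroup T).map π) := MulEquiv.ofBijective f hf
    refine ⟨(Q : Subgroup T).subtype.comp e.symm.toMonoidHom, fun x => ?_, fun x => hQ _⟩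
    have := congrArg Subtype.val (e.apply_symm_apply x)
    exact this
  refine ⟨E, hE, ?_, ?_, ?_⟩
  · intro x hx
    have hx' : IsPGroup p (zpowers x) := by
      obtain ⟨k, hk'⟩ := hx
      rintro ⟨y, m, rfl⟩
      exact ⟨k, Subtype.ext (by
        show (x ^ m) ^ p ^ k = 1
        rw [← zpow_natCast, ← zpow_mul, mul_comm, zpow_mul, zpow_natCast, hk', one_zpow])⟩
    obtain ⟨P, hP⟩ := hx'.exists_le_sylow
    obtain ⟨σ, h1, h2⟩ := hsec P
    exact ⟨σ ⟨x, hP (mem_zpowers x)⟩, h2 _, h1 _⟩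
  · intro g x hx
    have hex : ∃ t : T, IsP p t ∧ π t = x := by
      have hx' : IsPGroup p (zpowers x) := by
        obtain ⟨k, hk'⟩ := hx
        rintro ⟨y, m, rfl⟩
        exact ⟨k, Subtype.ext (by
          show (x ^ m) ^ p ^ k = 1
          rw [← zpow_natCast, ← zpow_mul, mul_comm, zpow_mul, zpow_natCast, hk', one_zpow])⟩
      obtain ⟨P, hP⟩ := hx'.exists_le_sylow
      obtain ⟨σ, h1, h2⟩ := hsec P
      exact ⟨σ ⟨x, hP (mem_zpowers x)⟩, h2 _, h1 _⟩
    obtain ⟨t, ht, rfl⟩ := hex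
    obtain ⟨g, rfl⟩ := hπ g
    have h1 : π g * π t * (π g)⁻¹ = π (g * t * g⁻¹) := by rw [map_mul, map_mul, map_inv]
    have h2 : IsP p (g * t * g⁻¹) := by
      obtain ⟨k, hk'⟩ := ht
      exact ⟨k, by rw [conj_pow, hk', mul_one, mul_inv_cancel]⟩
    rw [h1, hE _ h2, hE _ ht]
    rw [map_mul, map_mul, map_inv, cp_conj]
  · intro P
    obtain ⟨σ, h1, h2⟩ := hsec P
    let τ : (P : Subgroup S) →* Matrix (Fin n) (Fin n) K := (Units.coeHom _).comp (ρ.comp σ)
    have hc : ∀ x y, τ x * τ y = τ y * τ x := by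
      intro x y
      rw [← map_mul, ← map_mul]
      congr 1
      exact Subtype.ext (hab P x x.2 y y.2)
    have hN : ((Nat.card (P : Subgroup S) : ℕ) : K) ≠ 0 := by
      obtain ⟨k, hk'⟩ := IsPGroup.iff_card.1 P.2
      rw [hk', Nat.cast_pow]
      exact pow_ne_zero _ hpK
    obtain ⟨κ, hκ, χ, h⟩ := Cfsg.Agent.H234.HT.exists_charpoly τ hc hN (fun x => pow_card_eq_one')
    have hcard : Fintype.card κ = n := by
      have h3 := congrArg Polynomial.natDegree (h 1)
      rw [Matrix.charpoly_natDegree_eq_dim, Fintype.card_fin, Polynomial.natDegree_finset_prod_X_sub_C_eq_card,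
        Finset.card_univ] at h3
      exact h3.symm
    let e : Fin n ≃ κ := (finCongr hcard.symm).trans (Fintype.equivFin κ).symm
    refine ⟨fun i => χ (e i), fun x => ?_⟩
    have h3 : ((ρ (σ x) : Matrix (Fin n) (Fin n) K)).charpoly = ∏ j, (X - C ((χ j x : Kˣ) : K)) := h x
    have h4 : E (π (σ x)) = _ := hE _ (h2 x)
    rw [h1, h3] at h4
    rw [h4]
    have h5 : (∏ j, (X - C ((χ j x : Kˣ) : K))) = ((Finset.univ.val.map fun j => ((χ j x : Kˣ) : K)).map
        fun a => X - C a).prod := by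
      rw [Multiset.map_map]; rfl
    rw [h5, Polynomial.roots_multiset_prod_X_sub_C]
    rw [← Finset.map_univ_equiv e, Finset.map_val, Multiset.map_map]
    rfl

end Cfsg.Agent.H483.HT
end
end

-- part: H37/HT/SpElt
section
prune_inst 0x2f4107705772200080004a090c3005eb3f30000200008800020a60b0607890c408942c020ba20052280a00004483c0468131001a0420000000a040400011e018000801200608100918a0010000208610000008000000000000000000000000000004010000
set_option linter.all false
open scoped Cfsg.Agent.FastGrp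

/-!
# S4933, part (O), `PSp`: the element `y` (helper37)

* `exists_sp`     : an isometry of a nondegenerate alternating form as a symplectic matrix;
* `exists_sp_add` : the same with a trivial summand.
-/

set_option autoImplicit false
set_option linter.unusedSectionVars false

open Polynomial

namespace Cfsg.Agent.H37.HT.SpElt

open Cfsg Cfsg.Agent.ClassicalGeometry.SympBasic Cfsg.Agent.ClassicalGeometry.SympIso

variable {F : Type} [Field F]

/-- an isometry as a symplectic matrix -/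
theorem exists_sp {V : Type} [AddCommGroup V] [Module F V] [FiniteDimensional F V] (B : LinearMap.BilinForm F V)
    (hA : B.IsAlt) (hnd : ∀ u, (∀ v, B u v = 0) → u = 0) {n : ℕ} (hn : Module.finrank F V = 2 * n)
    (T : V →ₗ[F] V) (hT : ∀ x y, B (T x) (T y) = B x y) :
    ∃ t : Matrix.symplecticGroup (Fin n) F, (t : Matrix (Fin n ⊕ Fin n) (Fin n ⊕ Fin n) F).charpoly = T.charpoly ∧
      ∀ N : ℕ, T ^ N = 1 → t ^ N = 1 := by
  classical
  obtain ⟨e, he⟩ := exists_linearEquiv_sympForm B hA hnd hn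
  let T' : Module.End F (Fin n ⊕ Fin n → F) := e.symm.conj T
  have hT' : ∀ x, T' x = e.symm (T (e x)) := fun x => by
    simp [T', LinearEquiv.conj_apply]
  let M : Matrix (Fin n ⊕ Fin n) (Fin n ⊕ Fin n) F := LinearMap.toMatrixAlgEquiv' T'
  have hM : ∀ x, M.mulVec x = T' x := fun x => LinearMap.toMatrix'_mulVec T' x
  have hmem : M ∈ Matrix.symplecticGroup (Fin n) F := by
    rw [mem_symplecticGroup_iff]
    intro u v
    rw [hM, hM, hT', hT', ← he, ← he, LinearEquiv.apply_symm_apply, LinearEquiv.apply_symm_apply, hT]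
  refine ⟨⟨M, hmem⟩, ?_, ?_⟩
  · change M.charpoly = _
    rw [← LinearEquiv.charpoly_conj e.symm T, ← LinearMap.charpoly_toMatrix (e.symm.conj T) (Pi.basisFun F (Fin n ⊕ Fin n))]
    rfl
  · intro N hN
    apply Subtype.ext
    rw [SubmonoidClass.coe_pow]
    change (LinearMap.toMatrixAlgEquiv' T') ^ N = 1
    rw [← map_pow]
    have h1 : T' ^ N = 1 := by
      have h2 : T' ^ N = e.symm.conj (T ^ N) := by
        have := (map_pow (LinearEquiv.conjRingEquiv e.symm) T N).symm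
        exact this
      rw [h2, hN]
      ext x
      simp [LinearEquiv.conj_apply]
    rw [h1, map_one]

/-- an isometry and a trivial summand -/
theorem exists_sp_add {V : Type} [AddCommGroup V] [Module F V] [FiniteDimensional F V] (B : LinearMap.BilinForm F V)
    (hA : B.IsAlt) (hnd : ∀ u, (∀ v, B u v = 0) → u = 0) {k n : ℕ} (hk : Module.finrank F V = 2 * k) (hkn : k ≤ n)
    (T : V →ₗ[F] V) (hT : ∀ x y, B (T x) (T y) = B x y) :
    ∃ t : Matrix.symplecticGroup (Fin n) F,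
      (t : Matrix (Fin n ⊕ Fin n) (Fin n ⊕ Fin n) F).charpoly = T.charpoly * (X - 1) ^ (2 * (n - k)) ∧
      ∀ N : ℕ, T ^ N = 1 → t ^ N = 1 := by
  classical
  let W : Type := Fin (n - k) ⊕ Fin (n - k) → F
  let BW : LinearMap.BilinForm F W := sympBilin (n - k) F
  let B' : LinearMap.BilinForm F (V × W) :=
    B.compl₁₂ (LinearMap.fst F V W) (LinearMap.fst F V W) + BW.compl₁₂ (LinearMap.snd F V W) (LinearMap.snd F V W)
  have hB' : ∀ x y : V × W, B' x y = B x.1 y.1 + sympForm (n - k) F x.2 y.2 := fun x y => rfl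
  have hfin : Module.finrank F (V × W) = 2 * n := by
    rw [Module.finrank_prod, hk, Module.finrank_fintype_fun_eq_card, Fintype.card_sum, Fintype.card_fin]
    omega
  obtain ⟨t, h1, h2⟩ := exists_sp B' (fun x => by rw [hB', hA, sympForm_self, add_zero]) (fun u hu => by
    refine Prod.ext (hnd _ fun v => ?_) (eq_zero_of_forall_sympForm_right fun v => ?_)
    · have := hu (v, 0)
      rwa [hB', sympForm_zero_right, add_zero] at this
    · have := hu (0, v)
      rwa [hB', map_zero, zero_add] at this) hfin (T.prodMap (1 : Module.End F W)) (fun x y => by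
      rw [hB', hB']
      change B (T x.1) (T y.1) + sympForm (n - k) F x.2 y.2 = _
      rw [hT])
  refine ⟨t, ?_, fun N hN => h2 N ?_⟩
  · rw [h1, LinearMap.charpoly_prodMap, LinearMap.charpoly_one, Module.finrank_fintype_fun_eq_card, Fintype.card_sum,
      Fintype.card_fin]
    congr 2
    omega
  · have h3 : ∀ N : ℕ, (T.prodMap (1 : Module.End F W)) ^ N = (T ^ N).prodMap 1 := by
      intro N
      induction N with
      | zero => rw [pow_zero, pow_zero]; rfl
      | succ N ih => rw [pow_succ, pow_succ, ih]; rfl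
    rw [h3, hN]
    rfl


section field

variable {L : Type} [Field L] [Algebra F L] [FiniteDimensional F L]

/-- the characteristic polynomial of the multiplication by a primitive element -/
theorem charpoly_mulLeft {x : L} (hx : (minpoly F x).natDegree = Module.finrank F L) :
    (LinearMap.mulLeft F x).charpoly = minpoly F x := by
  have h1 : aeval x (LinearMap.mulLeft F x).charpoly = 0 := by
    have h2 := LinearMap.aeval_self_charpoly (LinearMap.mulLeft F x)
    have h3 : (LinearMap.mulLeft F x) = Algebra.lmul F L x := rfl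
    rw [h3, Polynomial.aeval_algHom_apply] at h2
    have h4 := LinearMap.congr_fun h2 1
    rw [← h3] at h4
    simpa using h4
  refine Polynomial.eq_of_monic_of_dvd_of_natDegree_le (minpoly.monic (Algebra.IsIntegral.isIntegral x))
    (LinearMap.charpoly_monic _) (minpoly.dvd _ _ h1) ?_
  rw [LinearMap.charpoly_natDegree, hx]

/-- `diag (x, x⁻¹)` -/
theorem exists_odd {n : ℕ} (hn : Module.finrank F L ≤ n) [Algebra.IsSeparable F L] {x : L} (hx0 : x ≠ 0)
    (hx : (minpoly F x).natDegree = Module.finrank F L) (hx' : (minpoly F x⁻¹).natDegree = Module.finrank F L) :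
    ∃ t : Matrix.symplecticGroup (Fin n) F,
      (t : Matrix (Fin n ⊕ Fin n) (Fin n ⊕ Fin n) F).charpoly =
        minpoly F x * minpoly F x⁻¹ * (X - 1) ^ (2 * (n - Module.finrank F L)) ∧
      ∀ N : ℕ, x ^ N = 1 → t ^ N = 1 := by
  let B : LinearMap.BilinForm F (L × L) := LinearMap.mk₂ F
    (fun a b => Algebra.trace F L (a.1 * b.2) - Algebra.trace F L (a.2 * b.1))
    (fun a a' b => by rw [Prod.fst_add, Prod.snd_add, add_mul, add_mul, map_add, map_add]; ring)
    (fun c a b => by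
      rw [Prod.smul_fst, Prod.smul_snd, smul_mul_assoc, smul_mul_assoc, map_smul, map_smul, smul_sub])
    (fun a b b' => by rw [Prod.fst_add, Prod.snd_add, mul_add, mul_add, map_add, map_add]; ring)
    (fun c a b => by
      rw [Prod.smul_fst, Prod.smul_snd, mul_smul_comm, mul_smul_comm, map_smul, map_smul, smul_sub])
  have hB : ∀ a b : L × L, B a b = Algebra.trace F L (a.1 * b.2) - Algebra.trace F L (a.2 * b.1) := fun a b => rfl
  have hnd : ∀ a : L, (∀ b, Algebra.trace F L (a * b) = 0) → a = 0 := by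
    intro a ha
    exact (traceForm_nondegenerate F L).1 a ha
  obtain ⟨t, h1, h2⟩ := exists_sp_add B (fun a => by rw [hB, mul_comm, sub_self]) (fun a ha => by
      refine Prod.ext (hnd _ fun v => ?_) (hnd _ fun v => ?_)
      · have := ha (0, v)
        rwa [hB, mul_zero, map_zero, sub_zero] at this
      · have := ha (v, 0)
        rwa [hB, mul_zero, map_zero, zero_sub, neg_eq_zero] at this) (k := Module.finrank F L)
    (by rw [Module.finrank_prod, two_mul]) hn ((LinearMap.mulLeft F x).prodMap (LinearMap.mulLeft F x⁻¹))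
    (fun a b => by
      rw [hB, hB]
      change Algebra.trace F L (x * a.1 * (x⁻¹ * b.2)) - Algebra.trace F L (x⁻¹ * a.2 * (x * b.1)) = _
      congr 2
      · field_simp
      · field_simp)
  refine ⟨t, ?_, fun N hN => h2 N ?_⟩
  · rw [h1, LinearMap.charpoly_prodMap, charpoly_mulLeft hx, charpoly_mulLeft hx']
  · have h3 : ∀ (N : ℕ) (y z : L), ((LinearMap.mulLeft F y).prodMap (LinearMap.mulLeft F z)) ^ N =
        (LinearMap.mulLeft F (y ^ N)).prodMap (LinearMap.mulLeft F (z ^ N)) := by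
      intro N y z
      induction N with
      | zero =>
        refine LinearMap.ext fun a => ?_
        simp
      | succ N ih =>
        rw [pow_succ, ih]
        refine LinearMap.ext fun a => ?_
        simp [pow_succ]
    rw [h3, inv_pow, hN, inv_one]
    refine LinearMap.ext fun a => ?_
    simp

/-- multiplication by `x` with `x x̄ = 1` -/
theorem exists_even {n d : ℕ} (hd : Module.finrank F L = 2 * d) (hn : d ≤ n) [Fintype F] {x : L}
    (hx1 : x * x ^ Fintype.card F ^ d = 1) (hx2 : x ^ Fintype.card F ^ d ≠ x)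
    (hx : (minpoly F x).natDegree = Module.finrank F L) :
    ∃ t : Matrix.symplecticGroup (Fin n) F,
      (t : Matrix (Fin n ⊕ Fin n) (Fin n ⊕ Fin n) F).charpoly = minpoly F x * (X - 1) ^ (2 * (n - d)) ∧
      ∀ N : ℕ, x ^ N = 1 → t ^ N = 1 := by
  have : Finite L := Module.finite_of_finite F
  have : Fintype L := Fintype.ofFinite L
  let bar : L →ₐ[F] L := (FiniteField.frobeniusAlgHom F L) ^ d
  have hbar : ∀ a, bar a = a ^ Fintype.card F ^ d := by
    intro a
    change ((FiniteField.frobeniusAlgHom F L) ^ d) a = _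
    rw [AlgHom.coe_pow, FiniteField.coe_frobeniusAlgHom, pow_iterate]
  have hbb : ∀ a, bar (bar a) = a := by
    intro a
    rw [hbar, hbar, ← pow_mul, ← pow_add, ← two_mul, ← hd, ← Module.card_eq_pow_finrank (K := F) (V := L)]
    exact FiniteField.pow_card a
  let be : L ≃ₐ[F] L := AlgEquiv.ofAlgHom bar bar (AlgHom.ext hbb) (AlgHom.ext hbb)
  have htr : ∀ a, Algebra.trace F L (bar a) = Algebra.trace F L a := fun a => Algebra.trace_eq_of_algEquiv be a
  let B : LinearMap.BilinForm F L := LinearMap.mk₂ F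
    (fun a b => Algebra.trace F L (x * (a * bar b - bar a * b)))
    (fun a a' b => by rw [← map_add, map_add bar]; congr 1; ring)
    (fun c a b => by rw [← map_smul, map_smul bar]; congr 1; simp only [Algebra.smul_def]; ring)
    (fun a b b' => by rw [← map_add, map_add bar]; congr 1; ring)
    (fun c a b => by rw [← map_smul, map_smul bar]; congr 1; simp only [Algebra.smul_def]; ring)
  have hB : ∀ a b : L, B a b = Algebra.trace F L (x * (a * bar b - bar a * b)) := fun a b => rfl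
  have hnd : ∀ a : L, (∀ b, Algebra.trace F L (a * b) = 0) → a = 0 := by
    intro a ha
    exact (traceForm_nondegenerate F L).1 a ha
  have hxb : x * bar x = 1 := by rw [hbar, hx1]
  obtain ⟨t, h1, h2⟩ := exists_sp_add B (fun a => by rw [hB, mul_comm a, sub_self, mul_zero, map_zero]) (fun a ha => by
      have h3 : ∀ b, Algebra.trace F L ((bar x - x) * bar a * b) = 0 := by
        intro b
        have h4 := ha b
        rw [hB, mul_sub, map_sub, ← htr (x * (a * bar b)), map_mul bar, map_mul bar, hbb] at h4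
        rw [← h4, ← map_sub]
        congr 1
        ring
      have h5 := hnd _ h3
      rcases mul_eq_zero.1 h5 with h6 | h6
      · exact absurd (sub_eq_zero.1 h6) (by rwa [hbar])
      · rw [← hbb a, h6, map_zero]) hd hn (LinearMap.mulLeft F x)
    (fun a b => by
      rw [hB, hB]
      change Algebra.trace F L (x * (x * a * bar (x * b) - bar (x * a) * (x * b))) = _
      rw [map_mul bar, map_mul bar]
      congr 1
      linear_combination (x * a * bar b - x * bar a * b) * hxb)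
  refine ⟨t, ?_, fun N hN => h2 N ?_⟩
  · rw [h1, charpoly_mulLeft hx]
  · have h3 : (LinearMap.mulLeft F x) = Algebra.lmul F L x := rfl
    rw [h3, ← map_pow, hN, map_one]

end field


section arith

theorem dvd_iff {p q : ℕ} (hq : 1 ≤ q) (d : ℕ) : p ∣ q ^ d - 1 ↔ orderOf ((q : ℕ) : ZMod p) ∣ d := by
  rw [orderOf_dvd_iff_pow_eq_one, ← ZMod.natCast_eq_zero_iff, Nat.cast_sub (Nat.one_le_pow _ _ hq), sub_eq_zero]
  push_cast
  rfl

theorem pow_iff {K : Type} [Field K] {p q e m : ℕ} (hq : 1 ≤ q) (ho : orderOf ((q : ℕ) : ZMod p) = e)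
    (h1 : p ^ (m + 1) ∣ q ^ e - 1) {ω : K} (hp : 0 < p) (hω : IsPrimitiveRoot ω (p ^ (m + 1))) (d : ℕ) :
    ω ^ q ^ d = ω ↔ e ∣ d := by
  have h0 : ω ≠ 0 := hω.ne_zero (pow_pos hp _).ne'
  have h2 : ω ^ q ^ d = ω ↔ p ^ (m + 1) ∣ q ^ d - 1 := by
    rw [← hω.pow_eq_one_iff_dvd]
    have h3 : q ^ d = (q ^ d - 1) + 1 := by have := Nat.one_le_pow d q hq; omega
    constructor
    · intro h
      rw [h3, pow_succ] at h
      exact mul_right_cancel₀ h0 (by rw [h, one_mul])
    · intro h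
      rw [h3, pow_succ, h, one_mul]
  rw [h2]
  constructor
  · intro h
    rw [← ho, ← dvd_iff hq]
    exact (dvd_pow_self p (by omega)).trans h
  · rintro ⟨c, rfl⟩
    refine h1.trans ?_
    have := Nat.sub_dvd_pow_sub_pow (q ^ e) 1 c
    rwa [one_pow, ← pow_mul] at this

/-- the rank -/
theorem rank_of_dvd [Fintype F] {p n : ℕ} [Fact p.Prime] (hpq : ¬ p ∣ Fintype.card F)
    (hd : p ∣ Nat.card (Matrix.symplecticGroup (Fin n) F)) {e : ℕ}
    (ho : orderOf ((Fintype.card F : ℕ) : ZMod p) = e) :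
    (∃ d, e = 2 * d ∧ d ≤ n) ∨ (¬ 2 ∣ e ∧ e ≤ n) := by
  have hp : p.Prime := Fact.out
  have hq : 1 ≤ Fintype.card F := Fintype.card_pos
  rw [Cfsg.Agent.LieClassical.SympCount.card_symplecticGroup] at hd
  rcases (Nat.Prime.dvd_mul hp).1 hd with h | h
  · exact absurd (hp.dvd_of_dvd_pow h) hpq
  obtain ⟨i, hi, h2⟩ := (Prime.dvd_finsetProd_iff hp.prime _).1 h
  rw [Finset.mem_range] at hi
  rw [dvd_iff hq, ho] at h2
  by_cases he : 2 ∣ e
  · left
    obtain ⟨d, rfl⟩ := he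
    have := Nat.le_of_dvd (by omega) (Nat.dvd_of_mul_dvd_mul_left (by norm_num) h2)
    exact ⟨d, rfl, by omega⟩
  · right
    have h3 : Nat.Coprime e 2 := ((Nat.Prime.coprime_iff_not_dvd Nat.prime_two).2 he).symm
    have := Nat.le_of_dvd (by omega) (h3.dvd_of_dvd_mul_left h2)
    exact ⟨he, by omega⟩

end arith

section count

variable {p q e m : ℕ}

theorem cast_of_mod (hm : 1 ≤ m) {k : ℕ} (h : k % p ^ m = 1 % p ^ m) : (k : ZMod p) = 1 := by
  have h1 : (k : ZMod p) = ((1 : ℕ) : ZMod p) :=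
    (ZMod.natCast_eq_natCast_iff k 1 p).2 (Nat.ModEq.of_dvd (dvd_pow_self p (by omega)) h)
  rw [h1, Nat.cast_one]

theorem count_pos (hm : 1 ≤ m) (he : 0 < e) (ho : orderOf ((q : ℕ) : ZMod p) = e) :
    (((Multiset.range e).map fun i => q ^ i).filter fun k => k % p ^ m = 1 % p ^ m).card = 1 := by
  classical
  rw [Multiset.filter_map, Multiset.card_map]
  have h1 : ∀ i ∈ Multiset.range e, ((fun k => k % p ^ m = 1 % p ^ m) ∘ fun i => q ^ i) i ↔ i = 0 := by
    intro i hi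
    rw [Multiset.mem_range] at hi
    constructor
    · intro h
      have h2 := cast_of_mod hm h
      push_cast at h2
      have h3 := orderOf_dvd_of_pow_eq_one h2
      rw [ho] at h3
      rcases Nat.eq_zero_or_pos i with h4 | h4
      · exact h4
      · have := Nat.le_of_dvd h4 h3
        omega
    · rintro rfl
      change q ^ 0 % p ^ m = 1 % p ^ m
      rw [pow_zero]
  rw [Multiset.filter_congr h1, Multiset.filter_eq', Multiset.card_replicate,
    Multiset.count_eq_one_of_mem (Multiset.nodup_range e) (Multiset.mem_range.2 he)]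

theorem count_neg (hp2 : p ≠ 2) [Fact p.Prime] (hm : 1 ≤ m) (he : ¬ 2 ∣ e) (ho : orderOf ((q : ℕ) : ZMod p) = e) :
    (((Multiset.range e).map fun i => (p ^ (m + 1) - 1) * q ^ i).filter fun k => k % p ^ m = 1 % p ^ m).card = 0 := by
  classical
  have hp : p.Prime := Fact.out
  rw [Multiset.card_eq_zero, Multiset.filter_eq_nil]
  intro k hk h
  obtain ⟨i, -, rfl⟩ := Multiset.mem_map.1 hk
  have h2 := cast_of_mod hm h
  rw [Nat.cast_mul, Nat.cast_sub (Nat.one_le_pow _ _ hp.pos)] at h2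
  push_cast at h2
  rw [ZMod.natCast_self, zero_pow (by omega), zero_sub, neg_mul, one_mul] at h2
  have h3 : ((q : ZMod p) ^ i) = -1 := by rw [← h2, neg_neg]
  have h4 : ((q : ZMod p)) ^ (2 * i) = 1 := by rw [mul_comm, pow_mul, h3, neg_one_sq]
  have h5 := orderOf_dvd_of_pow_eq_one h4
  rw [ho] at h5
  have h6 : Nat.Coprime e 2 := ((Nat.Prime.coprime_iff_not_dvd Nat.prime_two).2 he).symm
  have h7 := h6.dvd_of_dvd_mul_left h5
  rw [← ho, orderOf_dvd_iff_pow_eq_one, h3] at h7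
  have h8 : (2 : ZMod p) = 0 := by linear_combination -h7
  have h9 : p ∣ 2 := by
    rw [← ZMod.natCast_eq_zero_iff]
    exact_mod_cast h8
  exact hp2 ((Nat.prime_dvd_prime_iff_eq hp Nat.prime_two).1 h9)

theorem count_zero [Fact p.Prime] (hm : 1 ≤ m) (j : ℕ) :
    ((Multiset.replicate j 0).filter fun k => k % p ^ m = 1 % p ^ m).card = 0 := by
  classical
  have hp : p.Prime := Fact.out
  rw [Multiset.card_eq_zero, Multiset.filter_eq_nil]
  intro k hk h
  rw [Multiset.eq_of_mem_replicate hk] at h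
  rw [Nat.zero_mod, Nat.mod_eq_of_lt (Nat.one_lt_pow (by omega) hp.one_lt)] at h
  omega

end count

/-- **the element `y`** -/
theorem exists_elt {K : Type} [Field K] [Algebra F K] [Fintype F] {p n : ℕ} [Fact p.Prime] (hp2 : p ≠ 2)
    (hpq : ¬ p ∣ Fintype.card F) (hd : p ∣ Nat.card (Matrix.symplecticGroup (Fin n) F)) {e m : ℕ} {ω : K} (he : 0 < e)
    (ho : orderOf ((Fintype.card F : ℕ) : ZMod p) = e) (hm : 1 ≤ m) (h1 : p ^ (m + 1) ∣ Fintype.card F ^ e - 1)
    (hω : IsPrimitiveRoot ω (p ^ (m + 1))) :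
    ∃ (t : Matrix.symplecticGroup (Fin n) F) (s : Multiset ℕ), t ^ p ^ (m + 1) = 1 ∧
      (((t : Matrix (Fin n ⊕ Fin n) (Fin n ⊕ Fin n) F).charpoly).map (algebraMap F K)).roots = s.map (fun k => ω ^ k) ∧
      (s.filter fun k => k % p ^ m = 1 % p ^ m).card = 1 := by
  classical
  have hp : p.Prime := Fact.out
  set q := Fintype.card F with hqdef
  have hq : 1 ≤ q := Fintype.card_pos
  have hpos : 0 < p ^ (m + 1) := pow_pos hp.pos _
  have hω0 : ω ≠ 0 := hω.ne_zero hpos.ne'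
  have hint : IsIntegral F ω := (hω.isIntegral hpos).tower_top
  have hint' : IsIntegral F ω⁻¹ := (hω.inv.isIntegral hpos).tower_top
  have hiff := pow_iff hq ho h1 hp.pos hω
  have hiff' := pow_iff hq ho h1 hp.pos hω.inv
  have hdeg : (minpoly F ω).natDegree = e := Cfsg.Agent.H722.HT.natDegree_minpoly hint hiff
  have hdeg' : (minpoly F ω⁻¹).natDegree = e := Cfsg.Agent.H722.HT.natDegree_minpoly hint' hiff'
  let L := IntermediateField.adjoin F {ω}
  let x : L := IntermediateField.AdjoinSimple.gen F ω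
  have hxK : algebraMap L K x = ω := IntermediateField.AdjoinSimple.algebraMap_gen F ω
  have hfd : FiniteDimensional F L := IntermediateField.adjoin.finiteDimensional hint
  have hfr : Module.finrank F L = e := by rw [IntermediateField.adjoin.finrank hint, hdeg]
  have hmx : minpoly F x = minpoly F ω := IntermediateField.minpoly_gen F ω
  have hmx' : minpoly F x⁻¹ = minpoly F ω⁻¹ := by
    rw [← minpoly.algebraMap_eq (algebraMap L K).injective x⁻¹, map_inv₀, hxK]
  have hx0 : x ≠ 0 := by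
    intro h
    rw [h, map_zero] at hxK
    exact hω0 hxK.symm
  have hfinL : Finite L := Module.finite_of_finite F
  have hxN : x ^ p ^ (m + 1) = 1 := by
    apply (algebraMap L K).injective
    rw [map_pow, hxK, hω.pow_eq_one, map_one]
  have hr1 : ∀ j : ℕ, (((X - 1 : F[X]) ^ j).map (algebraMap F K)).roots = (Multiset.replicate j 0).map fun k => ω ^ k := by
    intro j
    rw [Polynomial.map_pow, Polynomial.map_sub, Polynomial.map_X, Polynomial.map_one, Polynomial.roots_pow,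
      ← Polynomial.C_1, Polynomial.roots_X_sub_C, Multiset.map_replicate, pow_zero, Multiset.nsmul_singleton]
  have hr2 : ((minpoly F ω).map (algebraMap F K)).roots = ((Multiset.range e).map fun i => q ^ i).map fun k => ω ^ k := by
    rw [Cfsg.Agent.H722.HT.roots_minpoly hint hiff, Multiset.map_map]
    rfl
  have hr3 : ((minpoly F ω⁻¹).map (algebraMap F K)).roots =
      ((Multiset.range e).map fun i => (p ^ (m + 1) - 1) * q ^ i).map fun k => ω ^ k := by
    rw [Cfsg.Agent.H722.HT.roots_minpoly hint' hiff', Multiset.map_map]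
    refine Multiset.map_congr rfl fun i _ => ?_
    change ω⁻¹ ^ q ^ i = ω ^ ((p ^ (m + 1) - 1) * q ^ i)
    rw [pow_mul]
    congr 1
    exact (eq_inv_of_mul_eq_one_left (by rw [← pow_succ, Nat.sub_add_cancel hpos, hω.pow_eq_one])).symm
  have hne : ∀ P : F[X], P.Monic → P.map (algebraMap F K) ≠ 0 := fun P hP => (hP.map _).ne_zero
  have hX : ∀ j : ℕ, ((X - 1 : F[X]) ^ j).Monic := fun j => by
    have : (X - 1 : F[X]) = X - C 1 := by rw [C_1]
    rw [this]
    exact (monic_X_sub_C 1).pow j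
  rcases rank_of_dvd hpq hd ho with ⟨d, hed, hdn⟩ | ⟨hodd, hen⟩
  · have h2 : p ^ (m + 1) ∣ q ^ d + 1 := by
      have h3 : q ^ e - 1 = (q ^ d + 1) * (q ^ d - 1) := by
        rw [hed, mul_comm 2 d, pow_mul, sq]
        have := Nat.mul_self_sub_mul_self_eq (q ^ d) 1
        simpa using this
      rw [h3] at h1
      refine (Nat.Coprime.dvd_mul_right ?_).1 h1
      refine Nat.Coprime.pow_left _ ((Nat.Prime.coprime_iff_not_dvd hp).2 ?_)
      rw [dvd_iff hq, ho]
      intro h4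
      have := Nat.le_of_dvd (by omega) h4
      omega
    have h3 : x * x ^ q ^ d = 1 := by
      rw [← pow_succ']
      obtain ⟨c, hc⟩ := h2
      rw [hc, pow_mul, hxN, one_pow]
    have h4 : x ^ q ^ d ≠ x := by
      intro h
      have h5 := congrArg (algebraMap L K) h
      rw [map_pow, hxK, hiff] at h5
      have := Nat.le_of_dvd (by omega) h5
      omega
    obtain ⟨t, ht1, ht2⟩ := exists_even (n := n) (hfr.trans hed) hdn h3 h4 (by rw [hmx, hdeg, hfr])
    refine ⟨t, ((Multiset.range e).map fun i => q ^ i) + Multiset.replicate (2 * (n - d)) 0, ht2 _ hxN, ?_, ?_⟩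
    · rw [ht1, hmx, Polynomial.map_mul, Polynomial.roots_mul (mul_ne_zero (hne _ (minpoly.monic hint)) (hne _ (hX _))),
        hr1, hr2, Multiset.map_add]
    · rw [Multiset.filter_add, Multiset.card_add, count_pos hm he ho, count_zero hm]
  · have hsep : Algebra.IsSeparable F L := inferInstance
    obtain ⟨t, ht1, ht2⟩ := exists_odd (n := n) (L := L) (by rw [hfr]; exact hen) hx0 (by rw [hmx, hdeg, hfr])
      (by rw [hmx', hdeg', hfr])
    refine ⟨t, ((Multiset.range e).map fun i => q ^ i) + ((Multiset.range e).map fun i => (p ^ (m + 1) - 1) * q ^ i) +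
      Multiset.replicate (2 * (n - Module.finrank F L)) 0, ht2 _ hxN, ?_, ?_⟩
    · rw [ht1, hmx, hmx', Polynomial.map_mul, Polynomial.map_mul, Polynomial.roots_mul
        (mul_ne_zero (mul_ne_zero (hne _ (minpoly.monic hint)) (hne _ (minpoly.monic hint'))) (hne _ (hX _))),
        Polynomial.roots_mul (mul_ne_zero (hne _ (minpoly.monic hint)) (hne _ (minpoly.monic hint'))),
        hr1, hr2, hr3, Multiset.map_add, Multiset.map_add]
    · rw [Multiset.filter_add, Multiset.filter_add, Multiset.card_add, Multiset.card_add, count_pos hm he ho,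
        count_neg hp2 hm hodd ho, count_zero hm]

end Cfsg.Agent.H37.HT.SpElt
end

-- part: H462/HT/ThreeAb
section
prune_inst 0x2f530730537e200080804a012f0205ef7d30000b2004884008ca60f4e06c1446209a6a861bf8004355aa0a845403d0448010000300200000000240c00011d018000801604e189a099e00096800208610000008000300000000000000000000000004010000
set_option linter.all false
open scoped Cfsg.Agent.FastGrp

/-!
# S4933, part (O): the Sylow 3-subgroups of `PΩ₈⁺(q)`, `3 ∤ q`, are not abelian (helper462)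
-/

set_option autoImplicit false

namespace Cfsg.Agent.H462.HT

open Cfsg.Agent.H37.HT

/-- elements of a `p`-group of class two commute -/
theorem comm_of_ab {p : ℕ} [Fact p.Prime] {G : Type*} [Group G] [Finite G] (hab : AbSyl p G) {c d z : G}
    (h : c * d * c⁻¹ = z * d) (hcz : c * z = z * c) (hdz : d * z = z * d) (hc : IsP p c) (hd : IsP p d) (hz : IsP p z) :
    z = 1 := by
  have hpg : ∀ x : G, IsP p x → IsPGroup p (Subgroup.zpowers x) := by
    rintro x ⟨k, hk⟩
    rintro ⟨_, n, rfl⟩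
    refine ⟨k, Subtype.ext ?_⟩
    rw [Subgroup.coe_pow, Subgroup.coe_one]
    show (x ^ n) ^ p ^ k = 1
    rw [← zpow_natCast (x ^ n), ← zpow_mul, mul_comm, zpow_mul, zpow_natCast, hk, one_zpow]
  have h1 : IsPGroup p (Subgroup.zpowers d ⊔ Subgroup.zpowers z : Subgroup G) := by
    refine IsPGroup.to_sup_of_normal_right' (hpg d hd) (hpg z hz) ?_
    rw [Subgroup.zpowers_le]
    rw [Subgroup.mem_normalizer_iff_map_conj_eq, MonoidHom.map_zpowers]
    congr 1
    show d * z * d⁻¹ = z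
    rw [hdz, mul_inv_cancel_right]
  set D := (Subgroup.zpowers d ⊔ Subgroup.zpowers z : Subgroup G) with hD
  have hdD : d ∈ D := Subgroup.mem_sup_left (Subgroup.mem_zpowers d)
  have hzD : z ∈ D := Subgroup.mem_sup_right (Subgroup.mem_zpowers z)
  have h2 : IsPGroup p (Subgroup.zpowers c ⊔ D : Subgroup G) := by
    refine IsPGroup.to_sup_of_normal_right' (hpg c hc) h1 ?_
    rw [Subgroup.zpowers_le, Subgroup.mem_normalizer_iff_map_conj_eq]
    refine Subgroup.eq_of_le_of_card_ge ?_ ?_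
    · rw [hD, Subgroup.map_sup, MonoidHom.map_zpowers, MonoidHom.map_zpowers, sup_le_iff, Subgroup.zpowers_le,
        Subgroup.zpowers_le]
      constructor
      · show c * d * c⁻¹ ∈ D
        rw [h]
        exact D.mul_mem hzD hdD
      · show c * z * c⁻¹ ∈ D
        rw [hcz, mul_inv_cancel_right]
        exact hzD
    · rw [Subgroup.card_map_of_injective (MulAut.conj c).injective]
  obtain ⟨P, hP⟩ := h2.exists_le_sylow
  have h3 : c * d = d * c := hab P c (hP (Subgroup.mem_sup_left (Subgroup.mem_zpowers c))) d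
    (hP (Subgroup.mem_sup_right hdD))
  have h4 : z * d = 1 * d := by rw [← h, h3, mul_inv_cancel_right, one_mul]
  exact mul_right_cancel h4

open QuadraticMap Cfsg.Agent.LieClassical.QuadForms Cfsg.Agent.LieClassical.OrthCore
  Cfsg.Agent.LieClassical.OrthTrans Cfsg.Agent.ClassicalGeometry.TrialityOct

universe u

variable {F : Type u} [Field F]

/-- the norm form of `F [ω]` -/
def nf (x : F × F) : F := x.1 ^ 2 - x.1 * x.2 + x.2 ^ 2

/-- multiplication by `ω` -/
def om : (F × F) ≃ₗ[F] (F × F) where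
  toFun x := (-x.2, x.1 - x.2)
  invFun x := (x.2 - x.1, -x.1)
  map_add' x y := by ext <;> simp only [_root_.Prod.snd_add, _root_.neg_add_rev, _root_.Prod.mk_add_mk, _root_.Prod.fst_add] <;> ring
  map_smul' a x := by ext <;> simp <;> ring
  left_inv x := by ext <;> simp
  right_inv x := by ext <;> simp

theorem om_apply (x : F × F) : om x = (-x.2, x.1 - x.2) := rfl

theorem om_om_om (x : F × F) : om (om (om x)) = x := by
  rw [om_apply, om_apply, om_apply]
  ext <;> simp <;> ring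

theorem nf_om (x : F × F) : nf (om x) = nf x := by
  rw [om_apply, nf, nf]; ring

/-- the model -/
abbrev V4 (F : Type u) := (F × F) × (F × F) × (F × F) × (F × F)

/-- its quadratic form -/
def q4 (x : V4 F) : F := nf x.1 + nf x.2.1 + nf x.2.2.1 + nf x.2.2.2

/-- the cyclic permutation -/
def c4 : V4 F ≃ₗ[F] V4 F where
  toFun x := (x.2.2.1, x.1, x.2.1, x.2.2.2)
  invFun x := (x.2.1, x.2.2.1, x.1, x.2.2.2)
  map_add' x y := rfl
  map_smul' a x := rfl
  left_inv x := rfl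
  right_inv x := rfl

/-- the diagonal element -/
def d4 : V4 F ≃ₗ[F] V4 F where
  toFun x := (x.1, om x.2.1, om (om x.2.2.1), x.2.2.2)
  invFun x := (x.1, om (om x.2.1), om x.2.2.1, x.2.2.2)
  map_add' x y := by simp only [map_add, Prod.fst_add, Prod.snd_add, Prod.mk_add_mk]
  map_smul' a x := by simp only [map_smul, Prod.smul_fst, Prod.smul_snd, Prod.smul_mk, RingHom.id_apply]
  left_inv x := by simp only [om_om_om]
  right_inv x := by simp only [om_om_om]

/-- the scalar -/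
def z4 : V4 F ≃ₗ[F] V4 F where
  toFun x := (om (om x.1), om (om x.2.1), om (om x.2.2.1), x.2.2.2)
  invFun x := (om x.1, om x.2.1, om x.2.2.1, x.2.2.2)
  map_add' x y := by simp only [map_add, Prod.fst_add, Prod.snd_add, Prod.mk_add_mk]
  map_smul' a x := by simp only [map_smul, Prod.smul_fst, Prod.smul_snd, Prod.smul_mk, RingHom.id_apply]
  left_inv x := by simp only [om_om_om]
  right_inv x := by simp only [om_om_om]

theorem c4_q (x : V4 F) : q4 (c4 x) = q4 x := by
  show nf x.2.2.1 + nf x.1 + nf x.2.1 + nf x.2.2.2 = q4 x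
  rw [q4]; ring

theorem d4_q (x : V4 F) : q4 (d4 x) = q4 x := by
  show nf x.1 + nf (om x.2.1) + nf (om (om x.2.2.1)) + nf x.2.2.2 = q4 x
  rw [nf_om, nf_om, nf_om, q4]

theorem z4_q (x : V4 F) : q4 (z4 x) = q4 x := by
  show nf (om (om x.1)) + nf (om (om x.2.1)) + nf (om (om x.2.2.1)) + nf x.2.2.2 = q4 x
  rw [nf_om, nf_om, nf_om, nf_om, nf_om, nf_om, q4]

theorem c4_d4 : (c4 * d4 : V4 F ≃ₗ[F] V4 F) = z4 * d4 * c4 := by
  apply LinearEquiv.ext
  intro x
  show ((om (om x.2.2.1), x.1, om x.2.1, x.2.2.2) : V4 F) =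
    (om (om x.2.2.1), om (om (om x.1)), om (om (om (om x.2.1))), x.2.2.2)
  rw [om_om_om, om_om_om]

theorem c4_z4 : (c4 * z4 : V4 F ≃ₗ[F] V4 F) = z4 * c4 := rfl

theorem d4_z4 : (d4 * z4 : V4 F ≃ₗ[F] V4 F) = z4 * d4 := rfl

theorem c4_pow : (c4 : V4 F ≃ₗ[F] V4 F) ^ 3 = 1 := rfl

theorem d4_pow : (d4 : V4 F ≃ₗ[F] V4 F) ^ 3 = 1 := by
  apply LinearEquiv.ext
  intro x
  show ((x.1, om (om (om x.2.1)), om (om (om (om (om (om x.2.2.1))))), x.2.2.2) : V4 F) = x
  rw [om_om_om, om_om_om, om_om_om]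

theorem z4_pow : (z4 : V4 F ≃ₗ[F] V4 F) ^ 3 = 1 := by
  apply LinearEquiv.ext
  intro x
  show ((om (om (om (om (om (om x.1))))), om (om (om (om (om (om x.2.1))))), om (om (om (om (om (om x.2.2.1))))),
    x.2.2.2) : V4 F) = x
  simp only [om_om_om]

/-- `a ^ 2 - a b + b ^ 2 = -1` -/
theorem exists_ab (F : Type u) [Field F] [Finite F] : ∃ a b : F, a ^ 2 - a * b + b ^ 2 = -1 ∨ (3 : F) = 0 := by
  have := Fintype.ofFinite F
  by_cases h2 : ringChar F = 2
  · have : CharP F 2 := by rw [← h2]; exact ringChar.charP F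
    exact ⟨1, 0, Or.inl (by rw [CharTwo.neg_eq]; ring)⟩
  · have h20 : (2 : F) ≠ 0 := Ring.two_ne_zero h2
    by_cases h3 : (3 : F) = 0
    · exact ⟨0, 0, Or.inr h3⟩
    · obtain ⟨x, y, hxy⟩ := FiniteField.exists_root_sum_quadratic (R := F) (f := Polynomial.X ^ 2) 
        (g := Polynomial.C 3 * Polynomial.X ^ 2 + Polynomial.C 4) (by simp only [_root_.Polynomial.degree_pow, _root_.Polynomial.degree_X, _root_.nsmul_eq_mul, _root_.Nat.cast_ofNat, _root_.mul_one]) (by
          compute_degree!) (FiniteField.odd_card_of_char_ne_two h2)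
      simp only [Polynomial.eval_pow, Polynomial.eval_X, Polynomial.eval_add, Polynomial.eval_mul, Polynomial.eval_C] at hxy
      refine ⟨(x + y) / 2, y, Or.inl ?_⟩
      field_simp
      linear_combination hxy

/-- the isometry onto the hyperbolic space -/
def j4 (α β : F) : V4 F →ₗ[F] (Fin 4 ⊕ Fin 4 → F) where
  toFun x := Sum.elim
    ![x.1.1 + (x.2.1.1 * α - x.2.1.2 * β), x.1.2 + (x.2.1.1 * β + x.2.1.2 * (α - β)),
      x.2.2.1.1 + (x.2.2.2.1 * α - x.2.2.2.2 * β), x.2.2.1.2 + (x.2.2.2.1 * β + x.2.2.2.2 * (α - β))]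
    ![x.1.1 - x.1.2 - (x.2.1.1 * α - x.2.1.2 * β),
      x.1.2 + (x.2.1.1 * α - x.2.1.2 * β) - (x.2.1.1 * β + x.2.1.2 * (α - β)),
      x.2.2.1.1 - x.2.2.1.2 - (x.2.2.2.1 * α - x.2.2.2.2 * β),
      x.2.2.1.2 + (x.2.2.2.1 * α - x.2.2.2.2 * β) - (x.2.2.2.1 * β + x.2.2.2.2 * (α - β))]
  map_add' x y := by
    funext i
    rcases i with i | i <;> (revert i; simp only [_root_.Fin.forall_fin_succ, _root_.Prod.fst_add, _root_.Prod.snd_add, _root_.Sum.elim_inl, _root_.Pi.add_apply, Fin.isValue, _root_.Matrix.cons_val_zero, _root_.Matrix.cons_val_succ, _root_.Matrix.cons_val_fin_one, _root_.forall_const, _root_.Sum.elim_inr]) <;> (repeat' with_reducible apply And.intro) <;> ring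
  map_smul' a x := by
    funext i
    rcases i with i | i <;> (revert i; simp only [_root_.Fin.forall_fin_succ, _root_.Prod.smul_fst, _root_.smul_eq_mul, _root_.Prod.smul_snd, _root_.Sum.elim_inl, _root_.RingHom.id_apply, _root_.Pi.smul_apply, Fin.isValue, _root_.Matrix.cons_val_zero, _root_.Matrix.cons_val_succ, _root_.Matrix.cons_val_fin_one, _root_.forall_const, _root_.Sum.elim_inr]) <;> (repeat' with_reducible apply And.intro) <;> ring

theorem j4_q {α β : F} (h : α ^ 2 - α * β + β ^ 2 = -1) (x : V4 F) : plusForm 4 F (j4 α β x) = q4 x := by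
  rw [norm8]
  show (x.1.1 + (x.2.1.1 * α - x.2.1.2 * β)) * (x.1.1 - x.1.2 - (x.2.1.1 * α - x.2.1.2 * β)) +
    (x.1.2 + (x.2.1.1 * β + x.2.1.2 * (α - β))) *
      (x.1.2 + (x.2.1.1 * α - x.2.1.2 * β) - (x.2.1.1 * β + x.2.1.2 * (α - β))) +
    (x.2.2.1.1 + (x.2.2.2.1 * α - x.2.2.2.2 * β)) * (x.2.2.1.1 - x.2.2.1.2 - (x.2.2.2.1 * α - x.2.2.2.2 * β)) +
    (x.2.2.1.2 + (x.2.2.2.1 * β + x.2.2.2.2 * (α - β))) *
      (x.2.2.1.2 + (x.2.2.2.1 * α - x.2.2.2.2 * β) - (x.2.2.2.1 * β + x.2.2.2.2 * (α - β))) = q4 x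
  simp only [q4, nf]
  linear_combination (-(x.2.1.1 ^ 2 - x.2.1.1 * x.2.1.2 + x.2.1.2 ^ 2) -
    (x.2.2.2.1 ^ 2 - x.2.2.2.1 * x.2.2.2.2 + x.2.2.2.2 ^ 2)) * h

theorem j4_inj {α β : F} (h : α ^ 2 - α * β + β ^ 2 = -1) (h3 : (3 : F) ≠ 0) : Function.Injective (j4 α β) := by
  rw [← LinearMap.ker_eq_bot, LinearMap.ker_eq_bot']
  rintro ⟨⟨a1, b1⟩, ⟨a2, b2⟩, ⟨a3, b3⟩, ⟨a4, b4⟩⟩ hx
  have e1 : a1 + (a2 * α - b2 * β) = 0 := congrFun hx (Sum.inl 0)
  have e2 : b1 + (a2 * β + b2 * (α - β)) = 0 := congrFun hx (Sum.inl 1)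
  have e3 : a3 + (a4 * α - b4 * β) = 0 := congrFun hx (Sum.inl 2)
  have e4 : b3 + (a4 * β + b4 * (α - β)) = 0 := congrFun hx (Sum.inl 3)
  have f1 : a1 - b1 - (a2 * α - b2 * β) = 0 := congrFun hx (Sum.inr 0)
  have f2 : b1 + (a2 * α - b2 * β) - (a2 * β + b2 * (α - β)) = 0 := congrFun hx (Sum.inr 1)
  have f3 : a3 - b3 - (a4 * α - b4 * β) = 0 := congrFun hx (Sum.inr 2)
  have f4 : b3 + (a4 * α - b4 * β) - (a4 * β + b4 * (α - β)) = 0 := congrFun hx (Sum.inr 3)
  have key : ∀ a b a' b' : F, a + (a' * α - b' * β) = 0 → b + (a' * β + b' * (α - β)) = 0 →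
      a - b - (a' * α - b' * β) = 0 → b + (a' * α - b' * β) - (a' * β + b' * (α - β)) = 0 →
      a = 0 ∧ b = 0 ∧ a' = 0 ∧ b' = 0 := by
    intro a b a' b' g1 g2 g3 g4
    have k1 : 3 * a = 0 := by linear_combination g1 + g2 + 2 * g3 + g4
    have ha : a = 0 := (mul_eq_zero.1 k1).resolve_left h3
    have hs : a' * α - b' * β = 0 := by linear_combination g1 - ha
    have hb : b = 0 := by linear_combination ha - hs - g3
    have ht : a' * β + b' * (α - β) = 0 := by linear_combination g2 - hb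
    refine ⟨ha, hb, ?_, ?_⟩
    · linear_combination a' * h + (β - α) * hs - β * ht
    · linear_combination b' * h + β * hs - α * ht
  obtain ⟨h1, h2, h3, h4⟩ := key _ _ _ _ e1 e2 f1 f2
  obtain ⟨h5, h6, h7, h8⟩ := key _ _ _ _ e3 e4 f3 f4
  rw [h1, h2, h3, h4, h5, h6, h7, h8]
  rfl

/-- the isometry onto the hyperbolic space -/
noncomputable def J4 {α β : F} (h : α ^ 2 - α * β + β ^ 2 = -1) (h3 : (3 : F) ≠ 0) : V4 F ≃ₗ[F] (Fin 4 ⊕ Fin 4 → F) :=
  LinearMap.linearEquivOfInjective (j4 α β) (j4_inj h h3) (by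
    rw [Module.finrank_prod, Module.finrank_prod, Module.finrank_prod, Module.finrank_prod, Module.finrank_self,
      Module.finrank_fintype_fun_eq_card]
    simp)

/-- **the Sylow 3-subgroups are not abelian** -/
theorem not_ab_three [Finite F] (h3 : (3 : F) ≠ 0) (hG : Good (plusForm 4 F)) :
    ¬ AbSyl 3 (↥(E (plusForm 4 F)) ⧸ Subgroup.center ↥(E (plusForm 4 F))) := by
  intro hab
  have : Fact (Nat.Prime 3) := ⟨Nat.prime_three⟩
  have hfin := Cfsg.Agent.H988.CopCyc.Orth.finite_quot (plusForm 4 F)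
  obtain ⟨α, β, h | h⟩ := exists_ab F
  swap
  · exact h3 h
  let J := J4 h h3
  have hJ : ∀ x, plusForm 4 F (J x) = q4 x := fun x => j4_q h x
  let Φ : (V4 F ≃ₗ[F] V4 F) →* ((Fin 4 ⊕ Fin 4 → F) ≃ₗ[F] (Fin 4 ⊕ Fin 4 → F)) :=
    { toFun := fun g => (J.symm.trans g).trans J
      map_one' := by ext1 x; show J (J.symm x) = x; rw [J.apply_symm_apply]
      map_mul' := fun a b => by
        apply LinearEquiv.ext
        intro x
        show J (a (b (J.symm x))) = J (a (J.symm (J (b (J.symm x)))))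
        rw [J.symm_apply_apply] }
  have hO : ∀ g : V4 F ≃ₗ[F] V4 F, (∀ x, q4 (g x) = q4 x) → Φ g ∈ O (plusForm 4 F) := by
    intro g hg v
    show plusForm 4 F (J (g (J.symm v))) = plusForm 4 F v
    rw [hJ, hg, ← hJ, J.apply_symm_apply]
  have hE : ∀ g : V4 F ≃ₗ[F] V4 F, (∀ x, q4 (g x) = q4 x) → g ^ 3 = 1 → Φ g ∈ E (plusForm 4 F) := by
    intro g hg hg3
    have h1 : Φ g = Φ g ^ 2 * Φ g ^ 2 := by
      rw [← pow_add, ← map_pow, show 2 + 2 = 3 + 1 from rfl, pow_succ, hg3, one_mul]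
    rw [h1]
    exact (Cfsg.Agent.H988.CopCyc.Orth.sq_mem_E hG ((O _).pow_mem (hO g hg) 2) :)
  let c : ↥(E (plusForm 4 F)) := ⟨Φ c4, hE c4 c4_q c4_pow⟩
  let d : ↥(E (plusForm 4 F)) := ⟨Φ d4, hE d4 d4_q d4_pow⟩
  let z : ↥(E (plusForm 4 F)) := ⟨Φ z4, hE z4 z4_q z4_pow⟩
  have hcd : c * d = z * d * c := Subtype.ext (by
    show Φ c4 * Φ d4 = Φ z4 * Φ d4 * Φ c4
    rw [← map_mul, ← map_mul, ← map_mul, c4_d4])
  have hcz : c * z = z * c := Subtype.ext (by
    show Φ c4 * Φ z4 = Φ z4 * Φ c4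
    rw [← map_mul, ← map_mul, c4_z4])
  have hdz : d * z = z * d := Subtype.ext (by
    show Φ d4 * Φ z4 = Φ z4 * Φ d4
    rw [← map_mul, ← map_mul, d4_z4])
  have hc3 : c ^ 3 = 1 := Subtype.ext (by show Φ c4 ^ 3 = 1; rw [← map_pow, c4_pow, map_one])
  have hd3 : d ^ 3 = 1 := Subtype.ext (by show Φ d4 ^ 3 = 1; rw [← map_pow, d4_pow, map_one])
  have hz3 : z ^ 3 = 1 := Subtype.ext (by show Φ z4 ^ 3 = 1; rw [← map_pow, z4_pow, map_one])
  let π := QuotientGroup.mk' (Subgroup.center ↥(E (plusForm 4 F)))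
  have hP : ∀ x : ↥(E (plusForm 4 F)), x ^ 3 = 1 → IsP 3 (π x) := fun x hx => ⟨1, by rw [pow_one, ← map_pow, hx, map_one]⟩
  have h1 : π z = 1 := by
    refine comm_of_ab hab (c := π c) (d := π d) ?_ ?_ ?_ (hP c hc3) (hP d hd3) (hP z hz3)
    · rw [mul_inv_eq_iff_eq_mul, ← map_mul, ← map_mul, ← map_mul, hcd]
    · rw [← map_mul, ← map_mul, hcz]
    · rw [← map_mul, ← map_mul, hdz]
  have h2 : z ∈ Subgroup.center ↥(E (plusForm 4 F)) := (QuotientGroup.eq_one_iff z).1 h1
  have h4 := Cfsg.Agent.H334.Moved.center_sq hG h2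
  have h5 : z = 1 := by
    have h6 := hz3
    rw [pow_succ, pow_two, h4, one_mul] at h6
    exact h6
  have h6 : Φ z4 = 1 := congrArg Subtype.val h5
  have h7 : J (z4 (J.symm (J ((1, 0), 0, 0, 0)))) = J ((1, 0), 0, 0, 0) := LinearEquiv.congr_fun h6 _
  rw [J.symm_apply_apply] at h7
  have h8 : (z4 ((1, 0), 0, 0, 0) : V4 F) = ((1, 0), 0, 0, 0) := J.injective h7
  have h9 : om (om ((1, 0) : F × F)) = (1, 0) := congrArg Prod.fst h8
  rw [om_apply, om_apply] at h9
  have h10 := congrArg Prod.snd h9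
  have h11 := congrArg Prod.fst h9
  simp at h10 h11

end Cfsg.Agent.H462.HT

private theorem dce_1189cfbf920c : _root_.True := by
  try have : _root_.True := by simp only [_root_.Cfsg.Agent.H462.HT.nf.eq_1]
  try have : _root_.True := by simp only [_root_.Cfsg.Agent.H462.HT.q4.eq_1]
  exact _root_.True.intro
end

-- part: H352/HT/Core_mg
section
prune_inst 0x20570700401e200080000a084d1203e06d600042000288400dca00c4c0486130240a04141ed8039375a38a04100300468130000a0004000000424000000040000002016046081a099e2009000128b610000008000300000000000000000041004004010000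
set_option linter.all false
open scoped Cfsg.Agent.FastGrp

-- part: H352/HT/Core
section
/-!
# S4933, part (O): a character moved by every Sylow subgroup (helper352)

* `degree_of_cyclic` : `H ⊴ P` abelian, `P / H` cyclic, `C_P(H) ≤ H`: `|P : H|` is a degree of the `p`-group `P`;
* `good_of_orbit`    : `ψ ∈ B₀(N)` of degree prime to `p`, moved by every Sylow `p`-subgroup: `GoodOn p a M N`.
-/

set_option autoImplicit false
set_option linter.unusedSectionVars false
set_option linter.style.haveILetI false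

open Cfsg Subgroup

namespace Cfsg.Agent.H352.HT

open Cfsg.Agent.H316.HT Cfsg.Agent.H37.HT

universe u

theorem mem_zpowers_of_order {Q : Type*} [Group Q] [Finite Q] [IsCyclic Q] {p : ℕ} (hp : p.Prime) {z s : Q}
    (hz : orderOf z = p) (hs : s ^ p = 1) : s ∈ zpowers z := by
  classical
  have := Fintype.ofFinite Q
  have h1 : ((zpowers z : Set Q).toFinset) ⊆ Finset.univ.filter fun x : Q => x ^ p = 1 := by
    intro x hx
    rw [Set.mem_toFinset] at hx
    obtain ⟨k, rfl⟩ := hx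
    rw [Finset.mem_filter]
    refine ⟨Finset.mem_univ _, ?_⟩
    show (z ^ k) ^ p = 1
    rw [← zpow_natCast, ← zpow_mul, mul_comm, zpow_mul, zpow_natCast, ← hz, pow_orderOf_eq_one, one_zpow]
  have h2 : (Finset.univ.filter fun x : Q => x ^ p = 1).card ≤ ((zpowers z : Set Q).toFinset).card := by
    refine (IsCyclic.card_pow_eq_one_le hp.pos).trans ?_
    rw [Set.toFinset_card, ← Nat.card_eq_fintype_card]
    have h3 : Nat.card (zpowers z) = p := by rw [Nat.card_zpowers, hz]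
    exact h3.ge
  have h3 := Finset.eq_of_subset_of_card_le h1 h2
  have h4 : s ∈ Finset.univ.filter fun x : Q => x ^ p = 1 := Finset.mem_filter.2 ⟨Finset.mem_univ _, hs⟩
  rw [← h3, Set.mem_toFinset] at h4
  exact h4

/-- **a degree** -/
theorem degree_of_cyclic {p : ℕ} [hp : Fact p.Prime] {P : Type u} [Group P] [Finite P] (hP : IsPGroup p P)
    (H : Subgroup P) [hH : H.Normal] (hab : ∀ x ∈ H, ∀ y ∈ H, x * y = y * x)
    (hcyc : ∃ t : P, ∀ x : P, ∃ k : ℕ, x * t ^ k ∈ H) (hC : ∀ x : P, (∀ y ∈ H, x * y = y * x) → x ∈ H) :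
    ∃ φ : IrrCharacter P, charDegree (φ : P → ℂ) = H.index := by
  classical
  have := Fintype.ofFinite P
  by_cases hHt : H = ⊤
  · refine ⟨⟨fun _ => 1, Blocks.Basic.isIrrCharacter_one⟩, ?_⟩
    rw [hHt, index_top]
    exact H672.charDegree_of_eq (by simp)
  have hcyc' : IsCyclic (P ⧸ H) := by
    obtain ⟨t, ht⟩ := hcyc
    refine ⟨⟨(t : P ⧸ H), fun x => ?_⟩⟩
    obtain ⟨x, rfl⟩ := QuotientGroup.mk_surjective x
    obtain ⟨k, hk⟩ := ht x
    have h1 : (x : P ⧸ H) * (t : P ⧸ H) ^ k = 1 := by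
      rw [← QuotientGroup.mk_pow, ← QuotientGroup.mk_mul]
      exact (QuotientGroup.eq_one_iff _).2 hk
    rw [eq_inv_of_mul_eq_one_left h1]
    exact inv_mem (npow_mem_zpowers _ _)
  have hQp : IsPGroup p (P ⧸ H) := hP.to_quotient H
  have hpQ : p ∣ Nat.card (P ⧸ H) := by
    obtain ⟨n, hn⟩ := (IsPGroup.iff_card).1 hQp
    have h1 : n ≠ 0 := by
      rintro rfl
      rw [pow_zero] at hn
      apply hHt
      rw [← index_eq_one]
      exact hn
    rw [hn]
    exact dvd_pow_self p h1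
  obtain ⟨s', hs'⟩ := exists_prime_orderOf_dvd_card' p hpQ
  obtain ⟨s, rfl⟩ := QuotientGroup.mk_surjective s'
  have hsH : s ∉ H := by
    intro h1
    rw [(QuotientGroup.eq_one_iff s).2 h1, orderOf_one] at hs'
    exact hp.out.one_lt.ne hs'
  -- `s` moves an element and a character of `H`
  obtain ⟨y, hyH, hy⟩ : ∃ y ∈ H, s * y ≠ y * s := by
    by_contra hcon
    push Not at hcon
    exact hsH (hC s hcon)
  let _ : CommGroup H := { (inferInstance : Group H) with mul_comm := fun a b => Subtype.ext (hab a a.2 b b.2) }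
  obtain ⟨l, hl⟩ : ∃ l : H →* ℂˣ, l ⟨s * y * s⁻¹, hH.conj_mem y hyH s⟩ ≠ l ⟨y, hyH⟩ := by
    have h1 : (⟨s * y * s⁻¹, hH.conj_mem y hyH s⟩ : H) / ⟨y, hyH⟩ ≠ 1 := by
      intro h2
      rw [div_eq_one] at h2
      exact hy (mul_inv_eq_iff_eq_mul.1 (congrArg Subtype.val h2))
    obtain ⟨l, hl⟩ := CommGroup.exists_apply_ne_one_of_hasEnoughRootsOfUnity H ℂ h1
    refine ⟨l, fun h2 => hl ?_⟩
    rw [map_div, h2, div_self']
  have hirr : IsIrrCharacter P (indFun H (fun x => (l x : ℂ))) := by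
    refine OddOrderCharacters.PF9.MackeyIrr.isIrr_ind H l fun g hg => ?_
    by_contra hgH
    -- the stabilizer
    obtain ⟨I, hI⟩ : ∃ I : Subgroup P, ∀ g, g ∈ I ↔ ∀ n : H, (l ⟨g * n * g⁻¹, hH.conj_mem (n : P) n.2 g⟩ : ℂ) = l n :=
      ⟨H672.inertia H (fun x => (l x : ℂ)), fun g => H672.mem_inertia_iff⟩
    have hgI : g ∈ I := (hI g).2 fun n => by rw [hg n ⟨g * n * g⁻¹, hH.conj_mem (n : P) n.2 g⟩ rfl]
    have hHI : H ≤ I := by
      intro x hx
      refine (hI x).2 fun n => ?_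
      have h1 : (⟨x * n * x⁻¹, hH.conj_mem (n : P) n.2 x⟩ : H) = n := by
        apply Subtype.ext
        show x * n * x⁻¹ = n
        rw [hab x hx n n.2, mul_inv_cancel_right]
      rw [h1]
    have hsI : s ∉ I := by
      intro h1
      exact hl (Units.ext ((hI s).1 h1 ⟨y, hyH⟩))
    -- a power of `g` of order `p`
    obtain ⟨k, hk⟩ := (IsPGroup.iff_orderOf).1 hQp (g : P ⧸ H)
    have hg1 : (g : P ⧸ H) ≠ 1 := fun h => hgH ((QuotientGroup.eq_one_iff g).1 h)
    have hk0 : k ≠ 0 := by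
      rintro rfl
      rw [pow_zero, orderOf_eq_one_iff] at hk
      exact hg1 hk
    obtain ⟨j, rfl⟩ := Nat.exists_eq_succ_of_ne_zero hk0
    have hz : orderOf ((g : P ⧸ H) ^ p ^ j) = p := by
      rw [orderOf_pow, hk, pow_succ, Nat.gcd_eq_right (Dvd.intro _ rfl), Nat.mul_div_cancel_left _ (pow_pos hp.out.pos j)]
    have h1 := mem_zpowers_of_order hp.out hz (s := (s : P ⧸ H)) (by rw [← hs', pow_orderOf_eq_one])
    obtain ⟨m, hm⟩ := h1
    apply hsI
    have h2 : ((g ^ p ^ j) ^ m)⁻¹ * s ∈ H := by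
      rw [← QuotientGroup.eq]
      rw [QuotientGroup.mk_zpow, QuotientGroup.mk_pow]
      exact hm
    have h3 := I.mul_mem (I.zpow_mem (I.pow_mem hgI (p ^ j)) m) (hHI h2)
    rwa [mul_inv_cancel_left] at h3
  refine ⟨⟨_, hirr⟩, ?_⟩
  refine H672.charDegree_of_eq ?_
  show indFun H (fun x => (l x : ℂ)) 1 = _
  rw [OddOrderCharacters.IndRes.indFun_apply_one, map_one, Units.val_one, mul_one]

/-- a subgroup of index prime to `p` contains a conjugate of the Sylow subgroup -/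
theorem exists_conj_mem {p : ℕ} [hp : Fact p.Prime] {A : Type u} [Group A] [Finite A] (P : Sylow p A)
    {I : Subgroup A} (hI : ¬ p ∣ I.index) : ∃ g : A, ∀ x ∈ (P : Subgroup A), g * x * g⁻¹ ∈ I := by
  classical
  obtain ⟨Q⟩ : Nonempty (Sylow p I) := inferInstance
  have hQ : IsPGroup p ↥((Q : Subgroup I).map I.subtype) := Q.2.map _
  have hidx : ¬ p ∣ ((Q : Subgroup I).map I.subtype).index := by
    rw [index_map_subtype]
    intro h
    rcases (hp.out.dvd_mul).1 h with h1 | h1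
    · exact Q.not_dvd_index h1
    · exact hI h1
  obtain ⟨g, hg⟩ := MulAction.exists_smul_eq A P (hQ.toSylow hidx)
  refine ⟨g, fun x hx => ?_⟩
  have h1 : g * x * g⁻¹ ∈ ((g • P : Sylow p A) : Subgroup A) := by
    rw [Sylow.coe_subgroup_smul]
    exact ⟨x, hx, rfl⟩
  rw [hg] at h1
  obtain ⟨y, -, hy⟩ := h1
  rw [← hy]
  exact y.2

theorem mem_comp_equiv {M : Ideal AlgInt} {H K : Type*} [Group H] [Group K] (e : H ≃* K) {χ : K → ℂ}
    (hχ : IsIrrCharacter K χ) (hχ' : IsIrrCharacter H (χ ∘ e)) :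
    (⟨χ ∘ e, hχ'⟩ : IrrCharacter H) ∈ principalBlock M H ↔
      (⟨χ, hχ⟩ : IrrCharacter K) ∈ principalBlock M K := by
  have h1 : ∀ (ψ : K → ℂ) (h : H), centralChar (ψ ∘ e) h = centralChar ψ (e h) := fun ψ h =>
    Cfsg.Agent.Blocks.Covering.centralChar_comp_equiv e ψ h
  constructor
  · intro h g
    obtain ⟨g, rfl⟩ := e.surjective g
    have h2 := h g
    have h3 := h1 (fun _ => 1) g
    have h4 := h1 χ g
    show MemLocalIdeal M (centralChar (fun _ => 1) (e g) - centralChar χ (e g))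
    rw [← h3, ← h4]
    exact h2
  · intro h g
    have h2 := h (e g)
    have h3 := h1 (fun _ => 1) g
    have h4 := h1 χ g
    show MemLocalIdeal M (centralChar ((fun _ => 1) ∘ e) g - centralChar (χ ∘ e) g)
    rw [h3, h4]
    exact h2

/-- **a character of degree prime to `p` of the principal block moved by every Sylow subgroup** -/
theorem good_of_orbit {p : ℕ} [Fact p.Prime] {M : Ideal AlgInt} (hM : IsPModular p M) {A : Type u} [Group A] [Finite A]
    (N : Subgroup A) [N.Normal] (P : Sylow p A) {a : ℕ} (ha : 0 < a) (hcd : CD p a (P : Subgroup A))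
    (hab : ∀ x ∈ (P : Subgroup A), x ∈ N → ∀ y ∈ (P : Subgroup A), y ∈ N → x * y = y * x)
    (hcyc : ∃ t ∈ (P : Subgroup A), ∀ x ∈ (P : Subgroup A), ∃ k : ℕ, x * t ^ k ∈ N)
    (hC : ∀ x ∈ (P : Subgroup A), (∀ y ∈ (P : Subgroup A), y ∈ N → x * y = y * x) → x ∈ N)
    (ψ : IrrCharacter N) (hψ : ψ ∈ principalBlock M N) (hdeg : ¬ p ∣ charDegree (ψ : N → ℂ))
    (hmv : ∀ g : A, ∃ x ∈ (P : Subgroup A), ∃ n n' : N, (n' : A) = (g * x * g⁻¹) * n * (g * x * g⁻¹)⁻¹ ∧
      (ψ : N → ℂ) n' ≠ (ψ : N → ℂ) n) : GoodOn p a M N := by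
  classical
  have hpp : p.Prime := Fact.out
  have := Fintype.ofFinite A
  have hMp : M.IsPrime := Cfsg.Agent.Blocks.Local.isPrime_of_isPModular hM
  obtain ⟨K, hK⟩ : ∃ K : Subgroup A, K = N ⊔ (P : Subgroup A) := ⟨_, rfl⟩
  have hNK : N ≤ K := hK ▸ le_sup_left
  have hPK : (P : Subgroup A) ≤ K := hK ▸ le_sup_right
  have := Fintype.ofFinite K
  have := Fintype.ofFinite N
  have := Fintype.ofFinite (N.subgroupOf K)
  have hN' : (N.subgroupOf K).Normal := inferInstance
  -- the character of `N.subgroupOf K`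
  obtain ⟨e, he⟩ : ∃ e : N.subgroupOf K ≃* N, ∀ x, ((e x : N) : A) = ((x : K) : A) :=
    ⟨subgroupOfEquivOfLe hNK, fun x => rfl⟩
  have hψ'i : IsIrrCharacter (N.subgroupOf K) ((ψ : N → ℂ) ∘ e) :=
    Characters.Core.isIrr_comp e.toMonoidHom e.surjective ψ.2
  have hψ' : (⟨(ψ : N → ℂ) ∘ e, hψ'i⟩ : IrrCharacter (N.subgroupOf K)) ∈ principalBlock M (N.subgroupOf K) :=
    (mem_comp_equiv e ψ.2 hψ'i).2 hψ
  have hdeg' : charDegree ((ψ : N → ℂ) ∘ e) = charDegree (ψ : N → ℂ) := by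
    unfold charDegree
    rw [Function.comp_apply, map_one]
  -- the index
  obtain ⟨φ, hφ⟩ := degree_of_cyclic (p := p) P.2 (N.subgroupOf (P : Subgroup A))
    (fun x hx y hy => Subtype.ext (hab x x.2 hx y y.2 hy))
    (by
      obtain ⟨t, ht, h⟩ := hcyc
      refine ⟨⟨t, ht⟩, fun x => ?_⟩
      obtain ⟨k, hk⟩ := h x x.2
      exact ⟨k, hk⟩)
    (fun x hx => hC x x.2 fun y hy hyN => congrArg Subtype.val (hx ⟨y, hy⟩ hyN))
  have hidx : (N.subgroupOf K).index = (N.subgroupOf (P : Subgroup A)).index := by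
    show N.relIndex K = N.relIndex (P : Subgroup A)
    rw [hK, relIndex_sup_left]
  have hidxa : (N.subgroupOf K).index ∣ p ^ a := by
    rw [hidx, ← hφ]
    rcases hcd.1 φ with h | h
    · rw [h]; exact one_dvd _
    · rw [h]
  have hidxp : ∃ j : ℕ, (N.subgroupOf K).index = p ^ j := by
    obtain ⟨j, -, hj⟩ := (Nat.dvd_prime_pow hpp).1 hidxa
    exact ⟨j, hj⟩
  -- a character of `K` over `ψ`
  obtain ⟨ξ, hξi, hξo⟩ := H672.exists_over_subtype (N.subgroupOf K) hψ'i
  have hξ : (⟨ξ, hξi⟩ : IrrCharacter K) ∈ principalBlock M K :=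
    H112.HT.over_mem hM (N.subgroupOf K) hidxp hψ' ((H672.over_subtype_iff _ _ _).1 hξo)
  have hvξ : vd p ξ ≤ a := by
    obtain ⟨h1, h2⟩ := H672.charDegree_dvd_of_over (N.subgroupOf K) hξi hψ'i hξo
    obtain ⟨c, hc⟩ := h1
    have hpos := Blocks.Basic.charDegree_pos hψ'i
    rw [hc, Nat.mul_div_cancel_left _ hpos] at h2
    have h3 := h2.trans hidxa
    have hc0 : c ≠ 0 := by
      rintro rfl
      rw [mul_zero] at hc
      exact (Blocks.Basic.charDegree_pos hξi).ne' hc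
    unfold vd
    rw [hc, Nat.factorization_mul hpos.ne' hc0, Finsupp.add_apply, hdeg',
      Nat.factorization_eq_zero_of_not_dvd hdeg, zero_add]
    have h4 := (Nat.factorization_le_iff_dvd hc0 (pow_ne_zero a hpp.ne_zero)).2 h3 p
    rwa [hpp.factorization_pow, Finsupp.single_eq_same] at h4
  obtain ⟨χ, hχ, hv, hover⟩ := H362.HT.exists_over hM P K hPK ⟨ξ, hξi⟩ hξ
  have ho1 : H672.Over K.subtype (χ : A → ℂ) ξ := (H672.over_subtype_iff _ _ _).2 hover
  have ho2 : H672.Over (K.subtype.comp (N.subgroupOf K).subtype) (χ : A → ℂ) ((ψ : N → ℂ) ∘ e) :=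
    (H672.over_comp_iff K.subtype (N.subgroupOf K).subtype (Characters.Core.isIrr_isCharacter χ.2) hψ'i).2
      ⟨ξ, hξi, ho1, hξo⟩
  have ho : H672.Over N.subtype (χ : A → ℂ) (ψ : N → ℂ) := by
    refine (H672.over_comp_equiv N.subtype e (χ : A → ℂ) (ψ : N → ℂ)).1 ?_
    have h1 : N.subtype.comp e.toMonoidHom = K.subtype.comp (N.subgroupOf K).subtype := MonoidHom.ext he
    rw [h1]
    exact ho2
  refine ⟨χ, hχ, ?_, ?_, hv.trans hvξ⟩
  · -- `N` is not in the kernel
    by_contra hcon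
    push Not at hcon
    have h1 : classInner (fun n : N => (χ : A → ℂ) n) (ψ : N → ℂ) ≠ 0 := (H672.over_subtype_iff _ _ _).1 ho
    have h2 : (fun n : N => (χ : A → ℂ) n) = (χ : A → ℂ) 1 • (1 : N → ℂ) := by
      funext n
      rw [hcon n n.2]
      simp
    rw [h2, Characters.Core.classInner_smul_left] at h1
    have h3 : (1 : N → ℂ) = ψ := by
      by_contra hne
      exact h1 (by rw [Characters.Core.classInner_irr_ne Characters.Core.isIrr_one ψ.2 hne, mul_zero])
    obtain ⟨x, -, n, n', -, h4⟩ := hmv 1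
    rw [← h3] at h4
    exact h4 rfl
  · -- the height is positive
    rw [Nat.pos_iff_ne_zero]
    intro h0
    have hpos := Blocks.Basic.charDegree_pos χ.2
    have h1 : ¬ p ∣ charDegree (χ : A → ℂ) := by
      intro h
      have h2 := hpp.factorization_pos_of_dvd hpos.ne' h
      unfold vd at h0
      omega
    have h2 : (H672.inertia N (ψ : N → ℂ)).index ∣ charDegree (χ : A → ℂ) :=
      (dvd_mul_right _ _).trans (H672.index_mul_charDegree_dvd N χ.2 ψ.2 ho)
    obtain ⟨g, hg⟩ := exists_conj_mem P (fun h => h1 (h.trans h2))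
    obtain ⟨x, hx, n, n', hn, hne⟩ := hmv g
    apply hne
    have h3 := H672.mem_inertia_iff.1 (hg x hx) n
    exact (congrArg (ψ : N → ℂ) (Subtype.ext hn)).trans h3

end Cfsg.Agent.H352.HT
end

-- part: H37/HT/Moved
section
/-!
# S4933, part (O), Theorem A (helper37)

If every `ψ` of `p'`-degree of the principal block satisfies `ψ ∘ α = ψ ∘ d` with `F ∘ d = F`, then
`F (α y) ≡ F y` modulo `p` at all `p`-elements `y` (the Sylow `p`-subgroups are abelian).
-/

set_option autoImplicit false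
set_option linter.unusedSectionVars false

open scoped ComplexConjugate Pointwise
open Cfsg Cfsg.Agent.Characters.Core Subgroup

namespace Cfsg.Agent.H37.HT

universe u

section general

variable {N : Type u} [Group N] {p : ℕ}

/-- the `p`-section of `y` -/
def Sec (p : ℕ) (y : N) : Set N := {x | ∃ z, IsPPart p x z ∧ IsConj y z}

theorem IsPPart.conj {x z : N} (h : IsPPart p x z) (g : N) : IsPPart p (g * x * g⁻¹) (g * z * g⁻¹) := by
  obtain ⟨w, h1, h2, ⟨k, h3⟩, h4⟩ := h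
  refine ⟨g * w * g⁻¹, ?_, ?_, ⟨k, ?_⟩, ?_⟩
  · rw [← h1]; group
  · have := h2.map (MulAut.conj g).toMonoidHom
    simpa only [_root_.Commute.conj_iff, _root_.MulEquiv.toMonoidHom_eq_coe, _root_.MonoidHom.coe_coe, _root_.MulAut.conj_apply] using this
  · rw [← h3]; exact (MulAut.conj g).orderOf_eq z
  · rw [show orderOf (g * w * g⁻¹) = orderOf w from (MulAut.conj g).orderOf_eq w]; exact h4

theorem sec_conj {y x : N} (h : x ∈ Sec p y) (g : N) : g * x * g⁻¹ ∈ Sec p y := by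
  obtain ⟨z, h1, h2⟩ := h
  exact ⟨_, IsPPart.conj h1 g, h2.trans (isConj_iff.2 ⟨g, rfl⟩)⟩

theorem sec_conj_iff {y x : N} (g : N) : g * x * g⁻¹ ∈ Sec p y ↔ x ∈ Sec p y := by
  constructor
  · intro h
    have := sec_conj h g⁻¹
    convert this using 1
    group
  · exact fun h => sec_conj h g

theorem IsPPart.aut {x z : N} (h : IsPPart p x z) (α : MulAut N) : IsPPart p (α x) (α z) := by
  obtain ⟨w, h1, h2, ⟨k, h3⟩, h4⟩ := h
  refine ⟨α w, ?_, ?_, ⟨k, ?_⟩, ?_⟩
  · rw [← h1, map_mul]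
  · exact h2.map (α : N ≃* N).toMonoidHom
  · rw [← h3]; exact α.orderOf_eq z
  · rw [show orderOf (α w) = orderOf w from α.orderOf_eq w]; exact h4

theorem isConj_aut {x z : N} (h : IsConj x z) (α : MulAut N) : IsConj (α x) (α z) := by
  obtain ⟨g, hg⟩ := isConj_iff.1 h
  exact isConj_iff.2 ⟨α g, by rw [← hg, map_mul, map_mul, map_inv]⟩

theorem sec_aut (α : MulAut N) (y x : N) : α x ∈ Sec p (α y) ↔ x ∈ Sec p y := by
  constructor
  · rintro ⟨z, h1, h2⟩
    refine ⟨α⁻¹ z, ?_, ?_⟩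
    · have := IsPPart.aut h1 α⁻¹
      simpa using this
    · have := isConj_aut h2 α⁻¹
      simpa only [_root_.MulAut.inv_apply, _root_.isConj_iff, _root_.MulEquiv.symm_apply_apply] using this
  · rintro ⟨z, h1, h2⟩
    exact ⟨α z, IsPPart.aut h1 α, isConj_aut h2 α⟩

variable [Finite N] [Fact p.Prime]

/-- a `p`-element in the section of `y` is conjugate to `y` -/
theorem mem_sec_iff {y x : N} (hx : IsP p x) : x ∈ Sec p y ↔ IsConj y x := by
  have h1 : IsPPart p x x := by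
    obtain ⟨k, hk⟩ := hx
    obtain ⟨j, -, hj⟩ := (Nat.dvd_prime_pow (Fact.out : p.Prime)).1 (orderOf_dvd_of_pow_eq_one hk)
    refine ⟨1, mul_one x, Commute.one_right x, ⟨j, hj⟩, ?_⟩
    rw [orderOf_one]
    exact (Fact.out : p.Prime).one_lt.ne' ∘ Nat.dvd_one.1
  constructor
  · rintro ⟨z, h2, h3⟩
    rwa [← Cfsg.Agent.Blocks.PPart.isPPart_unique h2 h1]
  · exact fun h => ⟨x, h1, h⟩

theorem isP_of_mem (P : Sylow p N) {x : N} (hx : x ∈ (P : Subgroup N)) : IsP p x := by
  obtain ⟨k, hk⟩ := P.2 ⟨x, hx⟩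
  exact ⟨k, by simpa only [_root_.SubmonoidClass.mk_pow, _root_.OneMemClass.coe_one] using congrArg Subtype.val hk⟩

theorem isP_conj {x : N} (h : IsP p x) (g : N) : IsP p (g * x * g⁻¹) := by
  obtain ⟨k, hk⟩ := h
  exact ⟨k, by rw [conj_pow, hk]; group⟩

omit [Finite N] [Fact p.Prime] in
theorem isP_aut {x : N} (h : IsP p x) (α : MulAut N) : IsP p (α x) := by
  obtain ⟨k, hk⟩ := h
  exact ⟨k, by rw [← map_pow, hk, map_one]⟩

/-- sums of class functions over a Sylow subgroup do not change under automorphisms -/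
theorem sum_aut (P : Sylow p N) [Fintype (P : Subgroup N)] {h : N → ℂ} (hh : ∀ g x, h (g * x * g⁻¹) = h x) (β : MulAut N) :
    ∑ x : (P : Subgroup N), h (β x) = ∑ x : (P : Subgroup N), h x := by
  classical
  have : Fintype N := Fintype.ofFinite N
  -- β P = g P g⁻¹
  obtain ⟨g, hg⟩ := MulAction.exists_smul_eq N (β • P) P
  have hmem : ∀ x : N, x ∈ (P : Subgroup N) ↔ g * β x * g⁻¹ ∈ (P : Subgroup N) := by
    intro x
    have h1 : (P : Subgroup N) = (MulAut.conj g * β) • (P : Subgroup N) := by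
      conv_lhs => rw [← hg]
      rw [mul_smul]; rfl
    constructor
    · intro hx
      rw [h1]
      exact Subgroup.smul_mem_pointwise_smul _ (MulAut.conj g * β) _ hx
    · intro hx
      rw [h1] at hx
      obtain ⟨z, hz, hz'⟩ := hx
      have h2 : (MulAut.conj g * β) z = (MulAut.conj g * β) x := hz'
      have h3 := (MulAut.conj g * β).injective h2
      rw [← h3]; exact hz
  refine Finset.sum_bij (fun x _ => ⟨g * β x * g⁻¹, (hmem x).1 x.2⟩) (fun _ _ => Finset.mem_univ _) ?_ ?_ ?_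
  · intro a _ b _ hab
    have h1 := congrArg Subtype.val hab
    have h2 : β (a : N) = β (b : N) := by simpa only [_root_.EmbeddingLike.apply_eq_iff_eq, _root_.SetLike.coe_eq_coe, _root_.mul_left_inj, _root_.mul_right_inj] using h1
    exact Subtype.ext (β.injective h2)
  · intro b _
    refine ⟨⟨β⁻¹ (g⁻¹ * b * g), ?_⟩, Finset.mem_univ _, ?_⟩
    · rw [hmem, MulAut.apply_inv_self]
      have : g * (g⁻¹ * (b : N) * g) * g⁻¹ = b := by group
      rw [this]; exact b.2
    · apply Subtype.ext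
      show g * β (β⁻¹ (g⁻¹ * b * g)) * g⁻¹ = b
      rw [MulAut.apply_inv_self]; group
  · intro a _
    exact (hh g (β a)).symm

end general

section chars

variable {N : Type u} [Group N] [Finite N] {p : ℕ} [Fact p.Prime]

/-- composition with an automorphism -/
def compA (χ : IrrCharacter N) (α : MulAut N) : IrrCharacter N :=
  ⟨fun x => (χ : N → ℂ) (α x), isIrr_comp (α : N ≃* N).toMonoidHom (α : N ≃* N).surjective χ.2⟩

omit [Finite N] in
theorem compA_apply (χ : IrrCharacter N) (α : MulAut N) (x : N) : (compA χ α : N → ℂ) x = (χ : N → ℂ) (α x) := rfl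

open scoped Classical in
/-- the sum over a section -/
noncomputable def secSum (p : ℕ) [Fintype N] (χ : N → ℂ) (y : N) : ℂ := ∑ x : N, if x ∈ Sec p y then χ x else 0

theorem secSum_aut [Fintype N] (χ : IrrCharacter N) (α : MulAut N) (y : N) :
    secSum p (χ : N → ℂ) (α y) = secSum p (compA χ α : N → ℂ) y := by
  classical
  unfold secSum
  refine (Fintype.sum_equiv (α : N ≃* N).toEquiv _ _ fun x => ?_).symm
  show (if x ∈ Sec p y then (χ : N → ℂ) (α x) else 0) = if α x ∈ Sec p (α y) then (χ : N → ℂ) (α x) else 0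
  simp only [sec_aut α y x]

theorem secSum_eq_zero {M : Ideal AlgInt} (hM : IsPModular p M) [Fintype N] (χ : IrrCharacter N)
    (hχ : χ ∉ principalBlock M N) (y : N) : secSum p (χ : N → ℂ) y = 0 := by
  classical
  by_contra h
  apply hχ
  apply Cfsg.Agent.H892.EP.mem_of_section_sum hM χ y
  intro h0
  apply h
  rw [finsum_mem_eq_finite_toFinset_sum _ (Set.toFinite _)] at h0
  rw [← h0]
  unfold secSum
  rw [← Finset.sum_filter]
  refine Finset.sum_congr ?_ fun _ _ => rfl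
  ext x
  simp only [Sec, _root_.isConj_iff, ↓ _root_.ExistsAndEq.existsAndEq, _root_.and_true, _root_.Set.mem_ofPred_eq, _root_.Finset.mem_filter, _root_.Finset.mem_univ, _root_.true_and, _root_.Set.Finite.toFinset_ofPred]

theorem secSum_integral [Fintype N] (χ : IrrCharacter N) (y : N) :
    ∃ w : ℂ, IsIntegral ℤ w ∧ secSum p (χ : N → ℂ) y = (χ : N → ℂ) 1 * w := by
  classical
  obtain ⟨n, ρ, hρ, hχ⟩ := χ.2
  have h1 := Cfsg.Agent.Characters.CentralCharacter.isIntegral_sum_int ρ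
    (fun x => if x ∈ Sec p y then 1 else 0) (fun x g => by simp only [sec_conj_iff])
  have hd : (χ : N → ℂ) 1 = (Module.finrank ℂ (Fin n → ℂ) : ℂ) := by
    show χ.1 1 = _
    rw [← hχ]; exact ρ.char_one
  have hne : (χ : N → ℂ) 1 ≠ 0 := isIrr_apply_one_ne_zero χ.2
  refine ⟨_, h1, ?_⟩
  rw [← hd, mul_div_cancel₀ _ hne]
  unfold secSum
  refine Finset.sum_congr rfl fun x _ => ?_
  show (if x ∈ Sec p y then χ.1 x else 0) = _
  rw [← hχ]
  split_ifs <;> simp

theorem mem_compA {M : Ideal AlgInt} (hM : IsPModular p M) (χ : IrrCharacter N) (α : MulAut N) :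
    compA χ α ∈ principalBlock M N ↔ χ ∈ principalBlock M N := by
  have key : ∀ (χ : IrrCharacter N) (α : MulAut N), χ ∈ principalBlock M N → compA χ α ∈ principalBlock M N := by
    intro χ α hχ
    apply Cfsg.Agent.H892.EP.mem_of_regSum hM
    have h1 := Cfsg.Agent.H892.EP.regSum_ne_zero hM χ hχ
    intro h0
    apply h1
    rw [← h0]
    rw [finsum_mem_eq_finite_toFinset_sum _ (Set.toFinite _), finsum_mem_eq_finite_toFinset_sum _ (Set.toFinite _)]
    refine (Finset.sum_bij (fun x _ => α x) ?_ ?_ ?_ ?_).symm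
    · intro x hx
      simp only [Set.Finite.mem_toFinset, Set.mem_ofPred_eq] at hx ⊢
      rwa [show orderOf (α x) = orderOf x from α.orderOf_eq x]
    · intro a _ b _ hab
      exact α.injective hab
    · intro b hb
      simp only [Set.Finite.mem_toFinset, Set.mem_ofPred_eq] at hb ⊢
      refine ⟨α⁻¹ b, ?_, MulAut.apply_inv_self _ _ _⟩
      rwa [show orderOf (α⁻¹ b) = orderOf b from (α⁻¹).orderOf_eq b]
    · intro a _
      rfl
  refine ⟨fun h => ?_, key χ α⟩
  have h1 := key _ α⁻¹ h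
  have h2 : compA (compA χ α) α⁻¹ = χ := by
    apply Subtype.ext
    funext x
    show (χ : N → ℂ) (α (α⁻¹ x)) = (χ : N → ℂ) x
    rw [MulAut.apply_inv_self]
  rwa [h2] at h1

/-- the multiplicity of `χ` in the function induced from a Sylow subgroup -/
noncomputable def cf [Fintype N] (P : Sylow p N) (F : N → ℂ) (χ : N → ℂ) : ℂ :=
  classInner (indFun (P : Subgroup N) (fun x => F x)) χ

theorem cf_eq [Fintype N] (P : Sylow p N) [Fintype (P : Subgroup N)] (F : N → ℂ) (χ : IrrCharacter N) :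
    cf P F (χ : N → ℂ) = (Nat.card (P : Subgroup N) : ℂ)⁻¹ * ∑ x : (P : Subgroup N), F x * conj ((χ : N → ℂ) x) := by
  unfold cf
  rw [Cfsg.Agent.Characters.Brauer.classInner_indFun (P : Subgroup N) inferInstance _ _ (isIrr_isClassFunction χ.2)]
  rfl

/-- `F` and `F ∘ d` agree at the `p`-elements: the multiplicities do not change -/
theorem cf_comp [Fintype N] (P : Sylow p N) {F : N → ℂ} (hF : ∀ g x, F (g * x * g⁻¹) = F x) (χ : IrrCharacter N)
    (d : MulAut N) (hd : ∀ x : N, IsP p x → F (d x) = F x) :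
    cf P F (compA χ d : N → ℂ) = cf P F (χ : N → ℂ) := by
  classical
  have : Fintype (P : Subgroup N) := Fintype.ofFinite _
  rw [cf_eq, cf_eq]
  congr 1
  have h1 := sum_aut P (h := fun x => F x * conj ((χ : N → ℂ) x)) (fun g x => by
    simp only [hF]
    rw [isIrr_isClassFunction χ.2 x g]) d
  rw [← h1]
  refine Finset.sum_congr rfl fun x _ => ?_
  rw [compA_apply, hd _ (isP_of_mem P x.2)]

/-- the multiplicities are natural numbers -/
theorem cf_nat [Fintype N] (P : Sylow p N) {F : N → ℂ} (hF : IsCharacter (P : Subgroup N) (fun x => F x))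
    (χ : IrrCharacter N) : ∃ n : ℕ, cf P F (χ : N → ℂ) = n := by
  have : Fintype (P : Subgroup N) := Fintype.ofFinite _
  unfold cf
  exact classInner_isNat (Cfsg.Agent.Characters.Brauer.isCharacter_indFun (P : Subgroup N) hF) (isIrr_isCharacter χ.2)

open scoped Classical in
/-- the number of conjugates of `y` in `P` -/
noncomputable def kk (P : Sylow p N) (y : N) : ℕ := Nat.card {x : (P : Subgroup N) // IsConj y (x : N)}

open scoped Classical in
/-- **the total sum** -/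
theorem total [Fintype N] [Fintype (IrrCharacter N)] (P : Sylow p N) {F : N → ℂ} (hF : ∀ g x, F (g * x * g⁻¹) = F x)
    (y : N) :
    ∑ χ : IrrCharacter N, cf P F (χ : N → ℂ) * secSum p (χ : N → ℂ) y =
      ((P : Subgroup N).index : ℂ) * kk P y * F y := by
  have : Fintype (P : Subgroup N) := Fintype.ofFinite _
  set E : N → ℂ := fun x => if x ∈ Sec p y then 1 else 0 with hE
  have hEc : IsClassFunction N E := by
    intro x g
    simp only [hE, sec_conj_iff]
  have hI : IsClassFunction N (indFun (P : Subgroup N) (fun x => F x)) :=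
    Cfsg.Agent.Characters.Brauer.indFun_isClassFunction _ _
  have h1 := classInner_eq_sum hI hEc
  have h2 := Cfsg.Agent.Characters.Brauer.classInner_indFun (P : Subgroup N) inferInstance (fun x => F x) E hEc
  have h3 : classInner (fun x : (P : Subgroup N) => F x) (fun x : (P : Subgroup N) => E x) =
      (Nat.card (P : Subgroup N) : ℂ)⁻¹ * (kk P y * F y) := by
    rw [classInner_def]
    congr 1
    have h4 : ∀ x : (P : Subgroup N), F x * conj (E x) = if IsConj y (x : N) then F y else 0 := by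
      intro x
      have h5 := mem_sec_iff (p := p) (y := y) (isP_of_mem P x.2)
      simp only [hE, h5]
      split_ifs with h6
      · obtain ⟨g, hg⟩ := isConj_iff.1 h6
        rw [map_one, mul_one, ← hg, hF]
      · rw [map_zero, mul_zero]
    rw [Finset.sum_congr rfl fun x _ => h4 x, ← Finset.sum_filter, Finset.sum_const, nsmul_eq_mul]
    congr 1
    unfold kk
    rw [Nat.card_eq_fintype_card, Fintype.card_subtype]
  have h4 : ∀ χ : IrrCharacter N, conj (classInner E (χ : N → ℂ)) = (Nat.card N : ℂ)⁻¹ * secSum p (χ : N → ℂ) y := by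
    intro χ
    rw [classInner_def, map_mul, map_inv₀, map_natCast, map_sum]
    congr 1
    unfold secSum
    refine Finset.sum_congr rfl fun x _ => ?_
    simp only [hE]
    split_ifs <;> simp
  rw [h2, h3] at h1
  have hN : (Nat.card N : ℂ) ≠ 0 := card_ne_zero_complex
  have hP : (Nat.card (P : Subgroup N) : ℂ) ≠ 0 := card_ne_zero_complex
  have h5 : ∑ χ : IrrCharacter N, cf P F (χ : N → ℂ) * secSum p (χ : N → ℂ) y =
      (Nat.card N : ℂ) * ∑ χ : IrrCharacter N,
        classInner (indFun (P : Subgroup N) (fun x => F x)) (χ : N → ℂ) * conj (classInner E (χ : N → ℂ)) := by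
    rw [Finset.mul_sum]
    refine Finset.sum_congr rfl fun χ _ => ?_
    rw [h4]
    unfold cf
    field_simp
  rw [h5, ← h1]
  have h6 : (Nat.card N : ℂ) = Nat.card (P : Subgroup N) * (P : Subgroup N).index := by
    rw [← Nat.cast_mul, Subgroup.card_mul_index]
  rw [h6]
  field_simp

/-- the number of conjugates of `y` in the abelian Sylow subgroup `P` is prime to `p` -/
theorem not_dvd_kk (P : Sylow p N) (hab : ∀ x ∈ (P : Subgroup N), ∀ z ∈ (P : Subgroup N), x * z = z * x)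
    {y : N} (hy : y ∈ (P : Subgroup N)) : ¬ p ∣ kk P y := by
  classical
  have hP : IsPGroup p (P : Subgroup N) := P.2
  -- the action of P on the class of y
  let X := {x : N // IsConj y x}
  let _ : MulAction (P : Subgroup N) X :=
    { smul := fun g x => ⟨g * x.1 * (g : N)⁻¹, x.2.trans (isConj_iff.2 ⟨g, rfl⟩)⟩
      one_smul := fun x => Subtype.ext (by
        show ((1 : (P : Subgroup N)) : N) * x.1 * ((1 : (P : Subgroup N)) : N)⁻¹ = x.1
        simp only [_root_.OneMemClass.coe_one, _root_.one_mul, _root_.inv_one, _root_.mul_one])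
      mul_smul := fun a b x => Subtype.ext (by
        show ((a * b : (P : Subgroup N)) : N) * x.1 * ((a * b : (P : Subgroup N)) : N)⁻¹ =
          (a : N) * ((b : N) * x.1 * (b : N)⁻¹) * (a : N)⁻¹
        simp only [Subgroup.coe_mul]
        group) }
  have hmod := hP.card_modEq_card_fixedPoints X
  have hfix : Nat.card (MulAction.fixedPoints (P : Subgroup N) X) = kk P y := by
    unfold kk
    refine Nat.card_congr ⟨fun x => ⟨⟨x.1.1, ?_⟩, x.1.2⟩, fun x => ⟨⟨x.1.1, x.2⟩, ?_⟩, fun x => rfl, fun x => rfl⟩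
    · -- x centralises P and is a p-element
      have h1 : ∀ g ∈ (P : Subgroup N), g * x.1.1 * g⁻¹ = x.1.1 := fun g hg =>
        congrArg Subtype.val (x.2 ⟨g, hg⟩)
      have hxp : IsP p x.1.1 := by
        obtain ⟨g, hg⟩ := isConj_iff.1 x.1.2
        rw [← hg]
        exact isP_conj (isP_of_mem P hy) g
      -- zpowers x ≤ normalizer P, P ⊔ zpowers x is a p-group
      have hz : IsPGroup p (Subgroup.zpowers x.1.1) := by
        intro z
        obtain ⟨k, hk⟩ := hxp
        obtain ⟨m, hm⟩ := Subgroup.mem_zpowers_iff.1 z.2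
        refine ⟨k, Subtype.ext ?_⟩
        show (z : N) ^ p ^ k = 1
        rw [← hm, ← zpow_natCast, ← zpow_mul, mul_comm, zpow_mul, zpow_natCast, hk, one_zpow]
      have hnorm : Subgroup.zpowers x.1.1 ≤ Subgroup.normalizer ((P : Subgroup N) : Set N) := by
        rw [Subgroup.zpowers_le, Subgroup.mem_normalizer_iff]
        intro g
        constructor
        · intro hg
          have h2 := h1 g hg
          have h3 : x.1.1 * g * (x.1.1)⁻¹ = g := by
            have h4 : g * x.1.1 = x.1.1 * g := by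
              rw [← mul_inv_eq_iff_eq_mul]; exact h2
            rw [← h4]; group
          rw [h3]; exact hg
        · intro hg
          have h2 := h1 _ hg
          have h5 : x.1.1 * g * (x.1.1)⁻¹ * x.1.1 = x.1.1 * (x.1.1 * g * (x.1.1)⁻¹) :=
            mul_inv_eq_iff_eq_mul.1 h2
          have h6 : g = x.1.1 * g * (x.1.1)⁻¹ := by
            have h7 : x.1.1 * g = x.1.1 * (x.1.1 * g * (x.1.1)⁻¹) := by rw [← h5]; group
            exact mul_left_cancel h7
          rw [h6]; exact hg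
      have hsup : IsPGroup p ((P : Subgroup N) ⊔ Subgroup.zpowers x.1.1 : Subgroup N) :=
        hP.to_sup_of_normal_left' hz hnorm
      have heq := P.3 hsup le_sup_left
      exact heq.le (Subgroup.mem_sup_right (Subgroup.mem_zpowers _))
    · intro g
      apply Subtype.ext
      show (g : N) * x.1.1 * (g : N)⁻¹ = x.1.1
      rw [hab g g.2 x.1.1 x.1.2]; group
  -- the size of the class
  have hX : ¬ p ∣ Nat.card X := by
    have h1 : Nat.card X = (Subgroup.centralizer ({y} : Set N)).index :=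
      (Cfsg.Agent.Characters.CentralCharacter.index_centralizer_eq_card y).symm
    rw [h1]
    have h2 : (P : Subgroup N) ≤ Subgroup.centralizer ({y} : Set N) := by
      intro g hg
      rw [Subgroup.mem_centralizer_singleton_iff]
      exact hab g hg y hy
    intro h3
    exact P.not_dvd_index (h3.trans (Subgroup.index_dvd_of_le h2))
  intro h
  apply hX
  rw [← hfix] at h
  have h1 : Nat.card X ≡ 0 [MOD p] := hmod.trans ((Nat.modEq_zero_iff_dvd).2 h)
  exact (Nat.modEq_zero_iff_dvd).1 h1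

theorem kk_aut (P : Sylow p N) (α : MulAut N) (y : N) : kk P (α y) = kk P y := by
  classical
  have : Fintype N := Fintype.ofFinite N
  have : Fintype (P : Subgroup N) := Fintype.ofFinite _
  have key : ∀ z : N, (kk P z : ℂ) = ∑ x : (P : Subgroup N), if IsConj z (x : N) then (1 : ℂ) else 0 := by
    intro z
    unfold kk
    rw [Nat.card_eq_fintype_card, Fintype.card_subtype, ← Finset.sum_filter, Finset.sum_const, nsmul_eq_mul, mul_one]
  have h1 := sum_aut P (h := fun x => if IsConj (α y) x then (1 : ℂ) else 0) (fun g x => by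
    have : IsConj (α y) (g * x * g⁻¹) ↔ IsConj (α y) x :=
      ⟨fun h => h.trans (isConj_iff.2 ⟨g⁻¹, by group⟩), fun h => h.trans (isConj_iff.2 ⟨g, rfl⟩)⟩
    simp only [this]) α
  have h2 : (kk P (α y) : ℂ) = kk P y := by
    rw [key, key, ← h1]
    refine Finset.sum_congr rfl fun x _ => ?_
    have : IsConj (α y) (α x) ↔ IsConj y (x : N) := by
      constructor
      · intro h
        have := isConj_aut h α⁻¹
        simpa only [_root_.isConj_iff, _root_.MulAut.inv_apply, _root_.MulEquiv.symm_apply_apply] using this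
      · exact fun h => isConj_aut h α
    simp only [this]
  exact_mod_cast h2

end chars

section main

variable {N : Type u} [Group N] [Finite N] {p : ℕ} [Fact p.Prime]

/-- algebraic integers divisible by `p` -/
def InP (p : ℕ) (z : ℂ) : Prop := ∃ w : ℂ, IsIntegral ℤ w ∧ z = p * w

theorem InP.add {a b : ℂ} (ha : InP p a) (hb : InP p b) : InP p (a + b) := by
  obtain ⟨w, h1, rfl⟩ := ha
  obtain ⟨v, h2, rfl⟩ := hb
  exact ⟨w + v, h1.add h2, by ring⟩

theorem InP.neg {a : ℂ} (ha : InP p a) : InP p (-a) := by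
  obtain ⟨w, h1, rfl⟩ := ha
  exact ⟨-w, h1.neg, by ring⟩

theorem InP.sub {a b : ℂ} (ha : InP p a) (hb : InP p b) : InP p (a - b) := by
  rw [sub_eq_add_neg]; exact ha.add hb.neg

theorem InP.zero : InP p (0 : ℂ) := ⟨0, isIntegral_zero, by ring⟩

theorem InP.sum {ι : Type*} (s : Finset ι) (f : ι → ℂ) (h : ∀ i ∈ s, InP p (f i)) : InP p (∑ i ∈ s, f i) := by
  classical
  induction s using Finset.induction_on with
  | empty => simpa using InP.zero
  | insert a s ha ih =>
    rw [Finset.sum_insert ha]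
    exact (h a (Finset.mem_insert_self _ _)).add (ih fun i hi => h i (Finset.mem_insert_of_mem hi))

theorem InP.of_mul {n : ℕ} (hn : ¬ p ∣ n) {a : ℂ} (ha : IsIntegral ℤ a) (h : InP p ((n : ℂ) * a)) : InP p a := by
  obtain ⟨w, h1, h2⟩ := h
  have hcop : IsCoprime (p : ℤ) (n : ℤ) :=
    Nat.isCoprime_iff_coprime.2 ((Nat.Prime.coprime_iff_not_dvd Fact.out).2 hn)
  obtain ⟨u, v, huv⟩ := hcop
  refine ⟨(u : ℂ) * a + (v : ℂ) * w, ?_, ?_⟩
  · exact ((isIntegral_algebraMap (R := ℤ) (x := u)).mul ha).add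
      ((isIntegral_algebraMap (R := ℤ) (x := v)).mul h1)
  · have h3 : (u : ℂ) * p + v * n = 1 := by exact_mod_cast congrArg (Int.cast : ℤ → ℂ) huv
    calc a = ((u : ℂ) * p + v * n) * a := by rw [h3, one_mul]
      _ = p * ((u : ℂ) * a) + v * (n * a) := by ring
      _ = p * ((u : ℂ) * a + v * w) := by rw [h2]; ring

theorem charDegree_cast (χ : IrrCharacter N) : (χ : N → ℂ) 1 = (charDegree (χ : N → ℂ) : ℂ) := by
  obtain ⟨n, -, hn⟩ := isIrr_apply_one χ.2
  rw [charDegree, hn]; simp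

/-- **Theorem A** -/
theorem cong_of_inv {M : Ideal AlgInt} (hM : IsPModular p M)
    (hab : AbSyl p N) {r f : ℕ} (D : FD p r f N) (α : MulAut N)
    (h : ∀ ψ : IrrCharacter N, ψ ∈ principalBlock M N → ¬ p ∣ charDegree (ψ : N → ℂ) →
      ∃ d : MulAut N, (∀ x : N, IsP p x → D.F (d x) = D.F x) ∧ ∀ x : N, (ψ : N → ℂ) (α x) = (ψ : N → ℂ) (d x))
    {y : N} (hy : IsP p y) : Cong p (D.F (α y)) (D.F y) := by
  classical
  have : Fintype N := Fintype.ofFinite N
  have : Finite (IrrCharacter N) := finite_irr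
  have : Fintype (IrrCharacter N) := Fintype.ofFinite _
  -- a Sylow subgroup containing `y`
  have hyp : IsPGroup p (Subgroup.zpowers y) := by
    intro z
    obtain ⟨k, hk⟩ := hy
    obtain ⟨m, hm⟩ := Subgroup.mem_zpowers_iff.1 z.2
    refine ⟨k, Subtype.ext ?_⟩
    show (z : N) ^ p ^ k = 1
    rw [← hm, ← zpow_natCast, ← zpow_mul, mul_comm, zpow_mul, zpow_natCast, hk, one_zpow]
  obtain ⟨P, hP⟩ := hyp.exists_le_sylow
  have hyP : y ∈ (P : Subgroup N) := hP (Subgroup.mem_zpowers y)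
  have : Fintype (P : Subgroup N) := Fintype.ofFinite _
  -- `F` is a character of `P`
  obtain ⟨n, l, hl⟩ := D.lin P
  have hchar : IsCharacter (P : Subgroup N) (fun x => D.F x) := by
    have h1 : (fun x : (P : Subgroup N) => D.F x) = ∑ i, fun x : (P : Subgroup N) => ((l i x : ℂˣ) : ℂ) := by
      funext x
      rw [hl, Finset.sum_apply]
    rw [h1]
    exact isCharacter_sum _ fun i _ => isIrr_isCharacter (Cfsg.Agent.CharDeep.LinearChar.isIrrCharacter_of_hom (l i))
  have hFint : ∀ z ∈ (P : Subgroup N), IsIntegral ℤ (D.F z) := by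
    intro z hz
    rw [hl ⟨z, hz⟩]
    refine IsIntegral.sum _ fun i _ => ?_
    obtain ⟨k, hk⟩ := isP_of_mem P hz
    refine IsIntegral.of_pow (n := p ^ k) (pow_pos (Fact.out : p.Prime).pos k) ?_
    have h1 : (l i ⟨z, hz⟩ : ℂˣ) ^ p ^ k = 1 := by
      rw [← map_pow]
      have : (⟨z, hz⟩ : (P : Subgroup N)) ^ p ^ k = 1 := Subtype.ext (by simpa only [_root_.SubmonoidClass.mk_pow, _root_.OneMemClass.coe_one] using hk)
      rw [this, map_one]
    have h2 : ((l i ⟨z, hz⟩ : ℂˣ) : ℂ) ^ p ^ k = 1 := by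
      rw [← Units.val_pow_eq_pow_val, h1, Units.val_one]
    rw [h2]; exact isIntegral_one
  have hFint' : ∀ z : N, IsP p z → IsIntegral ℤ (D.F z) := by
    intro z hz
    have hzp : IsPGroup p (Subgroup.zpowers z) := by
      intro w
      obtain ⟨k, hk⟩ := hz
      obtain ⟨m, hm⟩ := Subgroup.mem_zpowers_iff.1 w.2
      refine ⟨k, Subtype.ext ?_⟩
      show (w : N) ^ p ^ k = 1
      rw [← hm, ← zpow_natCast, ← zpow_mul, mul_comm, zpow_mul, zpow_natCast, hk, one_zpow]
    obtain ⟨Q, hQ⟩ := hzp.exists_le_sylow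
    obtain ⟨g, hg⟩ := MulAction.exists_smul_eq N Q P
    have h1 : g * z * g⁻¹ ∈ (P : Subgroup N) := by
      rw [← hg]
      exact Subgroup.smul_mem_pointwise_smul _ (MulAut.conj g) _ (hQ (Subgroup.mem_zpowers z))
    rw [← D.conj g z]
    exact hFint _ h1
  -- the parts of the total sum
  set A : N → ℂ := fun z => ∑ χ ∈ Finset.univ.filter (fun χ : IrrCharacter N => χ ∈ principalBlock M N ∧
    ¬ p ∣ charDegree (χ : N → ℂ)), cf P D.F (χ : N → ℂ) * secSum p (χ : N → ℂ) z with hA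
  have hpart : ∀ z : N, InP p ((∑ χ : IrrCharacter N, cf P D.F (χ : N → ℂ) * secSum p (χ : N → ℂ) z) - A z) := by
    intro z
    have h1 := Finset.sum_filter_add_sum_filter_not (Finset.univ : Finset (IrrCharacter N))
      (fun χ : IrrCharacter N => χ ∈ principalBlock M N ∧ ¬ p ∣ charDegree (χ : N → ℂ))
      (fun χ => cf P D.F (χ : N → ℂ) * secSum p (χ : N → ℂ) z)
    rw [← h1, hA]
    simp only [add_sub_cancel_left]
    refine InP.sum _ _ fun χ hχ => ?_
    rw [Finset.mem_filter] at hχ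
    have hχ' := hχ.2
    by_cases hb : χ ∈ principalBlock M N
    · have hdvd : p ∣ charDegree (χ : N → ℂ) := by
        by_contra h2
        exact hχ' ⟨hb, h2⟩
      obtain ⟨c, hc⟩ := cf_nat P hchar χ
      obtain ⟨w, hw1, hw2⟩ := secSum_integral (p := p) χ z
      obtain ⟨e, he⟩ := hdvd
      refine ⟨(c : ℂ) * e * w, ((isIntegral_natCast c).mul (isIntegral_natCast e)).mul hw1, ?_⟩
      rw [hc, hw2, charDegree_cast, he]
      push_cast
      ring
    · rw [secSum_eq_zero hM χ hb, mul_zero]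
      exact InP.zero
  -- the good part is invariant
  have hinv : A (α y) = A y := by
    rw [hA]
    refine Finset.sum_bij (fun χ _ => compA χ α) ?_ ?_ ?_ ?_
    · intro χ hχ
      rw [Finset.mem_filter] at hχ ⊢
      refine ⟨Finset.mem_univ _, (mem_compA hM χ α).2 hχ.2.1, ?_⟩
      have : charDegree (compA χ α : N → ℂ) = charDegree (χ : N → ℂ) := by
        unfold charDegree
        rw [compA_apply, map_one]
      rw [this]; exact hχ.2.2
    · intro a _ b _ hab'
      apply Subtype.ext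
      funext x
      have h1 := congrFun (congrArg Subtype.val hab') (α⁻¹ x)
      have h2 : (a : N → ℂ) (α (α⁻¹ x)) = (b : N → ℂ) (α (α⁻¹ x)) := h1
      rwa [MulAut.apply_inv_self] at h2
    · intro b hb
      rw [Finset.mem_filter] at hb
      refine ⟨compA b α⁻¹, ?_, ?_⟩
      · rw [Finset.mem_filter]
        refine ⟨Finset.mem_univ _, (mem_compA hM b α⁻¹).2 hb.2.1, ?_⟩
        have : charDegree (compA b α⁻¹ : N → ℂ) = charDegree (b : N → ℂ) := by
          unfold charDegree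
          rw [compA_apply, map_one]
        rw [this]; exact hb.2.2
      · apply Subtype.ext
        funext x
        show (b : N → ℂ) (α⁻¹ (α x)) = (b : N → ℂ) x
        rw [MulAut.inv_apply_self]
    · intro χ hχ
      rw [Finset.mem_filter] at hχ
      obtain ⟨d, hd1, hd2⟩ := h χ hχ.2.1 hχ.2.2
      have h1 : compA χ α = compA χ d := by
        apply Subtype.ext
        funext x
        exact hd2 x
      rw [secSum_aut]
      congr 1
      rw [h1, cf_comp P D.conj χ d hd1]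
  -- conclusion
  have h1 := hpart (α y)
  have h2 := hpart y
  rw [total P D.conj, hinv] at h1
  rw [total P D.conj] at h2
  have h3 := h1.sub h2
  rw [kk_aut] at h3
  have h4 : ((P : Subgroup N).index : ℂ) * kk P y * D.F (α y) - A y - (((P : Subgroup N).index : ℂ) * kk P y * D.F y - A y) =
      (((P : Subgroup N).index * kk P y : ℕ) : ℂ) * (D.F (α y) - D.F y) := by
    push_cast; ring
  rw [h4] at h3
  have h5 : ¬ p ∣ (P : Subgroup N).index * kk P y := by
    rw [(Fact.out : p.Prime).dvd_mul]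
    rintro (h6 | h6)
    · exact P.not_dvd_index h6
    · exact not_dvd_kk P (hab P) hyP h6
  exact InP.of_mul h5 ((hFint' _ (isP_aut hy α)).sub (hFint' _ hy)) h3

end main

end Cfsg.Agent.H37.HT
end

-- part: H37/HT/Grp
section
/-!
# S4933, part (O): the group theory (helper37)

`exists_moved` : in an almost simple group `A` with socle `N` (abelian Sylow `p`-subgroup), `P ≰ N`, with `FD`-data and the test,
some `ψ` of `p'`-degree in the principal block of `N` is moved by every conjugate of `P`; `P / (P ⊓ N)` is cyclic and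
`P ⊓ N` is self-centralizing in `P`.
-/

set_option autoImplicit false
set_option linter.unusedSectionVars false

open Cfsg Cfsg.Agent.Characters.Core Subgroup
open scoped Pointwise

namespace Cfsg.Agent.H37.HT

universe u v

/-! ### powers -/

section pow

variable {N : Type u} [Group N] {p r f : ℕ}

/-- `r ^ i` acts trivially on `F` -/
def Ze (D : FD p r f N) (i : ℕ) : Prop := ∀ x : N, IsP p x → D.F (x ^ r ^ i) = D.F x

theorem isP_pow {x : N} (h : IsP p x) (k : ℕ) : IsP p (x ^ k) := by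
  obtain ⟨j, hj⟩ := h
  exact ⟨j, by rw [← pow_mul, mul_comm, pow_mul, hj, one_pow]⟩

theorem Ze.add {D : FD p r f N} {i j : ℕ} (hi : Ze D i) (hj : Ze D j) : Ze D (i + j) := by
  intro x hx
  rw [pow_add, pow_mul, hj _ (isP_pow hx _), hi x hx]

theorem Ze.of_add {D : FD p r f N} {i j : ℕ} (hi : Ze D i) (hj : Ze D (i + j)) : Ze D j := by
  intro x hx
  have h1 := hi (x ^ r ^ j) (isP_pow hx _)
  have h2 := hj x hx
  rw [← h1, ← pow_mul, ← pow_add, add_comm j i, h2]

theorem Ze.zero (D : FD p r f N) : Ze D 0 := fun x _ => by rw [pow_zero, pow_one]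

theorem Ze.mul {D : FD p r f N} {i : ℕ} (hi : Ze D i) (k : ℕ) : Ze D (i * k) := by
  induction k with
  | zero => exact Ze.zero D
  | succ k ih => rw [Nat.mul_succ]; exact ih.add hi

/-- the order of `r` -/
theorem exists_ord (D : FD p r f N) (hf : 0 < f) : ∃ o : ℕ, 0 < o ∧ o ∣ f ∧ ∀ i, Ze D i ↔ o ∣ i := by
  classical
  have h0 : ∃ o, 0 < o ∧ Ze D o := ⟨f, hf, D.frob⟩
  refine ⟨Nat.find h0, (Nat.find_spec h0).1, ?_, ?_⟩
  · have key : ∀ i, Ze D i → Nat.find h0 ∣ i := by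
      intro i hi
      have h1 : Ze D (i % Nat.find h0) := by
        have h2 : Ze D (Nat.find h0 * (i / Nat.find h0)) := (Nat.find_spec h0).2.mul _
        exact Ze.of_add h2 (by rwa [Nat.div_add_mod])
      by_contra hne
      have h3 : 0 < i % Nat.find h0 := Nat.pos_of_ne_zero fun h => hne (Nat.dvd_of_mod_eq_zero h)
      exact Nat.find_min h0 (Nat.mod_lt _ (Nat.find_spec h0).1) ⟨h3, h1⟩
    exact key f D.frob
  · intro i
    constructor
    · intro hi
      have h1 : Ze D (i % Nat.find h0) := by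
        have h2 : Ze D (Nat.find h0 * (i / Nat.find h0)) := (Nat.find_spec h0).2.mul _
        exact Ze.of_add h2 (by rwa [Nat.div_add_mod])
      by_contra hne
      have h3 : 0 < i % Nat.find h0 := Nat.pos_of_ne_zero fun h => hne (Nat.dvd_of_mod_eq_zero h)
      exact Nat.find_min h0 (Nat.mod_lt _ (Nat.find_spec h0).1) ⟨h3, h1⟩
    · rintro ⟨k, rfl⟩
      exact (Nat.find_spec h0).2.mul k

theorem modEq_of_eq {D : FD p r f N} {o : ℕ} (ho : 0 < o) (hZ : ∀ i, Ze D i ↔ o ∣ i) {a b : ℕ}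
    (h : ∀ x : N, IsP p x → D.F (x ^ r ^ a) = D.F (x ^ r ^ b)) : (a : ZMod o) = b := by
  -- c with o ∣ a + c
  obtain ⟨c, hc⟩ : ∃ c, o ∣ a + c := ⟨o * a - a, by
    have : a ≤ o * a := Nat.le_mul_of_pos_left a ho
    rw [Nat.add_sub_cancel' this]; exact dvd_mul_right o a⟩
  have h1 : Ze D (a + c) := (hZ _).2 hc
  have h2 : Ze D (b + c) := by
    intro x hx
    have h3 := h (x ^ r ^ c) (isP_pow hx _)
    rw [← pow_mul, ← pow_add, ← pow_mul, ← pow_add, add_comm c a, add_comm c b] at h3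
    rw [← h3, h1 x hx]
  have h4 := (hZ _).1 h2
  have h5 : ((a + c : ℕ) : ZMod o) = ((b + c : ℕ) : ZMod o) := by
    rw [(ZMod.natCast_eq_zero_iff _ _).2 hc, (ZMod.natCast_eq_zero_iff _ _).2 h4]
  push_cast at h5
  exact add_right_cancel h5

end pow

/-! ### the almost simple group -/

section alm

variable {A : Type u} [Group A] [Finite A] {p r f : ℕ} [Fact p.Prime]

/-- a Sylow subgroup meets a normal subgroup in a Sylow subgroup (cf. helper132) -/
theorem exists_sylow_subgroupOf (Q : Sylow p A) (N : Subgroup A) [N.Normal] :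
    ∃ R : Sylow p N, (R : Subgroup N) = (Q : Subgroup A).subgroupOf N := by
  have h1 : IsPGroup p ((Q : Subgroup A).subgroupOf N) := Q.2.comap_of_injective N.subtype N.subtype_injective
  have h2 : ((Q : Subgroup A).subgroupOf N).index ∣ (Q : Subgroup A).index := by
    change (Q : Subgroup A).relIndex N ∣ _
    have e1 : ((Q : Subgroup A) ⊓ N).relIndex Q * (Q : Subgroup A).index = ((Q : Subgroup A) ⊓ N).index :=
      relIndex_mul_index inf_le_left
    have e2 : ((Q : Subgroup A) ⊓ N).relIndex N * N.index = ((Q : Subgroup A) ⊓ N).index :=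
      relIndex_mul_index inf_le_right
    rw [inf_relIndex_left] at e1
    rw [inf_relIndex_right] at e2
    obtain ⟨m, hm⟩ := relIndex_dvd_index_of_normal (H := N) (K := (Q : Subgroup A))
    refine ⟨m, ?_⟩
    have h0 : 0 < N.relIndex (Q : Subgroup A) := Nat.pos_of_ne_zero (by
      rw [relIndex]; exact index_ne_zero_of_finite)
    apply Nat.eq_of_mul_eq_mul_left h0
    rw [e1, ← e2, hm]
    ring
  have h3 : ¬ p ∣ ((Q : Subgroup A).subgroupOf N).index := fun h => Q.not_dvd_index (h.trans h2)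
  exact ⟨h1.toSylow h3, rfl⟩

/-- every `p`-element of `N` is conjugate in `N` to an element of `P` -/
theorem exists_conj_mem (P : Sylow p A) (N : Subgroup A) [N.Normal] {y : N} (hy : IsP p y) :
    ∃ n z : N, (z : A) ∈ (P : Subgroup A) ∧ y = n * z * n⁻¹ := by
  obtain ⟨R, hR⟩ := exists_sylow_subgroupOf P N
  have hyp : IsPGroup p (Subgroup.zpowers y) := by
    intro w
    obtain ⟨k, hk⟩ := hy
    obtain ⟨m, hm⟩ := Subgroup.mem_zpowers_iff.1 w.2
    refine ⟨k, Subtype.ext ?_⟩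
    show (w : N) ^ p ^ k = 1
    rw [← hm, ← zpow_natCast, ← zpow_mul, mul_comm, zpow_mul, zpow_natCast, hk, one_zpow]
  obtain ⟨Q, hQ⟩ := hyp.exists_le_sylow
  obtain ⟨g, hg⟩ := MulAction.exists_smul_eq N Q R
  have h1 : g * y * g⁻¹ ∈ (R : Subgroup N) := by
    rw [← hg]
    exact Subgroup.smul_mem_pointwise_smul _ (MulAut.conj g) _ (hQ (Subgroup.mem_zpowers y))
  rw [hR, Subgroup.mem_subgroupOf] at h1
  exact ⟨g⁻¹, g * y * g⁻¹, h1, by group⟩

theorem exists_pow_inv {N : Type u} [Group N] {x z : N} (hx : IsP p x) (hz : IsP p z) {κ : ℕ} (hκ : ¬ p ∣ κ) :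
    ∃ k : ℕ, x ^ (k * κ) = x ∧ z ^ (k * κ) = z := by
  obtain ⟨a, ha⟩ := hx
  obtain ⟨b, hb⟩ := hz
  have hcop : Nat.Coprime κ (p ^ (a + b)) :=
    Nat.Coprime.pow_right _ ((Nat.Prime.coprime_iff_not_dvd Fact.out).2 hκ).symm
  obtain ⟨k, hk⟩ : ∃ k : ℕ, k * κ ≡ 1 [MOD p ^ (a + b)] := by
    have : NeZero (p ^ (a + b)) := ⟨pow_ne_zero _ (Fact.out : p.Prime).ne_zero⟩
    refine ⟨((κ : ZMod (p ^ (a + b)))⁻¹).val, ?_⟩
    rw [← ZMod.natCast_eq_natCast_iff]
    push_cast
    rw [ZMod.natCast_zmod_val, mul_comm]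
    exact ZMod.coe_mul_inv_eq_one κ hcop
  have key : ∀ w : N, w ^ p ^ (a + b) = 1 → w ^ (k * κ) = w := by
    intro w hw
    have h1 := (pow_eq_pow_iff_modEq (x := w)).2 (hk.of_dvd (orderOf_dvd_of_pow_eq_one hw))
    rwa [pow_one] at h1
  refine ⟨k, key x ?_, key z ?_⟩
  · rw [pow_add, pow_mul, ha, one_pow]
  · rw [pow_add, mul_comm, pow_mul, hb, one_pow]

/-- in a cyclic group a nontrivial `p`-subgroup contains all the elements of order dividing `p` -/
theorem mem_of_pow_eq_one {C : Type*} [Group C] [Finite C] [IsCyclic C] (H : Subgroup C) (hH : p ∣ Nat.card H) {z : C}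
    (hz : z ^ p = 1) : z ∈ H := by
  classical
  have : Fintype C := Fintype.ofFinite C
  obtain ⟨h, hh⟩ := exists_prime_orderOf_dvd_card' (G := H) p hH
  have h1 : orderOf (h : C) = p := by rw [Subgroup.orderOf_coe, hh]
  have h2 := IsCyclic.card_pow_eq_one_le (α := C) (n := p) (Fact.out : p.Prime).pos
  have h3 : (Subgroup.zpowers (h : C) : Set C).toFinset ⊆ Finset.univ.filter (fun a : C => a ^ p = 1) := by
    intro w hw
    rw [Set.mem_toFinset] at hw
    obtain ⟨m, hm⟩ := Subgroup.mem_zpowers_iff.1 hw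
    rw [Finset.mem_filter]
    refine ⟨Finset.mem_univ _, ?_⟩
    rw [← hm, ← zpow_natCast, ← zpow_mul, mul_comm, zpow_mul, zpow_natCast, ← h1, pow_orderOf_eq_one, one_zpow]
  have h4 : (Subgroup.zpowers (h : C) : Set C).toFinset.card = p := by
    rw [Set.toFinset_card, ← h1, ← Nat.card_zpowers, Nat.card_eq_fintype_card]
    rfl
  have h5 := Finset.eq_of_subset_of_card_le h3 (by rw [h4]; exact h2)
  have h6 : z ∈ (Subgroup.zpowers (h : C) : Set C).toFinset := by
    rw [h5, Finset.mem_filter]; exact ⟨Finset.mem_univ _, hz⟩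
  rw [Set.mem_toFinset] at h6
  exact (Subgroup.zpowers_le.2 h.2) h6

/-- **the moved character** -/
theorem exists_moved {M : Ideal AlgInt} (hM : IsPModular p M) (N : Subgroup A) [N.Normal] (hC : centralizer (N : Set A) = ⊥)
    (P : Sylow p A) (hPN : ¬ (P : Subgroup A) ≤ N) (hab : AbSyl p N) (hr : ¬ p ∣ r) (hf : 0 < f)
    (D : FD p r f N) (hT : Test D) (hA : D.Auts) :
    (∃ t ∈ (P : Subgroup A), ∀ x ∈ (P : Subgroup A), ∃ k : ℕ, x * t ^ k ∈ N) ∧
    (∀ x ∈ (P : Subgroup A), (∀ y ∈ (P : Subgroup A), y ∈ N → x * y = y * x) → x ∈ N) ∧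
    ∃ ψ : IrrCharacter N, ψ ∈ principalBlock M N ∧ ¬ p ∣ charDegree (ψ : N → ℂ) ∧
      ∀ g : A, ∃ x ∈ (P : Subgroup A), ∃ n n' : N, (n' : A) = (g * x * g⁻¹) * n * (g * x * g⁻¹)⁻¹ ∧
        (ψ : N → ℂ) n' ≠ (ψ : N → ℂ) n := by
  classical
  obtain ⟨hA1, hA2, hA3⟩ := hA
  set c : A →* MulAut N := MulAut.conjNormal with hc
  have hcv : ∀ (g : A) (n : N), ((c g n : N) : A) = g * n * g⁻¹ := fun g n => MulAut.conjNormal_apply g n
  -- elements of `P` are `p`-elements modulo inner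
  have hPI : ∀ g : A, ∀ t ∈ (P : Subgroup A), PInn p (c (g * t * g⁻¹)) := by
    intro g t ht
    obtain ⟨k, hk⟩ := isP_of_mem P ht
    refine ⟨k, ?_⟩
    have : (g * t * g⁻¹) ^ p ^ k = 1 := by rw [conj_pow, hk]; group
    rw [← map_pow, this, map_one]
    exact one_mem _
  have hPI' : ∀ t ∈ (P : Subgroup A), PInn p (c t) := fun t ht => by
    have := hPI 1 t ht
    simpa using this
  -- kernel
  have hker : ∀ t ∈ (P : Subgroup A), (∀ x : N, IsP p x → D.F (c t x) = D.F x) → t ∈ N := by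
    intro t ht h
    obtain ⟨n, hn⟩ := hA3 (c t) (hPI' t ht) h
    have h1 : t * (n : A)⁻¹ ∈ centralizer (N : Set A) := by
      rw [mem_centralizer_iff]
      intro m hm
      have h2 := congrArg (fun φ : MulAut N => ((φ (n⁻¹ * ⟨m, hm⟩ * n) : N) : A)) hn
      simp only [MulAut.conj_apply, hcv] at h2
      have h3 : (((n * (n⁻¹ * ⟨m, hm⟩ * n) * n⁻¹ : N)) : A) = m := by
        push_cast
        group
      rw [h3] at h2
      push_cast at h2
      -- m = t * (n⁻¹ * m * n) * t⁻¹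
      calc m * (t * (n : A)⁻¹) = (t * ((n : A)⁻¹ * m * n) * t⁻¹) * (t * (n : A)⁻¹) := by rw [← h2]
        _ = t * (n : A)⁻¹ * m := by group
    rw [hC, Subgroup.mem_bot] at h1
    have h2 : t = n := by rw [← mul_inv_eq_one]; exact h1
    rw [h2]; exact n.2
  have hkerN : ∀ t ∈ N, ∀ x : N, D.F (c t x) = D.F x := by
    intro t ht x
    have : c t x = ⟨t, ht⟩ * x * ⟨t, ht⟩⁻¹ := Subtype.ext (by rw [hcv]; rfl)
    rw [this, D.conj]
  -- the exponents
  choose! j hj using fun (t : A) (ht : t ∈ (P : Subgroup A)) => hA1 (c t) (hPI' t ht)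
  obtain ⟨o, ho, hof, hZ⟩ := exists_ord D hf
  have : NeZero o := ⟨ho.ne'⟩
  let J : (P : Subgroup A) →* Multiplicative (ZMod o) :=
    { toFun := fun t => Multiplicative.ofAdd ((j t : ℕ) : ZMod o)
      map_one' := by
        have h1 : ((j ((1 : (P : Subgroup A)) : A) : ℕ) : ZMod o) = ((0 : ℕ) : ZMod o) := by
          refine modEq_of_eq ho hZ fun x hx => ?_
          rw [← hj _ (1 : (P : Subgroup A)).2 x hx, pow_zero, pow_one, OneMemClass.coe_one, map_one]
          rfl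
        rw [h1]; simp
      map_mul' := by
        intro s t
        have h1 : ((j ((s * t : (P : Subgroup A)) : A) : ℕ) : ZMod o) = ((j s + j t : ℕ) : ZMod o) := by
          refine modEq_of_eq ho hZ fun x hx => ?_
          rw [← hj _ (s * t).2 x hx, Subgroup.coe_mul, map_mul, MulAut.mul_apply, hj _ s.2 _ (isP_aut hx _), ← map_pow,
            hj _ t.2 _ (isP_pow hx _), ← pow_mul, ← pow_add]
        rw [h1]; push_cast; rfl }
  have hJ : ∀ t : (P : Subgroup A), J t = Multiplicative.ofAdd ((j t : ℕ) : ZMod o) := fun _ => rfl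
  have hJk : ∀ t : (P : Subgroup A), J t = 1 → (t : A) ∈ N := by
    intro t ht
    refine hker t t.2 fun x hx => ?_
    rw [hj t t.2 x hx]
    have h1 : o ∣ j t := by
      rw [← ZMod.natCast_eq_zero_iff]
      exact Multiplicative.ofAdd.injective (by rw [← hJ, ht]; rfl)
    exact (hZ _).2 h1 x hx
  -- (a) cyclic
  have ha : ∃ t ∈ (P : Subgroup A), ∀ x ∈ (P : Subgroup A), ∃ k : ℕ, x * t ^ k ∈ N := by
    obtain ⟨⟨y, t, rfl⟩, hy⟩ := IsCyclic.exists_generator (α := J.range)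
    refine ⟨t, t.2, fun x hx => ?_⟩
    obtain ⟨m, hm⟩ := Subgroup.mem_zpowers_iff.1 (hy ⟨J ⟨x, hx⟩⁻¹, ⟨⟨x, hx⟩⁻¹, rfl⟩⟩)
    have h1 : J t ^ m = (J ⟨x, hx⟩)⁻¹ := by
      have := congrArg Subtype.val hm
      push_cast at this
      rw [this, map_inv]
    -- natural exponent
    obtain ⟨k, hk⟩ : ∃ k : ℕ, J t ^ k = (J ⟨x, hx⟩)⁻¹ := by
      refine ⟨(m % (orderOf (J t) : ℤ)).toNat, ?_⟩
      have h2 : (0 : ℤ) < orderOf (J t) := by exact_mod_cast orderOf_pos (J t)
      rw [← zpow_natCast, Int.toNat_of_nonneg (Int.emod_nonneg _ h2.ne'), zpow_mod_orderOf, h1]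
    refine ⟨k, ?_⟩
    have h3 : J (⟨x, hx⟩ * t ^ k) = 1 := by rw [map_mul, map_pow, hk, mul_inv_cancel]
    have h4 := hJk _ h3
    push_cast at h4
    exact h4
  -- (b) self-centralizing
  have hb : ∀ x ∈ (P : Subgroup A), (∀ y ∈ (P : Subgroup A), y ∈ N → x * y = y * x) → x ∈ N := by
    intro x hx h
    refine hker x hx fun y hy => ?_
    obtain ⟨n, z, hz, rfl⟩ := exists_conj_mem P N hy
    rw [map_mul, map_mul, map_inv, D.conj, D.conj]
    have h1 : c x z = z := by
      apply Subtype.ext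
      rw [hcv, h z hz z.2]
      group
    rw [h1]
  refine ⟨ha, hb, ?_⟩
  -- (c) the element t₁
  obtain ⟨t0, ht0, ht0N⟩ : ∃ t ∈ (P : Subgroup A), t ∉ N := by
    by_contra h
    push Not at h
    exact hPN h
  have hJ0 : J ⟨t0, ht0⟩ ≠ 1 := fun h => ht0N (hJk _ h)
  have hrange : p ∣ Nat.card J.range := by
    have h1 : IsPGroup p J.range := by
      exact IsPGroup.of_surjective P.isPGroup' J.rangeRestrict J.rangeRestrict_surjective
    obtain ⟨k, hk⟩ := IsPGroup.iff_card.1 h1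
    rcases Nat.eq_zero_or_pos k with rfl | hk0
    · exfalso
      rw [pow_zero] at hk
      have h2 : J.range = ⊥ := Subgroup.eq_bot_of_card_eq _ hk
      apply hJ0
      have h3 : J ⟨t0, ht0⟩ ∈ J.range := ⟨_, rfl⟩
      rw [h2, Subgroup.mem_bot] at h3
      exact h3
    · rw [hk]; exact dvd_pow_self p hk0.ne'
  have hpo : p ∣ o := by
    have h1 := Subgroup.card_subgroup_dvd_card J.range
    have h2 : Nat.card (Multiplicative (ZMod o)) = o := by
      rw [Nat.card_congr Multiplicative.toAdd, Nat.card_zmod]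
    rw [h2] at h1
    exact hrange.trans h1
  have hpf : p ∣ f := hpo.trans hof
  obtain ⟨y, hy, hyc⟩ := hT hpf
  have hzp : (Multiplicative.ofAdd ((f / p : ℕ) : ZMod o)) ^ p = 1 := by
    rw [← ofAdd_nsmul, nsmul_eq_mul, ← Nat.cast_mul, Nat.mul_div_cancel' hpf, (ZMod.natCast_eq_zero_iff _ _).2 hof]
    rfl
  obtain ⟨t1, ht1⟩ := mem_of_pow_eq_one J.range hrange hzp
  have ht1F : ∀ x : N, IsP p x → D.F (c t1 x) = D.F (x ^ r ^ (f / p)) := by
    intro x hx
    rw [hj t1 t1.2 x hx]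
    have h1 : ((j t1 : ℕ) : ZMod o) = ((f / p : ℕ) : ZMod o) := Multiplicative.ofAdd.injective (by rw [← hJ, ht1])
    -- c with o ∣ j + c
    obtain ⟨e, he⟩ : ∃ e, o ∣ f / p + e := ⟨o * (f / p) - f / p, by
      have : f / p ≤ o * (f / p) := Nat.le_mul_of_pos_left _ ho
      rw [Nat.add_sub_cancel' this]; exact dvd_mul_right o _⟩
    have he' : o ∣ j t1 + e := by
      rw [← ZMod.natCast_eq_zero_iff]
      push_cast
      rw [h1]
      have := (ZMod.natCast_eq_zero_iff _ _).2 he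
      push_cast at this
      exact this
    -- compare through `x ^ r ^ (j + e + f/p)`
    have h2 := (hZ _).2 he' (x ^ r ^ (f / p)) (isP_pow hx _)
    have h3 := (hZ _).2 he (x ^ r ^ j t1) (isP_pow hx _)
    rw [← h2, ← h3, ← pow_mul, ← pow_mul, ← pow_add, ← pow_add]
    congr 2
    congr 1
    ring
  -- the character
  have hnot : ¬ ∀ ψ : IrrCharacter N, ψ ∈ principalBlock M N → ¬ p ∣ charDegree (ψ : N → ℂ) →
      ∃ d : MulAut N, (∀ x : N, IsP p x → D.F (d x) = D.F x) ∧ ∀ x : N, (ψ : N → ℂ) (c t1 x) = (ψ : N → ℂ) (d x) := by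
    intro h
    apply hyc
    rw [← ht1F y hy]
    exact cong_of_inv hM hab D (c t1) h hy
  push Not at hnot
  obtain ⟨ψ, hψ1, hψ2, hψ3⟩ := hnot
  refine ⟨ψ, hψ1, hψ2, fun g => ?_⟩
  by_contra hcon
  push Not at hcon
  -- ψ is invariant under s = c (g t₁ g⁻¹)
  set s : MulAut N := c (g * t1 * g⁻¹) with hs
  have hinv : ∀ n : N, (ψ : N → ℂ) (s n) = (ψ : N → ℂ) n := by
    intro n
    exact hcon t1 t1.2 n (s n) (by rw [hs, hcv])
  have hinv' : ∀ n : N, (ψ : N → ℂ) (s⁻¹ n) = (ψ : N → ℂ) n := by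
    intro n
    rw [← hinv (s⁻¹ n), MulAut.apply_inv_self]
  have hsF : ∀ w : N, IsP p w → D.F (s w) = D.F (c t1 w) := by
    intro w hw
    rw [← hA2 (c g) (c t1) (hPI' t1 t1.2) w hw, hs, map_mul, map_mul, map_inv]
    rfl
  obtain ⟨x, hx⟩ := hψ3 (s⁻¹ * c t1) (by
    intro x hx
    set z : N := (s⁻¹ * c t1) x with hz
    have hzP : IsP p z := isP_aut hx _
    have hsz : s z = c t1 x := by
      rw [hz, MulAut.mul_apply, MulAut.apply_inv_self]
    have hκ : ¬ p ∣ r ^ (f / p) := fun h => hr ((Fact.out : p.Prime).dvd_of_dvd_pow h)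
    obtain ⟨k, hk1, hk2⟩ := exists_pow_inv hx hzP hκ
    have h1 : D.F ((z ^ k) ^ r ^ (f / p)) = D.F ((x ^ k) ^ r ^ (f / p)) := by
      rw [← ht1F _ (isP_pow hzP k), ← ht1F _ (isP_pow hx k), ← hsF _ (isP_pow hzP k), map_pow, hsz, map_pow]
    rw [← pow_mul, ← pow_mul, hk1, hk2] at h1
    exact h1)
  apply hx
  rw [MulAut.mul_apply, hinv']

end alm

end Cfsg.Agent.H37.HT
end

private theorem dce_c4c1e9584e5a : _root_.True := by
  try have : _root_.True := by simp only [_root_.Cfsg.Agent.H37.HT.Sec.eq_1]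
  try have : _root_.True := by simp only [_root_.Cfsg.charDegree.eq_1]
  exact _root_.True.intro
end

-- part: H93/HT/SymFive
section
set_option linter.all false
open scoped Cfsg.Agent.FastGrp

/-!
# S4933: the symmetric group of degree five, `p = 2`

* `sym_five` : the principal `2`-block of the symmetric group of degree five contains a character of degree six
  (induced from a linear character of order four of the Frobenius group of order twenty).
-/

set_option autoImplicit false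

namespace Cfsg.Agent.H93.HT.Five

open Cfsg Cfsg.Agent.H316.HT Equiv

/-- the slope -/
def sl (g : Perm (Fin 5)) : Fin 5 := g 1 - g 0

/-- the affine maps -/
def Aff (g : Perm (Fin 5)) : Prop := ∀ x, g x = sl g * x + g 0

instance : DecidablePred Aff := fun g => by unfold Aff; infer_instance

/-- the logarithm to the base two -/
def lg (a : Fin 5) : ZMod 4 := ![0, 0, 1, 3, 2] a

theorem aff_one : Aff 1 := by decide

theorem aff_mul : ∀ g h : Perm (Fin 5), Aff g → Aff h → Aff (g * h) ∧ lg (sl (g * h)) = lg (sl g) + lg (sl h) := by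
  intro g h hg hh
  have h1 : sl (g * h) = sl g * sl h := by
    show g (h 1) - g (h 0) = _
    rw [hg (h 1), hg (h 0)]
    show _ = sl g * (h 1 - h 0)
    revert hg hh
    generalize sl g = a
    generalize h 1 = b
    generalize h 0 = c
    generalize g 0 = d
    intro _ _
    revert a b c d
    decide
  have hg0 : sl g ≠ 0 := by
    intro h0
    have h2 := hg 1
    rw [h0, zero_mul, zero_add] at h2
    exact absurd (g.injective h2) (by decide)
  have hh0 : sl h ≠ 0 := by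
    intro h0
    have h2 := hh 1
    rw [h0, zero_mul, zero_add] at h2
    exact absurd (h.injective h2) (by decide)
  constructor
  · intro x
    rw [h1]
    show g (h x) = _ + g (h 0)
    rw [hg (h x), hh x, hg (h 0)]
    generalize sl g = a
    generalize sl h = b
    generalize h 0 = c
    generalize g 0 = d
    revert a b c d x
    decide
  · rw [h1]
    revert hg0 hh0
    generalize sl g = a
    generalize sl h = b
    revert a b
    decide

theorem aff_inv : ∀ g : Perm (Fin 5), Aff g → Aff g⁻¹ := by (delta Cfsg.Agent.H93.HT.Five.Aff; set_option synthInstance.maxSize 9000 in open scoped Cfsg.Agent.Lib.FastPerm in decide +kernel)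

/-- the group of affine maps -/
def H : Subgroup (Perm (Fin 5)) where
  carrier := {g | Aff g}
  one_mem' := aff_one
  mul_mem' := fun hg hh => (aff_mul _ _ hg hh).1
  inv_mem' := fun hg => aff_inv _ hg

instance : DecidablePred (· ∈ H) := fun g => inferInstanceAs (Decidable (Aff g))

theorem index_H : H.index = 6 := by
  have h1 := H.card_mul_index
  have h2 : Nat.card H = 20 := by
    rw [Nat.card_eq_fintype_card]
    (set_option synthInstance.maxSize 9000 in open scoped Cfsg.Agent.Lib.FastPerm in decide +kernel)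
  rw [h2, Nat.card_perm, Nat.card_eq_fintype_card, Fintype.card_fin, show Nat.factorial 5 = 20 * 6 by decide] at h1
  omega

/-- the linear character of order four -/
noncomputable def lin : H →* ℂ where
  toFun g := ZMod.stdAddChar (lg (sl g))
  map_one' := by
    have : lg (sl ((1 : H) : Perm (Fin 5))) = 0 := by decide
    rw [this, AddChar.map_zero_eq_one]
  map_mul' g h := by
    have := (aff_mul g h g.2 h.2).2
    rw [Subgroup.coe_mul, this, AddChar.map_add_eq_mul]

/-- the linear character with values in the units -/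
noncomputable def l : H →* ℂˣ := lin.toHomUnits

theorem l_apply (g : H) : (l g : ℂ) = ZMod.stdAddChar (lg (sl g)) := rfl

theorem l_pow : l ^ 2 ^ 2 = 1 := by
  ext g
  show ((l g ^ 4 : ℂˣ) : ℂ) = 1
  rw [Units.val_pow_eq_pow_val, l_apply, ← AddChar.map_nsmul_eq_pow]
  have : (4 : ℕ) • lg (sl (g : Perm (Fin 5))) = 0 := by
    rw [nsmul_eq_mul, show ((4 : ℕ) : ZMod 4) = 0 from rfl, zero_mul]
  rw [this, AddChar.map_zero_eq_one]

theorem mackey : ∀ g : Perm (Fin 5), ¬ Aff g → ∃ a : Perm (Fin 5), Aff a ∧ Aff (g * a * g⁻¹) ∧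
    lg (sl (g * a * g⁻¹)) ≠ lg (sl a) := by
  (delta Cfsg.Agent.H93.HT.Five.Aff; set_option synthInstance.maxSize 9000 in open scoped Cfsg.Agent.Lib.FastPerm in decide +kernel)

/-- **The symmetric group of degree five.** -/
theorem sym_five {M : Ideal AlgInt} (hM : IsPModular 2 M) :
    ∃ χ : IrrCharacter (Perm (Fin 5)), χ ∈ principalBlock M (Perm (Fin 5)) ∧ vd 2 (χ : Perm (Fin 5) → ℂ) = 1 := by
  have hp : Fact (Nat.Prime 2) := ⟨Nat.prime_two⟩
  obtain ⟨χ, hχ, -, hd⟩ := Cfsg.Agent.H112.HT.exists_mackey hM H l ⟨2, l_pow⟩ (by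
    intro g hg
    by_contra hgH
    obtain ⟨a, ha, hb, hne⟩ := mackey g hgH
    have h1 := congrArg (fun u : ℂˣ => (u : ℂ)) (hg ⟨a, ha⟩ ⟨g * a * g⁻¹, hb⟩ rfl)
    rw [l_apply, l_apply] at h1
    exact hne (ZMod.injective_stdAddChar h1).symm)
  refine ⟨χ, hχ, ?_⟩
  show (charDegree (χ : Perm (Fin 5) → ℂ)).factorization 2 = 1
  rw [hd, index_H, show (6 : ℕ) = 2 ^ 1 * 3 by norm_num, Nat.factorization_mul (by norm_num) (by norm_num),
    Nat.Prime.factorization_pow Nat.prime_two]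
  simp [Nat.factorization_eq_zero_of_not_dvd]

end Cfsg.Agent.H93.HT.Five
end

-- part: H695/LB/Crit
section
prune_inst 0x8000300000000000000000000000004010000
set_option linter.all false
open scoped Cfsg.Agent.FastGrp

-- part: H695/LB/Ext
section
/-!
# S4933: extension to `N P` in the principal block (helper695)

* `mem_of_over` : `N` normal of index a power of `p`: a character over a member of `B_0(N)` is in `B_0(G)`;
* `exists_ext` : `ψ ∈ B_0(N)` invariant, `G / N` a cyclic `p`-group: `ψ` extends to `ξ ∈ B_0(G)`;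
* `exists_ext_sup` : the same for `N ⊔ P`, `P` a `p`-group with `N P / N` cyclic;
* `cyc_sup` : `N P / N` is cyclic if `P / (P ∩ N)` is.
-/

set_option autoImplicit false

open Cfsg Subgroup
open Cfsg.Agent.H316.HT Cfsg.Agent.Characters.Core Cfsg.Agent.Blocks.PrincipalSection Cfsg.Agent.Blocks.Basic
open Cfsg.Agent.Blocks.Local

namespace Cfsg.Agent.H695.LB.Ext

universe u v

variable {p : ℕ} [hp : Fact p.Prime] {M : Ideal AlgInt}

/-- a `p`-regular element lies in a normal subgroup with `p`-group quotient -/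
theorem mem_of_isPRegular {G : Type u} [Group G] (N : Subgroup G) [N.Normal] (hN : IsPGroup p (G ⧸ N)) {g : G}
    (hg : IsPRegular p g) : g ∈ N := by
  obtain ⟨k, hk⟩ := hN (g : G ⧸ N)
  have h1 : orderOf (g : G ⧸ N) ∣ orderOf g := orderOf_map_dvd (QuotientGroup.mk' N) g
  obtain ⟨j, -, hj⟩ := (Nat.dvd_prime_pow hp.out).1 (orderOf_dvd_of_pow_eq_one hk)
  rcases Nat.eq_zero_or_pos j with rfl | hj0
  · rw [pow_zero, orderOf_eq_one_iff] at hj
    exact (QuotientGroup.eq_one_iff g).1 hj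
  · exact absurd ((dvd_pow_self p hj0.ne').trans (hj ▸ h1)) hg

/-- **characters over the principal block, `p`-power index** -/
theorem mem_of_over (hM : IsPModular p M) {G : Type u} [Group G] [Fintype G] (N : Subgroup G) [N.Normal] [Fintype N]
    (hN : IsPGroup p (G ⧸ N)) (ξ : IrrCharacter G) {θ : IrrCharacter N} (hθ : θ ∈ principalBlock M N)
    (h : classInner (fun n : N => (ξ : G → ℂ) n) (θ : N → ℂ) ≠ 0) : ξ ∈ principalBlock M G := by
  have hMp : M.IsPrime := hM.2.1.isPrime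
  have h1N : (⟨fun _ => 1, isIrrCharacter_one⟩ : IrrCharacter N) ∈ principalBlock M N := one_mem_principalBlock
  have h1G : (⟨fun _ => 1, isIrrCharacter_one⟩ : IrrCharacter G) ∈ principalBlock M G := one_mem_principalBlock
  have hov : classInner (fun n : N => ((⟨fun _ => 1, isIrrCharacter_one⟩ : IrrCharacter G) : G → ℂ) n)
      ((⟨fun _ => 1, isIrrCharacter_one⟩ : IrrCharacter N) : N → ℂ) ≠ 0 := by
    have h2 := classInner_irr_self (G := N) (χ := fun _ => 1) isIrrCharacter_one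
    change classInner (fun _ : N => (1 : ℂ)) (fun _ => 1) ≠ 0
    rw [h2]
    exact one_ne_zero
  have k1 := (S0965.result p M hM N (principalBlock M G) isPBlock_principalBlock (principalBlock M N)
    isPBlock_principalBlock).1 ⟨_, h1G, _, h1N, hov⟩ _ h1G θ hθ
  have hξ : ξ ∈ blockOf M (ξ : G → ℂ) := sameBlock_refl _
  have k2 := (S0965.result p M hM N (blockOf M (ξ : G → ℂ)) ⟨ξ, rfl⟩ (principalBlock M N)
    isPBlock_principalBlock).1 ⟨ξ, hξ, θ, hθ, h⟩ ξ hξ θ hθ
  refine Blocks.PRegular.sameBlock_of_isPRegular hM isIrrCharacter_one ξ.2 fun g hg => ?_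
  have hgN := mem_of_isPRegular N hN hg
  have h3 := memLocalIdeal_sub (k1 ⟨g, hgN⟩) (k2 ⟨g, hgN⟩)
  rw [sub_sub_sub_cancel_right] at h3
  exact h3

/-- **Extension in the principal block**, cyclic `p`-group quotient -/
theorem exists_ext (hM : IsPModular p M) {G : Type u} [Group G] [Finite G] (N : Subgroup G) [hNn : N.Normal]
    (hN : IsPGroup p (G ⧸ N)) (hcyc : IsCyclic (G ⧸ N)) (ψ : IrrCharacter N) (hψ : ψ ∈ principalBlock M N)
    (hinv : ∀ (g : G) (n : N), (ψ : N → ℂ) ⟨g * n * g⁻¹, hNn.conj_mem (n : G) n.2 g⟩ = (ψ : N → ℂ) n) :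
    ∃ ξ : IrrCharacter G, ξ ∈ principalBlock M G ∧ ∀ n : N, (ξ : G → ℂ) n = (ψ : N → ℂ) n := by
  classical
  have := Fintype.ofFinite G
  have := Fintype.ofFinite N
  obtain ⟨ξ, h1, h2⟩ := S0886.result N hcyc (ψ : N → ℂ) ψ.2 hinv
  refine ⟨⟨ξ, h1⟩, mem_of_over hM N hN _ hψ ?_, h2⟩
  have h3 : (fun n : N => ((⟨ξ, h1⟩ : IrrCharacter G) : G → ℂ) n) = (ψ : N → ℂ) := funext h2
  rw [h3, classInner_irr_self ψ.2]
  exact one_ne_zero

theorem exists_mul {A : Type u} [Group A] (N : Subgroup A) [N.Normal] (P : Subgroup A) {y : A} (hy : y ∈ N ⊔ P) :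
    ∃ n ∈ N, ∃ x ∈ P, n * x = y := by
  rw [← SetLike.mem_coe, Subgroup.normal_mul] at hy
  exact Set.mem_mul.1 hy

/-- **Extension in the principal block** to `N ⊔ P` -/
theorem exists_ext_sup (hM : IsPModular p M) {A : Type u} [Group A] [Finite A] (N : Subgroup A) [hNn : N.Normal]
    (P : Subgroup A) (hP : IsPGroup p P) (hcyc : IsCyclic ((N ⊔ P : Subgroup A) ⧸ N.subgroupOf (N ⊔ P))) (ψ : IrrCharacter N)
    (hψ : ψ ∈ principalBlock M N)
    (hinv : ∀ x ∈ P, ∀ n : N, (ψ : N → ℂ) ⟨x * n * x⁻¹, hNn.conj_mem (n : A) n.2 x⟩ = (ψ : N → ℂ) n) :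
    ∃ ξ : IrrCharacter (N ⊔ P : Subgroup A), ξ ∈ principalBlock M (N ⊔ P : Subgroup A) ∧
      ∀ n : N, (ξ : (N ⊔ P : Subgroup A) → ℂ) ⟨n, mem_sup_left n.2⟩ = (ψ : N → ℂ) n := by
  classical
  have hMp : M.IsPrime := hM.2.1.isPrime
  obtain ⟨H, hH⟩ : ∃ H : Subgroup A, H = N ⊔ P := ⟨_, rfl⟩
  rw [← hH] at hcyc
  have hNH : N ≤ H := hH ▸ le_sup_left
  have hPH : P ≤ H := hH ▸ le_sup_right
  -- the map `P → H / N`
  let f : P →* H ⧸ N.subgroupOf H := (QuotientGroup.mk' _).comp (Subgroup.inclusion hPH)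
  have hfs : Function.Surjective f := by
    intro y
    obtain ⟨⟨y, hy⟩, rfl⟩ := QuotientGroup.mk_surjective y
    have hy' : y ∈ N ⊔ P := hH ▸ hy
    obtain ⟨n, hn, x, hx, rfl⟩ := exists_mul N P hy'
    refine ⟨⟨x, hx⟩, ?_⟩
    refine QuotientGroup.eq.2 ?_
    rw [mem_subgroupOf]
    change x⁻¹ * (n * x) ∈ N
    have := hNn.conj_mem n hn x⁻¹
    rwa [inv_inv, mul_assoc] at this
  have hpg : IsPGroup p (H ⧸ N.subgroupOf H) := hP.of_surjective f hfs
  -- the character of `N` as a subgroup of `H`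
  let e : N.subgroupOf H ≃* N := Subgroup.subgroupOfEquivOfLe hNH
  obtain ⟨ξ, h1, h2⟩ := exists_ext hM (N.subgroupOf H) hpg hcyc
    ⟨fun n => (ψ : N → ℂ) (e n), isIrr_comp e.toMonoidHom e.surjective ψ.2⟩
    (H133.PB.mem_principalBlock_comp e.toMonoidHom e.surjective hψ) (by
      rintro ⟨g, hg⟩ n
      have hg' : g ∈ N ⊔ P := hH ▸ hg
      obtain ⟨m, hm, x, hx, rfl⟩ := exists_mul N P hg'
      have h3 := hinv x hx (e n)
      change (ψ : N → ℂ) _ = (ψ : N → ℂ) (e n)
      rw [← h3]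
      have h4 := isIrr_isClassFunction ψ.2 (⟨x * (e n : A) * x⁻¹, hNn.conj_mem (e n : A) (e n).2 x⟩ : N) ⟨m, hm⟩
      rw [← h4]
      refine congrArg (ψ : N → ℂ) (Subtype.ext ?_)
      change m * x * (n : A) * (m * x)⁻¹ = m * (x * (n : A) * x⁻¹) * m⁻¹
      group)
  subst hH
  exact ⟨ξ, h1, fun n => h2 ⟨⟨n, mem_sup_left n.2⟩, mem_subgroupOf.2 n.2⟩⟩

/-- cyclicity of `(N ⊔ P) / N` from that of `P / (P ∩ N)` -/
theorem cyc_sup {A : Type u} [Group A] (N : Subgroup A) [hNn : N.Normal] (P : Subgroup A)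
    (h : IsCyclic (P ⧸ N.subgroupOf P)) : IsCyclic ((N ⊔ P : Subgroup A) ⧸ N.subgroupOf (N ⊔ P)) := by
  let f : P →* (N ⊔ P : Subgroup A) ⧸ N.subgroupOf (N ⊔ P) :=
    (QuotientGroup.mk' _).comp (Subgroup.inclusion le_sup_right)
  have hk : N.subgroupOf P ≤ f.ker := by
    intro x hx
    rw [MonoidHom.mem_ker]
    exact (QuotientGroup.eq_one_iff _).2 (mem_subgroupOf.2 (mem_subgroupOf.1 hx))
  refine isCyclic_of_surjective (QuotientGroup.lift (N.subgroupOf P) f hk) ?_
  intro y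
  obtain ⟨⟨y, hy⟩, rfl⟩ := QuotientGroup.mk_surjective y
  obtain ⟨n, hn, x, hx, rfl⟩ := exists_mul N P hy
  refine ⟨((⟨x, hx⟩ : P) : P ⧸ N.subgroupOf P), ?_⟩
  refine QuotientGroup.eq.2 ?_
  rw [mem_subgroupOf]
  change x⁻¹ * (n * x) ∈ N
  have := hNn.conj_mem n hn x⁻¹
  rwa [inv_inv, mul_assoc] at this

end Cfsg.Agent.H695.LB.Ext
end

-- part: H690/OwnD/Descent
section
/-!
# S4884, own characteristic: the descent from `Inndiag(S)` to `S` (helper690)

`G` finite, `N` normal in `G`, `G / N` cyclic, `p ∣ |N|`, `c` an integer valued function on `Irr(G)` which is invariant under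
the twists by linear characters of `G / N`, `c 1 = 1`, `c χ ≠ 0 → χ(1) odd`, and the sum of `c χ * χ(1)` over the principal
`p`-block of `G` is divisible by `|G|_p`. Then the principal `p`-block of `N` has a nontrivial character of degree prime
to `2 p`.
-/

set_option autoImplicit false
set_option linter.unusedSectionVars false

open Cfsg
open scoped ComplexConjugate

namespace Cfsg.Agent.H690.OwnD

open Cfsg.Agent.H666.Clif Cfsg.Agent.Characters.Core Cfsg.Agent.Blocks

universe u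

section orbits

end orbits

section lin

variable {G : Type u} [Group G] [Finite G]

/-- constituents of constituents -/
theorem over_trans' (S T : Subgroup G) [Fintype G] [Fintype S] [Fintype T]
    (hST : S ≤ T) {χ : G → ℂ} (hχ : IsCharacter G χ) {ψ : T → ℂ} (hψ : IsIrrCharacter T ψ)
    {φ : S → ℂ} (hφ : IsIrrCharacter S φ) (h1 : classInner (fun t : T => χ t) ψ ≠ 0)
    (h2 : classInner (fun s : S => ψ (Subgroup.inclusion hST s)) φ ≠ 0) :
    classInner (fun s : S => χ s) φ ≠ 0 := by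
  classical
  have := finite_irr (G := T)
  have := Fintype.ofFinite (IrrCharacter T)
  have hcI2 : IsCharacter T (fun t : T => χ t) := isCharacter_comp T.subtype hχ
  obtain ⟨m, hm⟩ := exists_nat_comb hcI2
  have hmψ : m ⟨ψ, hψ⟩ ≠ 0 := by
    have h3 := classInner_sum_nsmul_irr m ⟨ψ, hψ⟩
    rw [← hm] at h3
    intro h0
    rw [h0, Nat.cast_zero] at h3
    exact h1 h3
  have h4 : (fun s : S => χ s) = ∑ η : IrrCharacter T, m η • (fun s : S => (η : T → ℂ) (Subgroup.inclusion hST s)) := by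
    funext s
    have h5 := congrFun hm (Subgroup.inclusion hST s)
    rw [Finset.sum_apply] at h5 ⊢
    simp only [Pi.smul_apply] at h5 ⊢
    exact h5
  have hnat : ∀ η : IrrCharacter T, ∃ k : ℕ, classInner (fun s : S => (η : T → ℂ) (Subgroup.inclusion hST s)) φ = k :=
    fun η => classInner_isNat (isCharacter_comp (Subgroup.inclusion hST) (isIrr_isCharacter η.2)) (isIrr_isCharacter hφ)
  choose k hk using hnat
  have h6 : classInner (fun s : S => χ s) φ = ((∑ η : IrrCharacter T, m η * k η : ℕ) : ℂ) := by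
    rw [h4, classInner_sum_left]
    push_cast
    refine Finset.sum_congr rfl fun η _ => ?_
    rw [← Nat.cast_smul_eq_nsmul ℂ, classInner_smul_left, hk]
  rw [h6]
  intro h7
  have h8 : ∑ η : IrrCharacter T, m η * k η = 0 := by exact_mod_cast h7
  have h9 := Finset.sum_eq_zero_iff.1 h8 ⟨ψ, hψ⟩ (Finset.mem_univ _)
  rcases Nat.mul_eq_zero.1 h9 with h10 | h10
  · exact hmψ h10
  · apply h2
    have := hk ⟨ψ, hψ⟩
    rw [h10, Nat.cast_zero] at this
    exact this

end lin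

section main

variable {G : Type u} [Group G] [Finite G] {p : ℕ} [Fact p.Prime] {M : Ideal AlgInt}

/-- the trivial character -/
noncomputable def one (G : Type u) [Group G] : IrrCharacter G := ⟨fun _ => 1, Basic.isIrrCharacter_one⟩

theorem mem_pb {χ : IrrCharacter G} :
    χ ∈ principalBlock M G ↔ SameBlock M (one G : G → ℂ) (χ : G → ℂ) := Iff.rfl

theorem tl_mem (hMp : M.IsPrime) {l : G →* ℂˣ} (hl : tl l (one G) ∈ principalBlock M G) {χ : IrrCharacter G}
    (hχ : χ ∈ principalBlock M G) : tl l χ ∈ principalBlock M G := by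
  rw [mem_pb] at hl hχ ⊢
  exact Basic.sameBlock_trans hl (sameBlock_tl hMp l hχ)

/-- the linear characters of `G / N` in the principal block -/
noncomputable def lam (M : Ideal AlgInt) (hMp : M.IsPrime) (N : Subgroup G) : Subgroup (G →* ℂˣ) where
  carrier := {l | (∀ x ∈ N, l x = 1) ∧ tl l (one G) ∈ principalBlock M G}
  mul_mem' := by
    rintro a b ⟨ha, ha'⟩ ⟨hb, hb'⟩
    refine ⟨fun x hx => by rw [MonoidHom.mul_apply, ha x hx, hb x hx, one_mul], ?_⟩
    rw [← tl_tl]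
    exact tl_mem hMp ha' hb'
  one_mem' := by
    refine ⟨fun x _ => rfl, ?_⟩
    rw [tl_one]
    exact Basic.sameBlock_refl _
  inv_mem' := by
    rintro a ⟨ha, ha'⟩
    refine ⟨fun x hx => by rw [MonoidHom.inv_apply, ha x hx, inv_one], ?_⟩
    rw [mem_pb] at ha' ⊢
    have h1 := sameBlock_tl hMp a⁻¹ ha'
    rw [tl_inv_tl] at h1
    exact Basic.sameBlock_symm h1

/-- the characters in the principal block which are not trivial on `N` -/
def XX (M : Ideal AlgInt) (N : Subgroup G) : Type u :=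
  {χ : IrrCharacter G // χ ∈ principalBlock M G ∧ ∃ x ∈ N, (χ : G → ℂ) x ≠ (χ : G → ℂ) 1}

/-- the action by twists -/
noncomputable instance act (hMp : M.IsPrime) (N : Subgroup G) : MulAction (lam M hMp N) (XX M N) where
  smul l χ := ⟨tl (l : G →* ℂˣ) χ.1, tl_mem hMp l.2.2 χ.2.1, by
    obtain ⟨x, hx, h⟩ := χ.2.2
    refine ⟨x, hx, ?_⟩
    rw [tl_apply, tl_apply, l.2.1 x hx, map_one, Units.val_one, one_mul, one_mul]
    exact h⟩
  one_smul χ := Subtype.ext (tl_one χ.1)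
  mul_smul a b χ := Subtype.ext (tl_tl (a : G →* ℂˣ) (b : G →* ℂˣ) χ.1).symm

end main

end Cfsg.Agent.H690.OwnD
end

-- part: H695/LB/Crit
section
/-!
# S4933: the criterion for rows with cyclic `N P / N` (helper695)

* `Tool p M H` : above every character of `B_0(H)` lies one of `B_0(A)` with no larger `p`-part of the degree
  (true if `H` contains a Sylow `p`-subgroup);
* `goodOn_of_ext` : `ψ ∈ Irr(N)`, `1 ≤ vd p ψ`, `ξ ∈ B_0(H)` over `ψ` with `vd p ξ ≤ a`: `GoodOn p a M N`;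
* `goodOn_of_inv` : `ψ ∈ B_0(N)` fixed by `P`, `1 ≤ vd p ψ ≤ a`, `N P / N` cyclic: `GoodOn p a M N`.
-/

set_option autoImplicit false

open Cfsg Subgroup
open Cfsg.Agent.H316.HT Cfsg.Agent.Characters.Core

namespace Cfsg.Agent.H695.LB.Crit

universe u v

/-- **the tool**: from `B_0(H)` to `B_0(A)` -/
def Tool (p : ℕ) (M : Ideal AlgInt) {A : Type u} [Group A] (H : Subgroup A) [Fintype H] : Prop :=
  ∀ ξ : IrrCharacter H, ξ ∈ principalBlock M H → ∃ χ : IrrCharacter A, χ ∈ principalBlock M A ∧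
    classInner (fun h : H => (χ : A → ℂ) h) (ξ : H → ℂ) ≠ 0 ∧ vd p (χ : A → ℂ) ≤ vd p (ξ : H → ℂ)

variable {p : ℕ} [hp : Fact p.Prime] {M : Ideal AlgInt} {A : Type u} [Group A] [Finite A]

theorem vd_pos_iff {G : Type u} [Group G] [Finite G] {χ : G → ℂ} (hχ : IsIrrCharacter G χ) :
    0 < vd p χ ↔ p ∣ charDegree χ := by
  have h0 : charDegree χ ≠ 0 := by
    intro h
    have h1 := Blocks.Basic.irr_one_eq_charDegree hχ
    rw [h, Nat.cast_zero] at h1
    exact isIrr_apply_one_ne_zero hχ h1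
  unfold vd
  constructor
  · intro h
    by_contra hcon
    rw [Nat.factorization_eq_zero_of_not_dvd hcon] at h
    exact lt_irrefl _ h
  · intro h
    exact hp.out.factorization_pos_of_dvd h0 h

/-- `GoodOn` from a character of `B_0(A)` over `ψ` with `p ∣ ψ(1)` -/
theorem goodOn_of_over (N : Subgroup A) [N.Normal] [Fintype N] {a : ℕ} (ψ : IrrCharacter N)
    (h1 : 0 < vd p (ψ : N → ℂ)) (χ : IrrCharacter A) (hχ : χ ∈ principalBlock M A)
    (hov : classInner (fun n : N => (χ : A → ℂ) n) (ψ : N → ℂ) ≠ 0) (ha : vd p (χ : A → ℂ) ≤ a) : GoodOn p a M N := by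
  classical
  have := Fintype.ofFinite A
  have hd := (H596.charDegree_dvd_of_over N χ.2 ψ.2 hov).1
  have hψ := (vd_pos_iff ψ.2).1 h1
  refine ⟨χ, hχ, ?_, (vd_pos_iff χ.2).2 (hψ.trans hd), ha⟩
  by_contra hcon
  push Not at hcon
  have h2 : (fun n : N => (χ : A → ℂ) n) = (χ : A → ℂ) 1 • (1 : N → ℂ) := by
    funext n
    rw [hcon n n.2, Pi.smul_apply, Pi.one_apply, smul_eq_mul, mul_one]
  rw [h2, classInner_smul_left] at hov
  have h3 : (ψ : N → ℂ) = 1 := by
    by_contra hne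
    exact hov (by rw [classInner_irr_ne isIrr_one ψ.2 (Ne.symm hne), mul_zero])
  rw [h3] at hψ
  have h4 : charDegree (1 : N → ℂ) = 1 := by
    unfold charDegree
    rw [Pi.one_apply, Complex.one_re, Nat.floor_one]
  rw [h4] at hψ
  exact hp.out.one_lt.ne' (Nat.dvd_one.1 hψ)

/-- **the criterion with `ξ ∈ B_0(H)` over `ψ`** -/
theorem goodOn_of_ext (N : Subgroup A) [N.Normal] [Fintype N] (H : Subgroup A) [Fintype H] (hNH : N ≤ H)
    (htool : Tool p M H) {a : ℕ} (ψ : IrrCharacter N) (h1 : 0 < vd p (ψ : N → ℂ)) (ξ : IrrCharacter H)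
    (hξ : ξ ∈ principalBlock M H)
    (hov : classInner (fun n : N => (ξ : H → ℂ) (Subgroup.inclusion hNH n)) (ψ : N → ℂ) ≠ 0)
    (ha : vd p (ξ : H → ℂ) ≤ a) : GoodOn p a M N := by
  classical
  have := Fintype.ofFinite A
  obtain ⟨χ, h2, h3, h4⟩ := htool ξ hξ
  exact goodOn_of_over N ψ h1 χ h2 (H690.OwnD.over_trans' N H hNH (isIrr_isCharacter χ.2) ξ.2 ψ.2 h3 hov)
    (h4.trans ha)

/-- **the criterion with an invariant `ψ ∈ B_0(N)`** -/
theorem goodOn_of_inv (hM : IsPModular p M) (N : Subgroup A) [hNn : N.Normal] (P : Subgroup A) (hP : IsPGroup p P)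
    [Fintype (N ⊔ P : Subgroup A)] (htool : Tool p M (N ⊔ P))
    (hcyc : IsCyclic ((N ⊔ P : Subgroup A) ⧸ N.subgroupOf (N ⊔ P))) {a : ℕ} (ψ : IrrCharacter N)
    (hψ : ψ ∈ principalBlock M N) (h1 : 0 < vd p (ψ : N → ℂ)) (ha : vd p (ψ : N → ℂ) ≤ a)
    (hinv : ∀ x ∈ P, ∀ n : N, (ψ : N → ℂ) ⟨x * n * x⁻¹, hNn.conj_mem (n : A) n.2 x⟩ = (ψ : N → ℂ) n) :
    GoodOn p a M N := by
  classical
  have := Fintype.ofFinite N
  obtain ⟨ξ, h2, h3⟩ := Ext.exists_ext_sup hM N P hP hcyc ψ hψ hinv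
  refine goodOn_of_ext N (N ⊔ P) le_sup_left htool ψ h1 ξ h2 ?_ ?_
  · have h4 : (fun n : N => (ξ : (N ⊔ P : Subgroup A) → ℂ) (Subgroup.inclusion le_sup_left n)) = (ψ : N → ℂ) :=
      funext fun n => h3 n
    rw [h4, classInner_irr_self ψ.2]
    exact one_ne_zero
  · have h5 : charDegree (ξ : (N ⊔ P : Subgroup A) → ℂ) = charDegree (ψ : N → ℂ) := by
      unfold charDegree
      rw [← h3 1]
      rfl
    unfold vd at ha ⊢
    rw [h5]
    exact ha

end Cfsg.Agent.H695.LB.Crit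
end

private theorem dce_4c326031b209 : _root_.True := by
  try have : _root_.True := by simp only [_root_.Cfsg.Agent.H690.OwnD.lam.congr_simp]
  exact _root_.True.intro
end

-- part: H722/DPol/Main
section
prune_inst 0x2f570474077a200080000a094b3205e76760000b200600400aca20d4e0dc90f42c0e2c161bf9034155a882285483d0420021000c0004000000e240400011c018000801404e089009180009600020c610000008000300000000000000000000004004010000
set_option linter.all false
open scoped Cfsg.Agent.FastGrp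

/-!
# The characters of the dual polar schemes (helper722)

1. `FF Q s m j = ∏_{l < m - j} (1 + s Q^l x) ∏_{l < j} (1 - Q^l x)`: the coefficient `PP Q s m j i` of `x^i` is the
eigenvalue `P_i(j)` of the relation "codimension `i`" on the `j`-th eigenspace of the dual polar space of rank `m` with
parameters `Q`, `s`; `ff Q s m j` is the multiplicity.
2. `DR.exists_char`: the irreducible character of a spherical function of any distance transitive action.
3. `DP.exists_char`: `G` acts on `X` preserving `d : X → X → ℕ`, transitively on the pairs at every distance, with the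
intersection numbers `b_i = s Q^i [m-i]`, `c_i = [i]` of a dual polar space of rank `m`.  For every `j ≤ m` there is an
irreducible character of degree `ff Q s m j` with the spherical function `om m Q s j i = P_i(j) / k_i`, `k_i = P_i(0)`.
-/

set_option autoImplicit false
set_option linter.unusedSectionVars false

namespace Cfsg.Agent.H722.DPol

open Polynomial Finset

section ring

variable {R : Type*} [CommRing R]

/-- The generating function of the eigenvalues. -/
noncomputable def FF (Q s : R) (m j : ℕ) : R[X] :=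
  (∏ l ∈ range (m - j), (1 + C (s * Q ^ l) * X)) * ∏ l ∈ range j, (1 - C (Q ^ l) * X)

/-- The eigenvalue `P_i(j)`. -/
noncomputable def PP (Q s : R) (m j i : ℕ) : R := (FF Q s m j).coeff i

theorem FF_comp (Q s : R) (m j : ℕ) :
    (1 + C s * X) * (1 - X) * (FF Q s m j).comp (C Q * X) =
      (1 + C (s * Q ^ (m - j)) * X) * (1 - C (Q ^ j) * X) * FF Q s m j := by
  have h1 : ∀ k : ℕ, (1 + C s * X) * ∏ l ∈ range k, (1 + C (s * Q ^ (l + 1)) * X) =
      (1 + C (s * Q ^ k) * X) * ∏ l ∈ range k, (1 + C (s * Q ^ l) * (X : R[X])) := by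
    intro k
    have e1 := prod_range_succ' (fun l => 1 + C (s * Q ^ l) * (X : R[X])) k
    have e2 := prod_range_succ (fun l => 1 + C (s * Q ^ l) * (X : R[X])) k
    rw [e1] at e2
    simp only [pow_zero, mul_one] at e2
    rw [mul_comm, e2, mul_comm]
  have h2 : ∀ k : ℕ, (1 - X) * ∏ l ∈ range k, (1 - C (Q ^ (l + 1)) * X) =
      (1 - C (Q ^ k) * X) * ∏ l ∈ range k, (1 - C (Q ^ l) * (X : R[X])) := by
    intro k
    have e1 := prod_range_succ' (fun l => 1 - C (Q ^ l) * (X : R[X])) k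
    have e2 := prod_range_succ (fun l => 1 - C (Q ^ l) * (X : R[X])) k
    rw [e1] at e2
    simp only [pow_zero, map_one, one_mul] at e2
    rw [mul_comm, e2, mul_comm]
  have h3 : (FF Q s m j).comp (C Q * X) =
      (∏ l ∈ range (m - j), (1 + C (s * Q ^ (l + 1)) * X)) * ∏ l ∈ range j, (1 - C (Q ^ (l + 1)) * X) := by
    unfold FF
    rw [mul_comp, Polynomial.prod_comp, Polynomial.prod_comp]
    congr 1
    · refine prod_congr rfl fun l _ => ?_
      simp only [add_comp, one_comp, mul_comp, C_comp, X_comp]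
      simp only [pow_succ, map_mul]
      ring
    · refine prod_congr rfl fun l _ => ?_
      simp only [sub_comp, one_comp, mul_comp, C_comp, X_comp]
      simp only [pow_succ, map_mul]
      ring
  rw [h3]
  calc (1 + C s * X) * (1 - X) * ((∏ l ∈ range (m - j), (1 + C (s * Q ^ (l + 1)) * X)) *
        ∏ l ∈ range j, (1 - C (Q ^ (l + 1)) * X))
      = ((1 + C s * X) * ∏ l ∈ range (m - j), (1 + C (s * Q ^ (l + 1)) * X)) *
        ((1 - X) * ∏ l ∈ range j, (1 - C (Q ^ (l + 1)) * X)) := by ring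
    _ = _ := by
      rw [h1, h2]
      unfold FF
      ring

theorem PP_zero (Q s : R) (m j : ℕ) : PP Q s m j 0 = 1 := by
  unfold PP FF
  rw [mul_coeff_zero, coeff_zero_prod, coeff_zero_prod]
  simp only [_root_.map_mul, _root_.map_pow, _root_.Polynomial.coeff_add, _root_.Polynomial.coeff_one_zero, _root_.Polynomial.mul_coeff_zero, _root_.Polynomial.coeff_C_zero, _root_.Polynomial.coeff_X_zero, _root_.MulZeroClass.mul_zero, _root_.add_zero, _root_.Finset.prod_const_one, _root_.Polynomial.coeff_sub, _root_.sub_zero, _root_.mul_one]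

/-- The three term recursion, first step. -/
theorem PP_rec_zero (Q s : R) {m j : ℕ} (hj : j ≤ m) :
    (Q - 1) * PP Q s m j 1 + ((s - 1) - (s * Q ^ (m - j) - Q ^ j)) * PP Q s m j 0 = 0 := by
  have h := FF_comp Q s m j
  have h1 : (1 + C s * X) * (1 - X) * (FF Q s m j).comp (C Q * X) = (FF Q s m j).comp (C Q * X) +
      X * (C (s - 1) * (FF Q s m j).comp (C Q * X)) - X * (X * (C s * (FF Q s m j).comp (C Q * X))) := by
    rw [map_sub, map_one]
    ring
  have hQ : Q ^ (m - j) * Q ^ j = Q ^ m := by rw [← pow_add, Nat.sub_add_cancel hj]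
  have h2 : (1 + C (s * Q ^ (m - j)) * X) * (1 - C (Q ^ j) * X) * FF Q s m j = FF Q s m j +
      X * (C (s * Q ^ (m - j) - Q ^ j) * FF Q s m j) - X * (X * (C (s * Q ^ m) * FF Q s m j)) := by
    rw [← hQ]
    simp only [map_sub, map_mul]
    ring
  rw [h1, h2] at h
  have h3 := congrArg (fun p => p.coeff (0 + 1)) h
  simp only [coeff_add, coeff_sub, coeff_X_mul, coeff_C_mul, comp_C_mul_X_coeff, coeff_X_mul_zero] at h3
  unfold PP
  simp only [zero_add, pow_one, pow_zero, mul_one, sub_zero] at h3 ⊢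
  linear_combination h3

/-- The three term recursion. -/
theorem PP_rec (Q s : R) {m j : ℕ} (hj : j ≤ m) (i : ℕ) :
    (Q ^ (i + 2) - 1) * PP Q s m j (i + 2) + ((s - 1) * Q ^ (i + 1) - (s * Q ^ (m - j) - Q ^ j)) * PP Q s m j (i + 1) +
      s * (Q ^ m - Q ^ i) * PP Q s m j i = 0 := by
  have h := FF_comp Q s m j
  have h1 : (1 + C s * X) * (1 - X) * (FF Q s m j).comp (C Q * X) = (FF Q s m j).comp (C Q * X) +
      X * (C (s - 1) * (FF Q s m j).comp (C Q * X)) - X * (X * (C s * (FF Q s m j).comp (C Q * X))) := by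
    rw [map_sub, map_one]
    ring
  have hQ : Q ^ (m - j) * Q ^ j = Q ^ m := by rw [← pow_add, Nat.sub_add_cancel hj]
  have h2 : (1 + C (s * Q ^ (m - j)) * X) * (1 - C (Q ^ j) * X) * FF Q s m j = FF Q s m j +
      X * (C (s * Q ^ (m - j) - Q ^ j) * FF Q s m j) - X * (X * (C (s * Q ^ m) * FF Q s m j)) := by
    rw [← hQ]
    simp only [map_sub, map_mul]
    ring
  rw [h1, h2] at h
  have h3 := congrArg (fun p => p.coeff (i + 1 + 1)) h
  simp only [coeff_add, coeff_sub, coeff_X_mul, coeff_C_mul, comp_C_mul_X_coeff] at h3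
  unfold PP
  linear_combination h3

/-- Row `0`: the valencies. -/
theorem PP_val (Q s : R) (m i : ℕ) :
    (Q ^ (i + 1) - 1) * PP Q s m 0 (i + 1) = s * (Q ^ m - Q ^ i) * PP Q s m 0 i := by
  have h1 : (1 + C s * X) * (FF Q s m 0).comp (C Q * X) = (1 + C (s * Q ^ m) * X) * FF Q s m 0 := by
    unfold FF
    simp only [Nat.sub_zero, range_zero, prod_empty, mul_one]
    rw [Polynomial.prod_comp]
    have e1 := prod_range_succ' (fun l => 1 + C (s * Q ^ l) * (X : R[X])) m
    have e2 := prod_range_succ (fun l => 1 + C (s * Q ^ l) * (X : R[X])) m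
    rw [e1] at e2
    simp only [pow_zero, mul_one] at e2
    have e3 : ∏ l ∈ range m, (1 + C (s * Q ^ l) * X).comp (C Q * X) =
        ∏ l ∈ range m, (1 + C (s * Q ^ (l + 1)) * (X : R[X])) := by
      refine prod_congr rfl fun l _ => ?_
      simp only [add_comp, one_comp, mul_comp, C_comp, X_comp]
      simp only [pow_succ, map_mul]
      ring
    rw [e3, mul_comm, e2, mul_comm]
  have h2 : (FF Q s m 0).comp (C Q * X) + X * (C s * (FF Q s m 0).comp (C Q * X)) =
      FF Q s m 0 + X * (C (s * Q ^ m) * FF Q s m 0) := by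
    linear_combination h1
  have h3 := congrArg (fun p => p.coeff (i + 1)) h2
  simp only [coeff_add, coeff_X_mul, coeff_C_mul, comp_C_mul_X_coeff] at h3
  unfold PP
  linear_combination h3

theorem FF_natDegree (Q s : R) {m j : ℕ} (hj : j ≤ m) : (FF Q s m j).natDegree ≤ m := by
  unfold FF
  refine natDegree_mul_le.trans ?_
  have h1 : (∏ l ∈ range (m - j), (1 + C (s * Q ^ l) * (X : R[X]))).natDegree ≤ m - j := by
    refine (natDegree_prod_le _ _).trans ?_
    refine (sum_le_card_nsmul _ _ 1 fun l _ => ?_).trans (by simp)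
    compute_degree
  have h2 : (∏ l ∈ range j, (1 - C (Q ^ l) * (X : R[X]))).natDegree ≤ j := by
    refine (natDegree_prod_le _ _).trans ?_
    refine (sum_le_card_nsmul _ _ 1 fun l _ => ?_).trans (by simp)
    compute_degree
  omega

theorem PP_of_lt (Q s : R) {m j i : ℕ} (hj : j ≤ m) (hi : m < i) : PP Q s m j i = 0 :=
  coeff_eq_zero_of_natDegree_lt ((FF_natDegree Q s hj).trans_lt hi)

theorem PP_map {S : Type*} [CommRing S] (f : R →+* S) (Q s : R) (m j i : ℕ) :
    f (PP Q s m j i) = PP (f Q) (f s) m j i := by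
  unfold PP FF
  rw [← coeff_map]
  congr 1
  simp only [Polynomial.map_prod, _root_.map_mul, _root_.map_pow, _root_.Polynomial.map_mul, _root_.Polynomial.map_add, _root_.Polynomial.map_one, _root_.Polynomial.map_C, _root_.Polynomial.map_pow, _root_.Polynomial.map_X, _root_.Polynomial.map_sub]

theorem sum_PP (Q s : R) {m j : ℕ} (hj : j ≤ m) :
    ∑ i ∈ range (m + 1), PP Q s m j i = (FF Q s m j).eval 1 := by
  rw [eval_eq_sum_range' (Nat.lt_succ_of_le (FF_natDegree Q s hj))]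
  simp [PP]

theorem sum_val (Q s : R) (m : ℕ) : ∑ i ∈ range (m + 1), PP Q s m 0 i = ∏ l ∈ range m, (1 + s * Q ^ l) := by
  rw [sum_PP Q s (Nat.zero_le m)]
  unfold FF
  simp only [eval_prod, _root_.tsub_zero, _root_.map_mul, _root_.map_pow, _root_.Finset.range_zero, _root_.Finset.prod_empty, _root_.mul_one, _root_.Polynomial.eval_add, _root_.Polynomial.eval_one, _root_.Polynomial.eval_mul, _root_.Polynomial.eval_C, _root_.Polynomial.eval_pow, _root_.Polynomial.eval_X]

end ring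

section ord

variable {K : Type*} [Field K] [LinearOrder K] [IsStrictOrderedRing K] {Q s : K}

theorem pow_sub_pos (hQ : 1 < Q) {a b : ℕ} (h : a < b) : 0 < Q ^ b - Q ^ a :=
  sub_pos.2 (pow_lt_pow_right₀ hQ h)

theorem pow_one_pos (hQ : 1 < Q) (a : ℕ) : 0 < Q ^ (a + 1) - 1 :=
  sub_pos.2 (one_lt_pow₀ hQ (Nat.succ_ne_zero a))

theorem val_pos (hQ : 1 < Q) (hs : 0 < s) {m : ℕ} : ∀ {i : ℕ}, i ≤ m → 0 < PP Q s m 0 i := by
  intro i
  induction i with
  | zero => intro _; rw [PP_zero]; exact one_pos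
  | succ i ih =>
    intro hi
    have h1 := PP_val Q s m i
    have h2 := ih (by omega)
    have h3 := mul_pos (mul_pos hs (pow_sub_pos hQ (show i < m by omega))) h2
    rw [← h1] at h3
    exact (pos_iff_pos_of_mul_pos h3).1 (pow_one_pos hQ i)

theorem th_lt (hQ : 1 < Q) (hs : 0 < s) {m j j' : ℕ} (h : j < j') :
    s * Q ^ (m - j') - Q ^ j' < s * Q ^ (m - j) - Q ^ j := by
  have h1 : Q ^ (m - j') ≤ Q ^ (m - j) := pow_le_pow_right₀ hQ.le (by omega)
  have h2 := pow_sub_pos hQ h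
  have h3 := mul_le_mul_of_nonneg_left h1 hs.le
  linarith

theorem th_ne (hQ : 1 < Q) (hs : 0 < s) {m j j' : ℕ} (h : j ≠ j') :
    (s * Q ^ (m - j) - Q ^ j) - (s * Q ^ (m - j') - Q ^ j') ≠ 0 := by
  rcases Nat.lt_or_gt_of_ne h with h | h
  · exact (sub_pos.2 (th_lt hQ hs h)).ne'
  · exact (sub_neg.2 (th_lt hQ hs h)).ne

/-- Christoffel-Darboux. -/
theorem cd (hQ : 1 < Q) (hs : 0 < s) {m : ℕ} {u v : ℕ → K} {t t' : K}
    (hu0 : (Q - 1) * u 1 + ((s - 1) - t) * u 0 = 0)
    (hu : ∀ i, (Q ^ (i + 2) - 1) * u (i + 2) + ((s - 1) * Q ^ (i + 1) - t) * u (i + 1) + s * (Q ^ m - Q ^ i) * u i = 0)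
    (hv0 : (Q - 1) * v 1 + ((s - 1) - t') * v 0 = 0)
    (hv : ∀ i, (Q ^ (i + 2) - 1) * v (i + 2) + ((s - 1) * Q ^ (i + 1) - t') * v (i + 1) + s * (Q ^ m - Q ^ i) * v i = 0) :
    ∀ n ≤ m, (t - t') * ∑ i ∈ range (n + 1), u i * v i / PP Q s m 0 i =
      (Q ^ (n + 1) - 1) * (u (n + 1) * v n - u n * v (n + 1)) / PP Q s m 0 n := by
  intro n
  induction n with
  | zero =>
    intro _
    rw [zero_add, range_one, sum_singleton, PP_zero, div_one, div_one, pow_one]
    linear_combination (-v 0) * hu0 + u 0 * hv0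
  | succ n ih =>
    intro hn
    have h1 := ih (by omega)
    rw [sum_range_succ, mul_add, h1]
    have k1 := (val_pos hQ hs (show n ≤ m by omega)).ne'
    have k2 := (val_pos hQ hs hn).ne'
    have h2 := PP_val Q s m n
    have h3 := hu n
    have h4 := hv n
    have h5 : (Q ^ (n + 1) - 1) * (u (n + 1) * v n - u n * v (n + 1)) / PP Q s m 0 n =
        s * (Q ^ m - Q ^ n) * (u (n + 1) * v n - u n * v (n + 1)) / PP Q s m 0 (n + 1) := by
      rw [div_eq_div_iff k1 k2]
      linear_combination (u (n + 1) * v n - u n * v (n + 1)) * h2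
    rw [h5]
    field_simp
    linear_combination (-v (n + 1)) * h3 + u (n + 1) * h4

theorem orth (hQ : 1 < Q) (hs : 0 < s) {m j j' : ℕ} (hj : j ≤ m) (hj' : j' ≤ m) (h : j ≠ j') :
    ∑ i ∈ range (m + 1), PP Q s m j i * PP Q s m j' i / PP Q s m 0 i = 0 := by
  have h1 := cd hQ hs (PP_rec_zero Q s hj) (PP_rec Q s hj) (PP_rec_zero Q s hj') (PP_rec Q s hj') m le_rfl
  rw [PP_of_lt Q s hj (Nat.lt_succ_self m), PP_of_lt Q s hj' (Nat.lt_succ_self m)] at h1
  have h2 := th_ne hQ hs (m := m) h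
  rw [zero_mul, mul_zero, sub_self, mul_zero, zero_div] at h1
  exact (mul_eq_zero.1 h1).resolve_left h2

/-- The main part of the multiplicity. -/
def gg (Q s : K) (m j : ℕ) : K :=
  ∏ i ∈ range j, s * (Q ^ (m - i) - 1) * (1 + s * Q ^ (m - (i + 1))) / ((Q ^ (i + 1) - 1) * (s + Q ^ (i + 1)))

/-- The multiplicity of the `j`-th eigenspace. -/
def ff (Q s : K) (m j : ℕ) : K := gg Q s m j * (Q ^ (2 * j) + s * Q ^ m) / (Q ^ j + s * Q ^ m)

theorem gg_succ (Q s : K) (m j : ℕ) : gg Q s m (j + 1) =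
    gg Q s m j * (s * (Q ^ (m - j) - 1) * (1 + s * Q ^ (m - (j + 1))) / ((Q ^ (j + 1) - 1) * (s + Q ^ (j + 1)))) := by
  unfold gg
  rw [prod_range_succ]

theorem gg_succ_succ (Q s : K) (m j : ℕ) : gg Q s (m + 1) (j + 1) =
    gg Q s m j * (s * (Q ^ (m + 1) - 1) * (1 + s * Q ^ m) / ((Q ^ (j + 1) - 1) * (s + Q ^ (j + 1)))) := by
  unfold gg
  rw [prod_div_distrib, prod_div_distrib, prod_range_succ', prod_range_succ (fun i => (Q ^ (i + 1) - 1) * (s + Q ^ (i + 1)))]
  simp only [Nat.add_sub_add_right, Nat.sub_zero, zero_add, Nat.add_sub_cancel]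
  rw [div_mul_div_comm]

theorem gg_top (Q s : K) (m : ℕ) : gg Q s m (m + 1) = 0 := by
  rw [gg_succ, Nat.sub_self, pow_zero, sub_self, mul_zero, zero_mul, zero_div, mul_zero]

theorem ff_top (Q s : K) (m : ℕ) : ff Q s m (m + 1) = 0 := by
  unfold ff
  rw [gg_top, zero_mul, zero_div]

theorem ff_zero (hQ : 1 < Q) (hs : 0 < s) (m : ℕ) : ff Q s m 0 = 1 := by
  have h1 : 0 < 1 + s * Q ^ m := by (clear * - hQ hs; positivity)
  unfold ff gg
  rw [range_zero, prod_empty, mul_zero, pow_zero, one_mul]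
  exact div_self h1.ne'

theorem gg_pos (hQ : 1 < Q) (hs : 0 < s) {m : ℕ} : ∀ {j : ℕ}, j ≤ m → 0 < gg Q s m j := by
  intro j hj
  have hQ0 : 0 < Q := by linarith
  unfold gg
  refine prod_pos fun i hi => ?_
  rw [mem_range] at hi
  obtain ⟨k, hk⟩ : ∃ k, m - i = k + 1 := ⟨m - i - 1, by omega⟩
  have h1 := pow_one_pos hQ k
  have h2 := pow_one_pos hQ i
  rw [hk]
  (clear * - hQ hs h1 h2; positivity)

theorem ff_pos (hQ : 1 < Q) (hs : 0 < s) {m j : ℕ} (hj : j ≤ m) : 0 < ff Q s m j := by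
  have hQ0 : 0 < Q := by linarith
  have h1 := gg_pos hQ hs hj
  unfold ff
  (clear * - hQ hs h1; positivity)

/-- The recursion of the multiplicities. -/
theorem ff_rec (hQ : 1 < Q) (hs : 0 < s) {m j : ℕ} (hj : j ≤ m) :
    ff Q s (m + 1) (j + 1) = (1 + s * Q ^ m) *
      (ff Q s m (j + 1) * (Q ^ (2 * (j + 1)) / (Q ^ (2 * (j + 1)) + s * Q ^ m)) +
        ff Q s m j * (s * Q ^ m / (Q ^ (2 * j) + s * Q ^ m))) := by
  have hQ0 : 0 < Q := by linarith
  obtain ⟨k, rfl⟩ : ∃ k, m = j + k := ⟨m - j, by omega⟩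
  have e1 : 0 < Q ^ (2 * (j + 1)) + s * Q ^ (j + k) := by (clear * - hQ hs; positivity)
  have e2 : 0 < Q ^ (2 * j) + s * Q ^ (j + k) := by positivity
  have e3 : 0 < Q ^ (j + 1) + s * Q ^ (j + k) := by positivity
  have e4 : 0 < Q ^ j + s * Q ^ (j + k) := by positivity
  have e5 : 0 < s + Q ^ (j + 1) := by positivity
  have e6 := pow_one_pos hQ j
  have e7 : 0 < Q ^ (j + 1) + s * Q ^ (j + k + 1) := by positivity
  -- the first summand
  have f1 : ff Q s (j + k) (j + 1) * (Q ^ (2 * (j + 1)) / (Q ^ (2 * (j + 1)) + s * Q ^ (j + k))) =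
      gg Q s (j + k) j * (s * (Q ^ (j + k + 1) - Q ^ (j + 1)) / ((Q ^ (j + 1) - 1) * (s + Q ^ (j + 1)))) := by
    unfold ff
    rw [gg_succ]
    rcases Nat.eq_zero_or_pos k with rfl | hk
    · rw [Nat.add_zero, Nat.sub_self, pow_zero, sub_self, sub_self]
      simp only [_root_.MulZeroClass.mul_zero, _root_.le_add_iff_nonneg_right, _root_.zero_le, _root_.Nat.sub_eq_zero_of_le, _root_.pow_zero, _root_.mul_one, _root_.MulZeroClass.zero_mul, _root_.zero_div]
    · obtain ⟨l, rfl⟩ : ∃ l, k = l + 1 := ⟨k - 1, by omega⟩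
      rw [show j + (l + 1) - j = l + 1 by omega, show j + (l + 1) - (j + 1) = l by omega]
      field_simp
      ring
  have f2 : ff Q s (j + k) j * (s * Q ^ (j + k) / (Q ^ (2 * j) + s * Q ^ (j + k))) =
      gg Q s (j + k) j * (s * Q ^ (j + k) / (Q ^ j + s * Q ^ (j + k))) := by
    unfold ff
    field_simp
  have f3 : ff Q s (j + k + 1) (j + 1) = gg Q s (j + k) j *
      (s * (Q ^ (j + k + 1) - 1) * (1 + s * Q ^ (j + k)) / ((Q ^ (j + 1) - 1) * (s + Q ^ (j + 1)))) *
      ((Q ^ (2 * (j + 1)) + s * Q ^ (j + k + 1)) / (Q ^ (j + 1) + s * Q ^ (j + k + 1))) := by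
    unfold ff
    rw [gg_succ_succ]
    ring
  rw [f1, f2, f3]
  have f4 : (Q ^ (2 * (j + 1)) + s * Q ^ (j + k + 1)) / (Q ^ (j + 1) + s * Q ^ (j + k + 1)) =
      (Q ^ (2 * j + 1) + s * Q ^ (j + k)) / (Q ^ j + s * Q ^ (j + k)) := by
    rw [div_eq_div_iff e7.ne' e4.ne']
    ring
  rw [f4]
  field_simp
  ring

/-- **The multiplicities**: `∑ j, f_j P_i(j) = N δ_{i,0}`. -/
theorem sum_ff (hQ : 1 < Q) (hs : 0 < s) (m : ℕ) :
    ∑ j ∈ range (m + 1), C (ff Q s m j) * FF Q s m j = C (∏ l ∈ range m, (1 + s * Q ^ l)) := by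
  have hQ0 : 0 < Q := by linarith
  induction m with
  | zero =>
    rw [zero_add, range_one, sum_singleton, ff_zero hQ hs]
    unfold FF
    simp only [_root_.map_one, _root_.tsub_self, _root_.Finset.range_zero, _root_.map_mul, _root_.map_pow, _root_.Finset.prod_empty, _root_.mul_one]
  | succ m ih =>
    have e1 : ∀ j ∈ range (m + 1), C (1 + s * Q ^ m) * (C (ff Q s m j) * FF Q s m j) =
        C ((1 + s * Q ^ m) * (ff Q s m j * (Q ^ (2 * j) / (Q ^ (2 * j) + s * Q ^ m)))) * FF Q s (m + 1) j +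
        C ((1 + s * Q ^ m) * (ff Q s m j * (s * Q ^ m / (Q ^ (2 * j) + s * Q ^ m)))) * FF Q s (m + 1) (j + 1) := by
      intro j hj
      rw [mem_range] at hj
      have k1 : FF Q s (m + 1) j = (1 + C (s * Q ^ (m - j)) * X) * FF Q s m j := by
        unfold FF
        rw [show m + 1 - j = (m - j) + 1 by omega, prod_range_succ]
        ring
      have k2 : FF Q s (m + 1) (j + 1) = (1 - C (Q ^ j) * X) * FF Q s m j := by
        unfold FF
        rw [show m + 1 - (j + 1) = m - j by omega, prod_range_succ]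
        ring
      have e2 : 0 < Q ^ (2 * j) + s * Q ^ m := by (clear * - hQ hs; positivity)
      set a := (1 + s * Q ^ m) * (ff Q s m j * (Q ^ (2 * j) / (Q ^ (2 * j) + s * Q ^ m))) with ha
      set b := (1 + s * Q ^ m) * (ff Q s m j * (s * Q ^ m / (Q ^ (2 * j) + s * Q ^ m))) with hb
      have k3 : a + b = (1 + s * Q ^ m) * ff Q s m j := by
        rw [ha, hb]
        field_simp
      have k4 : a * (s * Q ^ (m - j)) = b * Q ^ j := by
        have k5 : Q ^ m = Q ^ (m - j) * Q ^ j := by rw [← pow_add, Nat.sub_add_cancel (by omega)]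
        rw [ha, hb, two_mul, pow_add, k5]
        ring
      rw [k1, k2, ← mul_assoc, ← C_mul, ← k3]
      have k6 : C a * (C (s * Q ^ (m - j)) * X) - C b * (C (Q ^ j) * X) = (0 : K[X]) := by
        rw [← mul_assoc, ← mul_assoc, ← C_mul, ← C_mul, k4, sub_self]
      rw [C_add]
      linear_combination (-FF Q s m j) * k6
    have e3 : ff Q s (m + 1) 0 = (1 + s * Q ^ m) * (ff Q s m 0 * (Q ^ (2 * 0) / (Q ^ (2 * 0) + s * Q ^ m))) := by
      rw [ff_zero hQ hs, ff_zero hQ hs, mul_zero, pow_zero, one_mul]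
      have : 0 < 1 + s * Q ^ m := by (clear * - hQ hs; positivity)
      field_simp
    rw [sum_range_succ', e3]
    have e4 : ∀ j ∈ range (m + 1), C (ff Q s (m + 1) (j + 1)) * FF Q s (m + 1) (j + 1) =
        C ((1 + s * Q ^ m) * (ff Q s m (j + 1) * (Q ^ (2 * (j + 1)) / (Q ^ (2 * (j + 1)) + s * Q ^ m)))) *
          FF Q s (m + 1) (j + 1) +
        C ((1 + s * Q ^ m) * (ff Q s m j * (s * Q ^ m / (Q ^ (2 * j) + s * Q ^ m)))) * FF Q s (m + 1) (j + 1) := by
      intro j hj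
      rw [mem_range] at hj
      rw [ff_rec hQ hs (show j ≤ m by omega), mul_add, C_add, add_mul]
    rw [sum_congr rfl e4, sum_add_distrib]
    have e5 := sum_range_succ' (fun j => C ((1 + s * Q ^ m) *
      (ff Q s m j * (Q ^ (2 * j) / (Q ^ (2 * j) + s * Q ^ m)))) * FF Q s (m + 1) j) (m + 1)
    have e6 := sum_range_succ (fun j => C ((1 + s * Q ^ m) *
      (ff Q s m j * (Q ^ (2 * j) / (Q ^ (2 * j) + s * Q ^ m)))) * FF Q s (m + 1) j) (m + 1)
    rw [ff_top, zero_mul, mul_zero, C_0, zero_mul, add_zero] at e6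
    have e7 := sum_congr rfl e1
    rw [← mul_sum, ih, sum_add_distrib, ← e6, e5] at e7
    have e8 : (C (∏ l ∈ range (m + 1), (1 + s * Q ^ l)) : K[X]) =
        C (1 + s * Q ^ m) * C (∏ l ∈ range m, (1 + s * Q ^ l)) := by
      rw [prod_range_succ, mul_comm, C_mul]
    rw [e8, e7]
    ring

/-- **The norm of the spherical functions.** -/
theorem norm_eq (hQ : 1 < Q) (hs : 0 < s) {m j : ℕ} (hj : j ≤ m) :
    ff Q s m j * ∑ i ∈ range (m + 1), PP Q s m j i ^ 2 / PP Q s m 0 i = ∏ l ∈ range m, (1 + s * Q ^ l) := by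
  have h1 : ∀ i, ∑ j' ∈ range (m + 1), ff Q s m j' * PP Q s m j' i =
      if i = 0 then ∏ l ∈ range m, (1 + s * Q ^ l) else 0 := by
    intro i
    have h2 := congrArg (fun p => p.coeff i) (sum_ff hQ hs m)
    simp only [finsetSum_coeff, coeff_C_mul, coeff_C] at h2
    exact h2
  have h3 : ∑ i ∈ range (m + 1), (∑ j' ∈ range (m + 1), ff Q s m j' * PP Q s m j' i) *
      (PP Q s m j i / PP Q s m 0 i) = ∏ l ∈ range m, (1 + s * Q ^ l) := by
    rw [sum_eq_single 0]
    · rw [h1, if_pos rfl, PP_zero, PP_zero, div_one, mul_one]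
    · intro i _ hi
      rw [h1, if_neg hi, zero_mul]
    · intro h
      exact absurd (mem_range.2 (Nat.succ_pos m)) h
  rw [← h3]
  simp only [sum_mul]
  rw [sum_comm, mul_sum]
  rw [sum_eq_single j (f := fun j' => ∑ i ∈ range (m + 1), ff Q s m j' * PP Q s m j' i * (PP Q s m j i / PP Q s m 0 i))]
  · refine sum_congr rfl fun i _ => ?_
    ring
  · intro j' hj' hne
    rw [mem_range] at hj'
    have h4 := orth hQ hs (show j' ≤ m by omega) hj hne
    rw [← mul_zero (ff Q s m j'), ← h4, mul_sum]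
    refine sum_congr rfl fun i _ => ?_
    ring
  · intro h
    exact absurd (mem_range.2 (Nat.lt_succ_of_le hj)) h

end ord

end Cfsg.Agent.H722.DPol

namespace Cfsg.Agent.H722.DPol

open Cfsg Cfsg.Agent.Characters.Core Cfsg.Agent.H816.IMEig Finset
open scoped BigOperators

universe u v

/-- A distance transitive action of diameter `m` with the intersection numbers `up`, `dn`. -/
structure DR (G : Type u) [Group G] (X : Type v) [MulAction G X] (d : X → X → ℕ) (m : ℕ) (up dn : ℕ → ℕ) : Prop where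
  inv : ∀ (g : G) (x y : X), d (g • x) (g • y) = d x y
  tr : ∀ x y x' y' : X, d x y = d x' y' → ∃ g : G, g • x = x' ∧ g • y = y'
  diag : ∀ x y : X, d x y = 0 ↔ x = y
  symm : ∀ x y : X, d x y = d y x
  le : ∀ x y : X, d x y ≤ m
  near : ∀ x y z : X, d x z = 1 → d z y ≤ d x y + 1
  cup : ∀ x y : X, Nat.card {z // d x z = 1 ∧ d z y = d x y + 1} = up (d x y)
  cdn : ∀ x y : X, Nat.card {z // d x z = 1 ∧ d z y + 1 = d x y} = dn (d x y)

variable {G : Type u} [Group G] {X : Type v} [MulAction G X] {d : X → X → ℕ} {m : ℕ} {up dn : ℕ → ℕ}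

namespace DR

/-- The colour. -/
def col (h : DR G X d m up dn) (x y : X) : Fin (m + 1) := ⟨d x y, Nat.lt_succ_of_le (h.le x y)⟩

theorem toCol (h : DR G X d m up dn) : Col G X (Fin (m + 1)) h.col 0 where
  inv g x y := Fin.ext (h.inv g x y)
  tr x y x' y' e := h.tr x y x' y' (congrArg Fin.val e)
  diag x y := by
    rw [← h.diag x y]
    exact ⟨fun e => congrArg Fin.val e, fun e => Fin.ext e⟩
  symm x y := Fin.ext (h.symm x y)

theorem near' (h : DR G X d m up dn) (x y z : X) (hz : d x z = 1) : d x y ≤ d z y + 1 :=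
  h.near z y x (by rw [h.symm, hz])

/-- Points at every distance. -/
theorem exists_dist [Nonempty X] (hup : ∀ i < m, 0 < up i) (h : DR G X d m up dn) (y : X) :
    ∀ i ≤ m, ∃ x, d x y = i := by
  intro i
  induction i with
  | zero => intro _; exact ⟨y, (h.diag y y).2 rfl⟩
  | succ i ih =>
    intro hi
    obtain ⟨x, hx⟩ := ih (by omega)
    have h1 := h.cup x y
    rw [hx] at h1
    have h3 : Nat.card {z // d x z = 1 ∧ d z y = i + 1} ≠ 0 := by
      rw [h1]; exact (hup i (by omega)).ne'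
    obtain ⟨⟨z, hz⟩⟩ : Nonempty {z // d x z = 1 ∧ d z y = i + 1} := by
      by_contra hcon
      rw [not_nonempty_iff] at hcon
      exact h3 Nat.card_of_isEmpty
    exact ⟨z, hz.2⟩

section fin

variable [Finite X]

theorem up_top [Nonempty X] (hup : ∀ i < m, 0 < up i) (h : DR G X d m up dn) : up m = 0 := by
  obtain ⟨y⟩ : Nonempty X := inferInstance
  obtain ⟨x, hx⟩ := h.exists_dist hup y m le_rfl
  have h1 := h.cup x y
  rw [hx] at h1
  rw [← h1]
  have : IsEmpty {z // d x z = 1 ∧ d z y = m + 1} := ⟨fun z => by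
    have := h.le z.1 y
    have := z.2.2
    omega⟩
  exact Nat.card_of_isEmpty

theorem dn_zero [Nonempty X] (h : DR G X d m up dn) : dn 0 = 0 := by
  obtain ⟨y⟩ : Nonempty X := inferInstance
  have h1 := h.cdn y y
  rw [(h.diag y y).2 rfl] at h1
  rw [← h1]
  have : IsEmpty {z // d y z = 1 ∧ d z y + 1 = 0} := ⟨fun z => by
    have := z.2.2
    omega⟩
  exact Nat.card_of_isEmpty

theorem exists_one [Nonempty X] (hup : ∀ i < m, 0 < up i) (hm : 1 ≤ m) (h : DR G X d m up dn) :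
    ∃ x₀ z₀ : X, d x₀ z₀ = 1 :=
  ⟨_, _, (h.exists_dist hup (Classical.arbitrary X) 1 hm).choose_spec⟩

theorem tt_symm (h : DR G X d m up dn) (x₀ z₀ : X) (u w : Fin (m + 1)) :
    Col.tt h.col x₀ z₀ u w = Col.tt h.col x₀ z₀ w u := by
  rw [h.toCol.tt_eq (h.toCol.symm x₀ z₀) u w]
  exact Nat.card_congr ⟨fun y => ⟨y.1, y.2.2, y.2.1⟩, fun y => ⟨y.1, y.2.2, y.2.1⟩, fun _ => rfl, fun _ => rfl⟩

/-- The neighbours at a given distance. -/
theorem nn_up (h : DR G X d m up dn) {x₀ z₀ : X} (h0 : d x₀ z₀ = 1) (x y : X) (w : Fin (m + 1))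
    (hw : (w : ℕ) = d x y + 1) :
    Col.nn h.col (h.col x₀ z₀) x y w = up (d x y) := by
  rw [← h.cup x y]
  refine Nat.card_congr (Equiv.subtypeEquivRight fun z => ?_)
  unfold col
  rw [Fin.ext_iff, Fin.ext_iff]
  simp only [h0, hw]

theorem nn_down (h : DR G X d m up dn) {x₀ z₀ : X} (h0 : d x₀ z₀ = 1) (x y : X) (w : Fin (m + 1))
    (hw : (w : ℕ) + 1 = d x y) :
    Col.nn h.col (h.col x₀ z₀) x y w = dn (d x y) := by
  rw [← h.cdn x y]
  refine Nat.card_congr (Equiv.subtypeEquivRight fun z => ?_)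
  unfold col
  rw [Fin.ext_iff, Fin.ext_iff]
  simp only [h0]
  omega

theorem nn_far (h : DR G X d m up dn) {x₀ z₀ : X} (h0 : d x₀ z₀ = 1) (x y : X) (w : Fin (m + 1))
    (hw : (w : ℕ) ≠ d x y + 1) (hw' : (w : ℕ) + 1 ≠ d x y) (hw'' : (w : ℕ) ≠ d x y) :
    Col.nn h.col (h.col x₀ z₀) x y w = 0 := by
  unfold Col.nn
  have : IsEmpty {z // h.col x z = h.col x₀ z₀ ∧ h.col z y = w} := by
    refine ⟨fun z => ?_⟩
    obtain ⟨z, hz1, hz2⟩ := z
    have e1 : d x z = 1 := by
      have := congrArg Fin.val hz1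
      simpa [col, h0] using this
    have e2 : d z y = w := congrArg Fin.val hz2
    have e3 := h.near x y z e1
    have e4 := h.near' x y z e1
    omega
  exact Nat.card_of_isEmpty

theorem sum_nn (h : DR G X d m up dn) {x₀ z₀ : X} (h0 : d x₀ z₀ = 1) (x y : X) :
    ∑ w, Col.nn h.col (h.col x₀ z₀) x y w = up 0 := by
  have e : {z // h.col x z = h.col x₀ z₀} ≃ Σ w : Fin (m + 1), {z // h.col x z = h.col x₀ z₀ ∧ h.col z y = w} :=
    ⟨fun z => ⟨h.col z.1 y, z.1, z.2, rfl⟩, fun z => ⟨z.2.1, z.2.2.1⟩, fun _ => rfl, fun z => by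
      obtain ⟨w, z, hz1, rfl⟩ := z
      rfl⟩
  have h1 := Nat.card_congr e
  rw [Nat.card_sigma] at h1
  have h2 := h.cup x x
  rw [(h.diag x x).2 rfl, zero_add] at h2
  rw [← h2]
  unfold Col.nn
  rw [← h1]
  refine Nat.card_congr (Equiv.subtypeEquivRight fun z => ?_)
  unfold col
  rw [Fin.ext_iff]
  simp only [h0]
  constructor
  · intro hz
    exact ⟨hz, by rw [h.symm, hz]⟩
  · intro hz
    exact hz.1

/-- Extension of a function on the colours by zero. -/
noncomputable def ext (φ : Fin (m + 1) → ℂ) (i : ℕ) : ℂ := if hi : i < m + 1 then φ ⟨i, hi⟩ else 0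

theorem ext_val (φ : Fin (m + 1) → ℂ) (u : Fin (m + 1)) : ext φ u = φ u := by
  unfold ext
  rw [dif_pos u.2]

/-- The action of the adjacency matrix on functions of the distance. -/
theorem sum_nn_mul [Nonempty X] (hup : ∀ i < m, 0 < up i) (h : DR G X d m up dn) {x₀ z₀ : X} (h0 : d x₀ z₀ = 1)
    (x y : X) (φ : Fin (m + 1) → ℂ) :
    ∑ w, (Col.nn h.col (h.col x₀ z₀) x y w : ℂ) * φ w =
      ((up (d x y) : ℕ) : ℂ) * (ext φ (d x y + 1) - ext φ (d x y)) +
      ((dn (d x y) : ℕ) : ℂ) * (ext φ (d x y - 1) - ext φ (d x y)) + ((up 0 : ℕ) : ℂ) * ext φ (d x y) := by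
  have h1 : ∀ w : Fin (m + 1), (Col.nn h.col (h.col x₀ z₀) x y w : ℂ) * φ w =
      (if (w : ℕ) = d x y + 1 then ((up (d x y) : ℕ) : ℂ) * (ext φ (d x y + 1) - ext φ (d x y)) else 0) +
      (if (w : ℕ) + 1 = d x y then ((dn (d x y) : ℕ) : ℂ) * (ext φ (d x y - 1) - ext φ (d x y)) else 0) +
      (Col.nn h.col (h.col x₀ z₀) x y w : ℂ) * ext φ (d x y) := by
    intro w
    by_cases hw : (w : ℕ) = d x y + 1
    · rw [if_pos hw, if_neg (by omega), h.nn_up h0 x y w hw, ← hw, ext_val]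
      ring
    · rw [if_neg hw]
      by_cases hw' : (w : ℕ) + 1 = d x y
      · rw [if_pos hw', h.nn_down h0 x y w hw', ← hw', Nat.add_sub_cancel, ext_val]
        ring
      · rw [if_neg hw']
        by_cases hw'' : (w : ℕ) = d x y
        · rw [← hw'', ext_val]
          ring
        · rw [h.nn_far h0 x y w hw hw' hw'']
          simp
  rw [sum_congr rfl fun w _ => h1 w, sum_add_distrib, sum_add_distrib, ← sum_mul, ← Nat.cast_sum, h.sum_nn h0]
  congr 1
  congr 1
  · by_cases hd : d x y + 1 < m + 1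
    · rw [sum_eq_single (⟨d x y + 1, hd⟩ : Fin (m + 1))]
      · rw [if_pos rfl]
      · intro w _ hw
        rw [if_neg (fun e => hw (Fin.ext e))]
      · intro hh; exact absurd (mem_univ _) hh
    · have e : d x y = m := by have := h.le x y; omega
      rw [e, h.up_top hup]
      simp
  · by_cases hd : d x y = 0
    · rw [hd, h.dn_zero]
      simp
    · have hlt : d x y - 1 < m + 1 := by have := h.le x y; omega
      rw [sum_eq_single (⟨d x y - 1, hlt⟩ : Fin (m + 1))]
      · rw [if_pos (by show d x y - 1 + 1 = d x y; omega)]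
      · intro w _ hw
        rw [if_neg]
        intro e
        apply hw
        apply Fin.ext
        show (w : ℕ) = d x y - 1
        omega
      · intro hh; exact absurd (mem_univ _) hh

/-- The valencies. -/
theorem kk_rec [Nonempty X] (hup : ∀ i < m, 0 < up i) (h : DR G X d m up dn) (x₁ : X) {i : ℕ} (hi : i + 1 ≤ m) :
    dn (i + 1) * (Col.kk h.col x₁ ⟨i + 1, Nat.lt_succ_of_le hi⟩) = up i * (Col.kk h.col x₁ ⟨i, by omega⟩) := by
  obtain ⟨x₀, z₀, h0⟩ := h.exists_one hup (by omega)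
  obtain ⟨x, hx⟩ := h.exists_dist hup x₀ i (by omega)
  obtain ⟨x', hx'⟩ := h.exists_dist hup x₀ (i + 1) hi
  have e1 := h.toCol.nn_mul (x₀ := x₀) (z₀ := z₀) x x₀ ⟨i + 1, Nat.lt_succ_of_le hi⟩
  have e2 := h.toCol.nn_mul (x₀ := x₀) (z₀ := z₀) x' x₀ ⟨i, by omega⟩
  rw [h.nn_up h0 x x₀ _ (by show i + 1 = d x x₀ + 1; rw [hx])] at e1
  rw [h.nn_down h0 x' x₀ _ (by show i + 1 = d x' x₀; rw [hx'])] at e2
  have c1 : h.col x x₀ = ⟨i, by omega⟩ := Fin.ext hx
  have c2 : h.col x' x₀ = ⟨i + 1, Nat.lt_succ_of_le hi⟩ := Fin.ext hx'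
  rw [c1, hx] at e1
  rw [c2, hx'] at e2
  rw [h.toCol.kk_eq x₁ x₀, h.toCol.kk_eq x₁ x₀, e1, e2, h.tt_symm]

/-- The valencies from a solution of the recursion. -/
theorem kk_eq [Nonempty X] (hup : ∀ i < m, 0 < up i) (hdn : ∀ i, 1 ≤ i → i ≤ m → 0 < dn i) (h : DR G X d m up dn)
    {k : ℕ → ℚ} (hk0 : k 0 = 1) (hk : ∀ i < m, (dn (i + 1) : ℚ) * k (i + 1) = up i * k i) (x₁ : X) :
    ∀ u : Fin (m + 1), (Col.kk h.col x₁ u : ℚ) = k u := by
  have key : ∀ i (hi : i ≤ m), (Col.kk h.col x₁ ⟨i, Nat.lt_succ_of_le hi⟩ : ℚ) = k i := by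
    intro i
    induction i with
    | zero =>
      intro hi
      rw [hk0]
      have : Unique {y // h.col x₁ y = ⟨0, Nat.lt_succ_of_le hi⟩} :=
        ⟨⟨⟨x₁, (h.toCol.diag x₁ x₁).2 rfl⟩⟩, fun y => Subtype.ext ((h.toCol.diag x₁ y.1).1 y.2).symm⟩
      unfold Col.kk
      rw [Nat.card_unique]
      norm_num
    | succ i ih =>
      intro hi
      have h1 := h.kk_rec hup x₁ hi
      have h2 := ih (by omega)
      have h3 := hk i (by omega)
      have h4 : (dn (i + 1) : ℚ) ≠ 0 := by exact_mod_cast (hdn (i + 1) (by omega) hi).ne'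
      have h6 : ((dn (i + 1) * (Col.kk h.col x₁ ⟨i + 1, Nat.lt_succ_of_le hi⟩) : ℕ) : ℚ) =
          ((up i * (Col.kk h.col x₁ ⟨i, by omega⟩) : ℕ) : ℚ) := by rw [h1]
      push_cast at h6
      rw [h2, ← h3] at h6
      exact mul_left_cancel₀ h4 h6
  intro u
  exact key u (Nat.le_of_lt_succ u.2)

/-- The number of points. -/
theorem card_eq [Nonempty X] (hup : ∀ i < m, 0 < up i) (hdn : ∀ i, 1 ≤ i → i ≤ m → 0 < dn i) (h : DR G X d m up dn)
    {k : ℕ → ℚ} (hk0 : k 0 = 1) (hk : ∀ i < m, (dn (i + 1) : ℚ) * k (i + 1) = up i * k i) :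
    (Nat.card X : ℚ) = ∑ i ∈ range (m + 1), k i := by
  obtain ⟨x₁⟩ : Nonempty X := inferInstance
  have e : X ≃ Σ w : Fin (m + 1), {y // h.col x₁ y = w} :=
    ⟨fun y => ⟨h.col x₁ y, y, rfl⟩, fun y => y.2.1, fun _ => rfl, fun y => by
      obtain ⟨w, y, rfl⟩ := y
      rfl⟩
  rw [← Fin.sum_univ_eq_sum_range, Nat.card_congr e, Nat.card_sigma, Nat.cast_sum]
  exact sum_congr rfl fun u _ => h.kk_eq hup hdn hk0 hk x₁ u

/-- The recursion satisfied by the spherical functions. -/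
def Rec {K : Type*} [Field K] (m : ℕ) (up dn : ℕ → ℕ) (θ : K) (Φ : ℕ → K) : Prop :=
  ∀ i ≤ m, (up i : K) * (Φ (i + 1) - Φ i) + (dn i : K) * (Φ (i - 1) - Φ i) + (up 0 : K) * Φ i = θ * Φ i

/-- The eigenvalue equation in terms of the recursion. -/
theorem eig_iff [Nonempty X] (hup : ∀ i < m, 0 < up i) (h : DR G X d m up dn) {x₀ z₀ : X} (h0 : d x₀ z₀ = 1)
    (θ : ℂ) (φ : Fin (m + 1) → ℂ) :
    (∀ u, ∑ w, ((∑ w', Col.tt h.col x₀ z₀ (h.col x₀ z₀) w' : ℕ) : ℂ) * (Col.tt h.col x₀ z₀ u w : ℂ) * φ w =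
      θ * ((∑ w, Col.tt h.col x₀ z₀ u w : ℕ) : ℂ) * φ u) ↔ Rec m up dn θ (ext φ) := by
  have hk : ∀ u, ∑ w, Col.tt h.col x₀ z₀ u w = Col.kk h.col x₀ u := fun u => (Col.kk_eq_sum x₀ z₀ u).symm
  simp only [hk]
  have key : ∀ x : X, ∑ w, ((Col.kk h.col x₀ (h.col x₀ z₀) : ℕ) : ℂ) * (Col.tt h.col x₀ z₀ (h.col x x₀) w : ℂ) * φ w =
      (Col.kk h.col x₀ (h.col x x₀) : ℂ) *
      (((up (d x x₀) : ℕ) : ℂ) * (ext φ (d x x₀ + 1) - ext φ (d x x₀)) +
      ((dn (d x x₀) : ℕ) : ℂ) * (ext φ (d x x₀ - 1) - ext φ (d x x₀)) + ((up 0 : ℕ) : ℂ) * ext φ (d x x₀)) := by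
    intro x
    rw [← h.sum_nn_mul hup h0 x x₀ φ, mul_sum]
    refine sum_congr rfl fun w _ => ?_
    have e1 := h.toCol.nn_mul (x₀ := x₀) (z₀ := z₀) x x₀ w
    have e2 : ((Col.nn h.col (h.col x₀ z₀) x x₀ w * Col.kk h.col x₀ (h.col x x₀) : ℕ) : ℂ) =
      ((Col.kk h.col x₀ (h.col x₀ z₀) * Col.tt h.col x₀ z₀ (h.col x x₀) w : ℕ) : ℂ) := by rw [e1]
    push_cast at e2
    rw [← e2]
    ring
  constructor
  · intro hh i hi
    obtain ⟨x, hx⟩ := h.exists_dist hup x₀ i hi
    have h1 := hh (h.col x x₀)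
    rw [key x] at h1
    have h2 : (Col.kk h.col x₀ (h.col x x₀) : ℂ) ≠ 0 := by
      exact_mod_cast (h.toCol.kk_pos x₀ x x₀).ne'
    have h3 : φ (h.col x x₀) = ext φ (d x x₀) := (ext_val φ (h.col x x₀)).symm
    rw [h3, hx] at h1
    apply mul_left_cancel₀ h2
    rw [h1]
    ring
  · intro hR u
    obtain ⟨x, hx⟩ := h.exists_dist hup x₀ u (Nat.le_of_lt_succ u.2)
    have hu : h.col x x₀ = u := Fin.ext hx
    have h1 := key x
    rw [hu] at h1
    rw [h1, hx, hR u (Nat.le_of_lt_succ u.2), ext_val]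
    ring

/-- The recursion determines the function. -/
theorem Rec.uniq (hup : ∀ i < m, 0 < up i) {θ : ℂ} {Φ Ψ : ℕ → ℂ} (h1 : Rec m up dn θ Φ) (h2 : Rec m up dn θ Ψ)
    (h3 : Ψ 0 = 1) : ∀ i ≤ m, Φ i = Φ 0 * Ψ i := by
  intro i
  induction i using Nat.strong_induction_on with
  | _ i ih =>
    intro hi
    rcases Nat.eq_zero_or_pos i with rfl | hi0
    · rw [h3, mul_one]
    · obtain ⟨k, rfl⟩ : ∃ k, i = k + 1 := ⟨i - 1, by omega⟩
      have e1 := h1 k (by omega)
      have e2 := h2 k (by omega)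
      have e3 := ih k (by omega) (by omega)
      have e4 := ih (k - 1) (by omega) (by omega)
      have e5 : ((up k : ℕ) : ℂ) ≠ 0 := by exact_mod_cast (hup k (by omega)).ne'
      apply mul_left_cancel₀ e5
      rw [e3, e4] at e1
      linear_combination e1 - (Φ 0) * e2

/-- **The character of a spherical function** of a distance transitive action. -/
theorem exists_char [Finite G] [Fintype X] [Nonempty X] (hm : 1 ≤ m) (hup : ∀ i < m, 0 < up i)
    (hdn : ∀ i, 1 ≤ i → i ≤ m → 0 < dn i) (h : DR G X d m up dn)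
    {k : ℕ → ℚ} (hk0 : k 0 = 1) (hk : ∀ i < m, (dn (i + 1) : ℚ) * k (i + 1) = up i * k i)
    {θ : ℚ} {ω : ℕ → ℚ} (hω0 : ω 0 = 1) (hω : Rec m up dn θ ω)
    {f : ℚ} (hf : f * ∑ i ∈ range (m + 1), k i * ω i ^ 2 = ∑ i ∈ range (m + 1), k i) :
    ∃ χ : G → ℂ, IsIrrCharacter G χ ∧ χ 1 = (f : ℂ) ∧
      ∀ g : G, χ g = (f : ℂ) / (Nat.card X : ℂ) * ∑ x, ((ω (d x (g • x)) : ℚ) : ℂ) := by
  classical
  obtain ⟨x₀, z₀, h0⟩ := h.exists_one hup hm
  set ω' : Fin (m + 1) → ℂ := fun u => ((ω u : ℚ) : ℂ) with hω'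
  have hext : ∀ i ≤ m, ext ω' i = ((ω i : ℚ) : ℂ) := fun i hi => by
    unfold ext
    rw [dif_pos (Nat.lt_succ_of_le hi)]
  have hR : Rec m up dn (θ : ℂ) (ext ω') := by
    intro i hi
    have h1 := hω i hi
    have h2 := congrArg (fun r : ℚ => (r : ℂ)) h1
    rw [hext i hi, hext (i - 1) (by omega)]
    rcases Nat.lt_or_ge i m with him | him
    · rw [hext (i + 1) him]
      push_cast at h2
      exact h2
    · have : i = m := by omega
      subst this
      rw [h.up_top hup] at h2 ⊢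
      push_cast at h2 ⊢
      rw [zero_mul] at h2 ⊢
      exact h2
  have hE : Col.Eig (h.col x₀ z₀) 0 (Col.tt h.col x₀ z₀) (θ : ℂ) ω' := by
    refine ⟨?_, (h.eig_iff hup h0 _ _).2 hR, fun φ hφ u => ?_⟩
    · show ((ω ((0 : Fin (m + 1)) : ℕ) : ℚ) : ℂ) = 1
      rw [Fin.val_zero, hω0, Rat.cast_one]
    · have h1 := (h.eig_iff hup h0 _ _).1 hφ
      have h2 := Rec.uniq hup h1 hR (by rw [hext 0 (Nat.zero_le m), hω0, Rat.cast_one]) u (Nat.le_of_lt_succ u.2)
      rw [ext_val, ext_val] at h2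
      rw [h2]
      congr 1
  have hcard := h.card_eq hup hdn hk0 hk
  have hN : ((f : ℚ) : ℂ) * ∑ u, ((∑ w, Col.tt h.col x₀ z₀ u w : ℕ) : ℂ) * ω' u ^ 2 = (Nat.card X : ℂ) := by
    have h2 : ∀ u : Fin (m + 1), ((∑ w, Col.tt h.col x₀ z₀ u w : ℕ) : ℂ) * ω' u ^ 2 =
        ((k u * ω u ^ 2 : ℚ) : ℂ) := by
      intro u
      rw [← Col.kk_eq_sum x₀ z₀ u]
      have e1 := h.kk_eq hup hdn hk0 hk x₀ u
      rw [← Rat.cast_natCast, e1, hω']
      push_cast
      rfl
    rw [sum_congr rfl fun u _ => h2 u, ← Rat.cast_sum, ← Rat.cast_mul,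
      Fin.sum_univ_eq_sum_range (fun i => k i * ω i ^ 2) (m + 1), hf, ← hcard, Rat.cast_natCast]
  have hX : (Nat.card X : ℂ) ≠ 0 := by exact_mod_cast (Nat.card_pos (α := X)).ne'
  have hS : Col.SS (Col.tt h.col x₀ z₀) ω' ≠ 0 := by
    intro h1
    unfold Col.SS at h1
    rw [h1, mul_zero] at hN
    exact hX hN.symm
  have h1 := h.toCol.finrank_mul (fun _ _ => rfl) hE hS
  rw [← Nat.card_eq_fintype_card] at h1
  have hff : ((Module.finrank ℂ (Col.WW h.col ω') : ℕ) : ℂ) = (f : ℂ) :=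
    mul_right_cancel₀ hS (h1.trans hN.symm)
  obtain ⟨χ, k1, k2, k3⟩ := H693.Sch.exists_values (G := G) h.toCol (fun _ _ => rfl) hE h1
  refine ⟨χ, k1, by rw [k2, hff], fun g => ?_⟩
  rw [k3, hff]
  rfl

end fin

end DR

end Cfsg.Agent.H722.DPol

namespace Cfsg.Agent.H722.DPol

open Cfsg Cfsg.Agent.Characters.Core Cfsg.Agent.H816.IMEig Finset
open scoped BigOperators

universe u v

/-- The number `[n] = 1 + Q + ... + Q^(n-1)`. -/
def br (Q n : ℕ) : ℕ := ∑ i ∈ range n, Q ^ i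

theorem br_mul {K : Type*} [CommRing K] (Q n : ℕ) : ((Q : K) - 1) * (br Q n : K) = (Q : K) ^ n - 1 := by
  unfold br
  push_cast
  rw [mul_comm]
  exact geom_sum_mul _ _

theorem br_pos (Q : ℕ) {n : ℕ} (hn : 0 < n) : 0 < br Q n := by
  unfold br
  exact lt_of_lt_of_le (by norm_num) (single_le_sum (f := fun i => Q ^ i) (fun _ _ => Nat.zero_le _) (mem_range.2 hn))

/-- A distance transitive action with the parameters of a dual polar space of rank `m`. -/
abbrev DP (G : Type u) [Group G] (X : Type v) [MulAction G X] (d : X → X → ℕ) (m Q s : ℕ) : Prop :=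
  DR G X d m (fun i => s * Q ^ i * br Q (m - i)) (fun i => br Q i)

/-- The spherical function. -/
noncomputable def om (m Q s j : ℕ) (i : ℕ) : ℚ := PP (Q : ℚ) (s : ℚ) m j i / PP (Q : ℚ) (s : ℚ) m 0 i

theorem om_zero (m Q s j : ℕ) : om m Q s j 0 = 1 := by
  unfold om
  rw [PP_zero, PP_zero, div_one]

/-- The eigenvalue of the distance one relation. -/
noncomputable def theta (m Q s j : ℕ) : ℚ := (s : ℚ) * br Q (m - j) - br Q j

theorem rec_om {m Q s : ℕ} (hQ : 2 ≤ Q) (hs : 1 ≤ s) {j : ℕ} (hj : j ≤ m) :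
    DR.Rec m (fun i => s * Q ^ i * br Q (m - i)) (fun i => br Q i) (theta m Q s j) (om m Q s j) := by
  intro i hi
  have hQ' : (1 : ℚ) < Q := by exact_mod_cast hQ
  have hs' : (0 : ℚ) < s := by exact_mod_cast hs
  have hQ1 : (0 : ℚ) < (Q : ℚ) - 1 := by linarith only [hQ']
  have hk := (val_pos hQ' hs' hi).ne'
  apply mul_left_cancel₀ hQ1.ne'
  apply mul_left_cancel₀ hk
  have b1 := br_mul (K := ℚ) Q i
  have b2 := br_mul (K := ℚ) Q m
  have b3 := br_mul (K := ℚ) Q (m - i)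
  have b4 := br_mul (K := ℚ) Q (m - j)
  have b5 := br_mul (K := ℚ) Q j
  have q1 : (Q : ℚ) ^ m = (Q : ℚ) ^ i * (Q : ℚ) ^ (m - i) := by rw [← pow_add]; congr 1; omega
  push_cast
  rw [pow_zero, mul_one, Nat.sub_zero]
  have u1 : ((Q : ℚ) - 1) * (s * (Q : ℚ) ^ i * br Q (m - i)) = s * ((Q : ℚ) ^ m - (Q : ℚ) ^ i) := by
    rw [q1]
    linear_combination (s * (Q : ℚ) ^ i) * b3
  have u2 : ((Q : ℚ) - 1) * (s * br Q m) = s * ((Q : ℚ) ^ m - 1) := by
    linear_combination (s : ℚ) * b2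
  have u3 : ((Q : ℚ) - 1) * theta m Q s j = s * ((Q : ℚ) ^ (m - j) - 1) - ((Q : ℚ) ^ j - 1) := by
    unfold theta
    linear_combination (s : ℚ) * b4 - b5
  -- the values
  have v1 : PP (Q : ℚ) (s : ℚ) m 0 i * om m Q s j i = PP (Q : ℚ) (s : ℚ) m j i := by
    unfold om; field_simp
  have v2 : PP (Q : ℚ) (s : ℚ) m 0 i * (s * ((Q : ℚ) ^ m - (Q : ℚ) ^ i) * om m Q s j (i + 1)) =
      ((Q : ℚ) ^ (i + 1) - 1) * PP (Q : ℚ) (s : ℚ) m j (i + 1) := by
    rcases Nat.lt_or_ge i m with him | him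
    · have hk' := (val_pos hQ' hs' (show i + 1 ≤ m by omega)).ne'
      have e := PP_val (Q : ℚ) (s : ℚ) m i
      unfold om
      rw [mul_div_assoc', mul_div_assoc', div_eq_iff hk']
      linear_combination (-PP (Q : ℚ) (s : ℚ) m j (i + 1)) * e
    · have : i = m := by omega
      subst this
      rw [PP_of_lt _ _ hj (Nat.lt_succ_self _)]
      ring
  rcases Nat.eq_zero_or_pos i with rfl | hi0
  · have r := PP_rec_zero (Q : ℚ) (s : ℚ) hj
    have b0 : ((br Q 0 : ℕ) : ℚ) = 0 := by simp [br]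
    rw [b0, zero_mul, add_zero]
    simp only [zero_add, pow_zero, pow_one, Nat.sub_zero, mul_one] at u1 v1 v2 r ⊢
    linear_combination (PP (Q : ℚ) (s : ℚ) m 0 0 * (om m Q s j 1 - om m Q s j 0)) * u1 + v2 +
      (PP (Q : ℚ) (s : ℚ) m 0 0 * om m Q s j 0) * u2 - (PP (Q : ℚ) (s : ℚ) m 0 0 * om m Q s j 0) * u3 +
      ((s : ℚ) - 1 - (s * (Q : ℚ) ^ (m - j) - (Q : ℚ) ^ j)) * v1 + r
  · obtain ⟨k, rfl⟩ : ∃ k, i = k + 1 := ⟨i - 1, by omega⟩
    have r := PP_rec (Q : ℚ) (s : ℚ) hj k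
    rw [Nat.add_sub_cancel]
    have v3 : PP (Q : ℚ) (s : ℚ) m 0 (k + 1) * (((Q : ℚ) ^ (k + 1) - 1) * om m Q s j k) =
        s * ((Q : ℚ) ^ m - (Q : ℚ) ^ k) * PP (Q : ℚ) (s : ℚ) m j k := by
      have hk' := (val_pos hQ' hs' (show k ≤ m by omega)).ne'
      have e := PP_val (Q : ℚ) (s : ℚ) m k
      unfold om
      rw [mul_div_assoc', mul_div_assoc', div_eq_iff hk']
      linear_combination (PP (Q : ℚ) (s : ℚ) m j k) * e
    linear_combination (PP (Q : ℚ) (s : ℚ) m 0 (k + 1) * (om m Q s j (k + 1 + 1) - om m Q s j (k + 1))) * u1 + v2 +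
      (PP (Q : ℚ) (s : ℚ) m 0 (k + 1) * (om m Q s j k - om m Q s j (k + 1))) * b1 + v3 +
      (PP (Q : ℚ) (s : ℚ) m 0 (k + 1) * om m Q s j (k + 1)) * u2 -
      (PP (Q : ℚ) (s : ℚ) m 0 (k + 1) * om m Q s j (k + 1)) * u3 +
      (((s : ℚ) - 1) * (Q : ℚ) ^ (k + 1) - (s * (Q : ℚ) ^ (m - j) - (Q : ℚ) ^ j)) * v1 + r

/-- The valency recursion. -/
theorem val_rec {m Q s : ℕ} (hQ : 2 ≤ Q) {i : ℕ} (hi : i < m) :
    ((br Q (i + 1) : ℕ) : ℚ) * PP (Q : ℚ) (s : ℚ) m 0 (i + 1) =
      ((s * Q ^ i * br Q (m - i) : ℕ) : ℚ) * PP (Q : ℚ) (s : ℚ) m 0 i := by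
  have hQ1 : (0 : ℚ) < (Q : ℚ) - 1 := by
    have : (1 : ℚ) < Q := by exact_mod_cast hQ
    linarith
  apply mul_left_cancel₀ hQ1.ne'
  have e := PP_val (Q : ℚ) (s : ℚ) m i
  have b1 := br_mul (K := ℚ) Q (i + 1)
  have b3 := br_mul (K := ℚ) Q (m - i)
  have q1 : (Q : ℚ) ^ m = (Q : ℚ) ^ i * (Q : ℚ) ^ (m - i) := by rw [← pow_add]; congr 1; omega
  rw [q1] at e
  push_cast
  linear_combination PP (Q : ℚ) (s : ℚ) m 0 (i + 1) * b1 + e -
    (s * (Q : ℚ) ^ i * PP (Q : ℚ) (s : ℚ) m 0 i) * b3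

namespace DP

variable {G : Type u} [Group G] {X : Type v} [MulAction G X] {d : X → X → ℕ} {m Q s : ℕ}

theorem up_pos (hQ : 2 ≤ Q) (hs : 1 ≤ s) : ∀ i < m, 0 < s * Q ^ i * br Q (m - i) := by
  intro i hi
  have := br_pos Q (show 0 < m - i by omega)
  positivity

/-- The number of points. -/
theorem card_eq [Finite X] [Nonempty X] (hQ : 2 ≤ Q) (hs : 1 ≤ s) (h : DP G X d m Q s) :
    Nat.card X = ∏ l ∈ range m, (1 + s * Q ^ l) := by
  have h1 := DR.card_eq (up_pos hQ hs) (fun i hi _ => br_pos Q hi) h (k := fun i => PP (Q : ℚ) (s : ℚ) m 0 i)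
    (PP_zero _ _ _ _) (fun i hi => val_rec hQ hi)
  rw [sum_val] at h1
  exact_mod_cast h1

/-- The valencies. -/
theorem kk_eq [Finite X] [Nonempty X] (hQ : 2 ≤ Q) (hs : 1 ≤ s) (h : DP G X d m Q s) (x₁ : X) (u : Fin (m + 1)) :
    (Col.kk h.col x₁ u : ℚ) = PP (Q : ℚ) (s : ℚ) m 0 u :=
  DR.kk_eq (up_pos hQ hs) (fun i hi _ => br_pos Q hi) h (k := fun i => PP (Q : ℚ) (s : ℚ) m 0 i)
    (PP_zero _ _ _ _) (fun i hi => val_rec hQ hi) x₁ u

/-- **The characters of a dual polar scheme.** -/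
theorem exists_char [Finite G] [Fintype X] [Nonempty X] (hQ : 2 ≤ Q) (hs : 1 ≤ s) (hm : 1 ≤ m)
    (h : DP G X d m Q s) {j : ℕ} (hj : j ≤ m) :
    ∃ χ : G → ℂ, IsIrrCharacter G χ ∧ χ 1 = ((ff (Q : ℚ) (s : ℚ) m j : ℚ) : ℂ) ∧
      ∀ g : G, χ g = ((ff (Q : ℚ) (s : ℚ) m j : ℚ) : ℂ) / (Nat.card X : ℂ) *
        ∑ x, ((om m Q s j (d x (g • x)) : ℚ) : ℂ) := by
  have hQ' : (1 : ℚ) < Q := by exact_mod_cast hQ
  have hs' : (0 : ℚ) < s := by exact_mod_cast hs
  refine DR.exists_char hm (up_pos hQ hs) (fun i hi _ => br_pos Q hi) h (k := fun i => PP (Q : ℚ) (s : ℚ) m 0 i)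
    (PP_zero _ _ _ _) (fun i hi => val_rec hQ hi) (om_zero m Q s j) (rec_om hQ hs hj) ?_
  rw [sum_val, ← norm_eq hQ' hs' hj]
  congr 1
  refine sum_congr rfl fun i hi => ?_
  have e2 := (val_pos hQ' hs' (show i ≤ m from Nat.le_of_lt_succ (mem_range.1 hi))).ne'
  unfold om
  field_simp

end DP

end Cfsg.Agent.H722.DPol

private theorem dce_bdaaa50c48d5 : _root_.True := by
  try have : _root_.True := by simp only [_root_.Cfsg.Agent.H722.DPol.PP.eq_1]
  try have : _root_.True := by simp only [_root_.Cfsg.Agent.H722.DPol.br.eq_1]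
  try have : _root_.True := by simp only [_root_.Cfsg.Agent.H722.DPol.DR.col.congr_simp]
  try have : _root_.True := by simp only [_root_.Cfsg.Agent.H722.DPol.DR.col.eq_1]
  exact _root_.True.intro
end

-- part: H35/HT/Val
section
prune_inst 0x2f570474177e202080004a096d32042b5750005b0002004003ca60d4a030f9322c9e2e1404f803c254a08a20118050428131000f0424000000e2404000006010000a8160471910299c8009f00028c000000008000300000000000000000041004004010000
set_option linter.all false
open scoped Cfsg.Agent.FastGrp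

/-!
# The `p`-parts of the degrees of the dual polar schemes, unitary primes (helper35)

`p` odd, `2 d` the order of `Q` modulo `p`.  The valuation of `ff Q (Q ^ t) m j` for `2 d ∣ j`,
`t = 1, 0, 2` (symplectic and odd orthogonal, plus, minus type), and the choice of `j` with
valuation one for all weights `p ≤ w ≤ 2 p - 2`.
-/

set_option autoImplicit false
set_option linter.unusedSectionVars false
set_option linter.unusedVariables false

namespace Cfsg.Agent.H35.HT.Val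

open Finset Cfsg.Agent.H722.DPol

variable {p : ℕ} [hp : Fact p.Prime] {Q d : ℕ}

section basic

theorem odd_of (hd : orderOf (Q : ZMod p) = 2 * d) (hd0 : 0 < d) : Odd p := by
  rcases hp.out.eq_two_or_odd' with h | h
  · exfalso
    subst h
    have h1 : ∀ x : ZMod 2, orderOf x ≤ 1 := by
      intro x
      fin_cases x
      · show orderOf (0 : ZMod 2) ≤ 1
        rw [orderOf_zero]; exact Nat.zero_le _
      · show orderOf (1 : ZMod 2) ≤ 1
        rw [orderOf_one]
    have h2 := h1 (Q : ZMod 2)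
    omega
  · exact h

theorem not_dvd (hd : orderOf (Q : ZMod p) = 2 * d) (hd0 : 0 < d) : ¬ p ∣ Q := by
  intro h
  have h1 : (Q : ZMod p) = 0 := (ZMod.natCast_eq_zero_iff _ _).2 h
  rw [h1, orderOf_zero] at hd
  omega

theorem sq_one {x : ZMod p} (h : x ^ 2 = 1) : x = 1 ∨ x = -1 := by
  have : (x - 1) * (x + 1) = 0 := by linear_combination h
  rcases mul_eq_zero.1 this with h | h
  · left; exact sub_eq_zero.1 h
  · right; exact eq_neg_of_add_eq_zero_left h

theorem pow_d (hd : orderOf (Q : ZMod p) = 2 * d) (hd0 : 0 < d) : (Q : ZMod p) ^ d = -1 := by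
  have h1 : ((Q : ZMod p) ^ d) ^ 2 = 1 := by
    rw [← pow_mul, mul_comm, ← hd, pow_orderOf_eq_one]
  rcases sq_one h1 with h | h
  · exfalso
    have h2 := orderOf_dvd_of_pow_eq_one h
    rw [hd] at h2
    have := Nat.le_of_dvd hd0 h2
    omega
  · exact h

theorem one_ne_neg (hp1 : Odd p) : (1 : ZMod p) ≠ -1 := by
  intro h
  have h2 : ((2 : ℕ) : ZMod p) = 0 := by push_cast; linear_combination h
  rw [ZMod.natCast_eq_zero_iff] at h2
  have h3 := (Nat.prime_dvd_prime_iff_eq hp.out Nat.prime_two).1 h2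
  rw [h3] at hp1
  exact absurd hp1 (by decide)

/-- The valuation of `Q ^ k - 1`. -/
noncomputable def A (p Q k : ℕ) : ℤ := padicValRat p ((Q : ℚ) ^ k - 1)

/-- The valuation of `Q ^ k + 1`. -/
noncomputable def B (p Q k : ℕ) : ℤ := padicValRat p ((Q : ℚ) ^ k + 1)

theorem A_nat (hQ : 2 ≤ Q) (k : ℕ) : A p Q k = (padicValNat p (Q ^ k - 1) : ℤ) := by
  unfold A
  rw [← padicValRat.of_nat, Nat.cast_sub (Nat.one_le_pow _ _ (by omega))]
  push_cast
  rfl

theorem B_nat (k : ℕ) : B p Q k = (padicValNat p (Q ^ k + 1) : ℤ) := by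
  unfold B
  rw [← padicValRat.of_nat]
  push_cast
  rfl

theorem v_lt {u : ℕ} (h0 : 0 < u) (h : u < p) : padicValNat p u = 0 :=
  padicValNat.eq_zero_of_not_dvd fun hd => absurd (Nat.le_of_dvd h0 hd) (by omega)

/-- `B` at the multiples of `d`. -/
theorem B_mul (hd : orderOf (Q : ZMod p) = 2 * d) (hd0 : 0 < d) (u : ℕ) :
    B p Q (d * u) = if Odd u then B p Q d + (padicValNat p u : ℤ) else 0 := by
  have hp1 := odd_of hd hd0
  have hq := not_dvd hd hd0
  have h1 := pow_d hd hd0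
  split_ifs with hu
  · rw [B_nat, B_nat, pow_mul]
    have h2 : p ∣ Q ^ d + 1 := by
      rw [← ZMod.natCast_eq_zero_iff]
      push_cast
      rw [h1]; ring
    have h3 := padicValNat.pow_add_pow hp1 h2 (fun h => hq (hp.out.dvd_of_dvd_pow h)) hu
    rw [one_pow] at h3
    rw [h3]
    push_cast
    rfl
  · rw [B_nat, padicValNat.eq_zero_of_not_dvd]
    · rfl
    · intro h
      rw [← ZMod.natCast_eq_zero_iff] at h
      push_cast at h
      rw [pow_mul, h1, (Nat.not_odd_iff_even.1 hu).neg_one_pow] at h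
      exact one_ne_neg hp1 (eq_neg_of_add_eq_zero_left h)

/-- `B` off the multiples of `d`. -/
theorem B_not (hd : orderOf (Q : ZMod p) = 2 * d) (hd0 : 0 < d) {k : ℕ} (hk : ¬ d ∣ k) :
    B p Q k = 0 := by
  rw [B_nat, padicValNat.eq_zero_of_not_dvd]
  · rfl
  · intro h
    rw [← ZMod.natCast_eq_zero_iff] at h
    push_cast at h
    have h2 : (Q : ZMod p) ^ (2 * k) = 1 := by
      rw [mul_comm, pow_mul, eq_neg_of_add_eq_zero_left h]; ring
    have h3 := orderOf_dvd_of_pow_eq_one h2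
    rw [hd] at h3
    exact hk ((Nat.mul_dvd_mul_iff_left (by norm_num)).1 h3)

/-- `A` at the multiples of `d`. -/
theorem A_mul (hQ : 2 ≤ Q) (hd : orderOf (Q : ZMod p) = 2 * d) (hd0 : 0 < d) {u : ℕ} (hu0 : 0 < u) :
    A p Q (d * u) = if Even u then B p Q d + (padicValNat p u : ℤ) else 0 := by
  have hp1 := odd_of hd hd0
  have hq := not_dvd hd hd0
  have h1 := pow_d hd hd0
  split_ifs with hu
  · obtain ⟨t, rfl⟩ := hu
    have ht : t ≠ 0 := by omega
    have h2 : p ∣ Q ^ d + 1 := by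
      rw [← ZMod.natCast_eq_zero_iff]
      push_cast
      rw [h1]; ring
    have e1 : d * (t + t) = (2 * d) * t := by ring
    have e2 : Q ^ (2 * d) - 1 = (Q ^ d + 1) * (Q ^ d - 1) := by
      rw [mul_comm 2 d, pow_mul]
      have := Nat.sq_sub_sq (Q ^ d) 1
      rwa [one_pow] at this
    have h4 : 1 < Q ^ d := Nat.one_lt_pow (by omega) (by omega)
    have h5 : ¬ p ∣ Q ^ d - 1 := by
      intro h
      rw [← ZMod.natCast_eq_zero_iff, Nat.cast_sub h4.le] at h
      push_cast at h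
      rw [h1] at h
      apply one_ne_neg hp1
      linear_combination -h
    have h6 : 1 < Q ^ (2 * d) := Nat.one_lt_pow (by omega) (by omega)
    have h3 := padicValNat.pow_sub_pow hp1 h6 (by rw [e2]; exact Dvd.dvd.mul_right h2 _)
      (fun h => hq (hp.out.dvd_of_dvd_pow h)) ht
    rw [one_pow, ← pow_mul, e2, padicValNat.mul (by omega) (by omega),
      padicValNat.eq_zero_of_not_dvd h5, add_zero] at h3
    rw [A_nat hQ, B_nat, e1, h3]
    have h7 : padicValNat p (t + t) = padicValNat p t := by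
      rw [← two_mul, padicValNat.mul (by norm_num) ht, padicValNat.eq_zero_of_not_dvd, zero_add]
      intro h
      have h3 := (Nat.prime_dvd_prime_iff_eq hp.out Nat.prime_two).1 h
      rw [h3] at hp1
      exact absurd hp1 (by decide)
    rw [h7]
    push_cast
    rfl
  · rw [A_nat hQ, padicValNat.eq_zero_of_not_dvd]
    · rfl
    · intro h
      rw [← ZMod.natCast_eq_zero_iff, Nat.cast_sub (Nat.one_le_pow _ _ (by omega))] at h
      push_cast at h
      rw [pow_mul, h1, (Nat.not_even_iff_odd.1 hu).neg_one_pow] at h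
      apply one_ne_neg hp1
      linear_combination -h

/-- `A` off the multiples of `d`. -/
theorem A_not (hQ : 2 ≤ Q) (hd : orderOf (Q : ZMod p) = 2 * d) {k : ℕ} (hk : ¬ d ∣ k) :
    A p Q k = 0 := by
  rw [A_nat hQ, padicValNat.eq_zero_of_not_dvd]
  · rfl
  · intro h
    rw [← ZMod.natCast_eq_zero_iff, Nat.cast_sub (Nat.one_le_pow _ _ (by omega))] at h
    push_cast at h
    have h2 : (Q : ZMod p) ^ k = 1 := sub_eq_zero.1 h
    have h3 := orderOf_dvd_of_pow_eq_one h2
    rw [hd] at h3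
    exact hk (dvd_trans (Dvd.intro_left 2 rfl) h3)

theorem B_zero (hp1 : Odd p) : B p Q 0 = 0 := by
  rw [B_nat, pow_zero, padicValNat.eq_zero_of_not_dvd]
  · rfl
  · intro h
    have h3 := (Nat.prime_dvd_prime_iff_eq hp.out Nat.prime_two).1 h
    rw [h3] at hp1
    exact absurd hp1 (by decide)

/-- The sum of the valuations of `Q ^ (2 x) - 1`. -/
noncomputable def TT (p Q n : ℕ) : ℤ := ∑ x ∈ range n, (A p Q (x + 1) + B p Q (x + 1))

theorem TT_succ (n : ℕ) : TT p Q (n + 1) = TT p Q n + (A p Q (n + 1) + B p Q (n + 1)) :=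
  sum_range_succ _ _

theorem TT_eq (hQ : 2 ≤ Q) (hd : orderOf (Q : ZMod p) = 2 * d) (hd0 : 0 < d) (n : ℕ) :
    TT p Q n = ((n / d : ℕ) : ℤ) * B p Q d + (padicValNat p (n / d).factorial : ℤ) := by
  induction n with
  | zero =>
    unfold TT
    simp
  | succ n ih =>
    rw [TT_succ, ih]
    by_cases h : d ∣ n + 1
    · obtain ⟨u, hu⟩ := h
      have hu0 : 0 < u := by
        rcases Nat.eq_zero_or_pos u with rfl | h
        · omega
        · exact h
      have e1 : (n + 1) / d = u := by rw [hu, Nat.mul_div_cancel_left _ hd0]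
      have e2 : n / d + 1 = u := by
        rw [← e1, Nat.succ_div_of_dvd ⟨u, hu⟩]
      rw [hu, A_mul hQ hd hd0 hu0, B_mul hd hd0, Nat.mul_div_cancel_left _ hd0, ← e2, Nat.factorial_succ,
        padicValNat.mul (by omega) (Nat.factorial_ne_zero _)]
      rcases Nat.even_or_odd (n / d + 1) with he | ho
      · rw [if_pos he, if_neg (Nat.not_odd_iff_even.2 he)]
        push_cast
        ring
      · rw [if_neg (Nat.not_even_iff_odd.2 ho), if_pos ho]
        push_cast
        ring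
    · rw [A_not hQ hd h, B_not hd hd0 h, Nat.succ_div_of_not_dvd h]
      ring

end basic

section gg

/-- The valuation of a sum of two powers. -/
theorem v_add (hq : ¬ p ∣ Q) (hQ : 2 ≤ Q) (x y : ℕ) :
    padicValRat p ((Q : ℚ) ^ x + (Q : ℚ) ^ y) = B p Q ((x - y) + (y - x)) := by
  have hQ0 : (Q : ℚ) ≠ 0 := by positivity
  have hv : padicValRat p (Q : ℚ) = 0 := by
    rw [padicValRat.of_nat, padicValNat.eq_zero_of_not_dvd hq]; rfl
  have key : ∀ a b : ℕ, a ≤ b → padicValRat p ((Q : ℚ) ^ a + (Q : ℚ) ^ b) = B p Q (b - a) := by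
    intro a b hab
    have e : (Q : ℚ) ^ a + (Q : ℚ) ^ b = (Q : ℚ) ^ a * ((Q : ℚ) ^ (b - a) + 1) := by
      rw [mul_add, mul_one, ← pow_add, Nat.add_sub_cancel' hab, add_comm]
    rw [e, padicValRat.mul (pow_ne_zero _ hQ0) (by positivity), padicValRat.pow, hv, mul_zero,
      zero_add]
    rfl
  rcases le_total x y with h | h
  · rw [key x y h, Nat.sub_eq_zero_of_le h, zero_add]
  · rw [add_comm, key y x h, Nat.sub_eq_zero_of_le h, add_zero]

theorem v_gg (hq : ¬ p ∣ Q) (hQ : 2 ≤ Q) (t m : ℕ) {j : ℕ} (hj : j ≤ m) :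
    padicValRat p (gg (Q : ℚ) ((Q : ℚ) ^ t) m j) =
      ∑ i ∈ range j, (A p Q (m - i) + B p Q (t + (m - (i + 1))) - A p Q (i + 1) -
        B p Q ((t - (i + 1)) + ((i + 1) - t))) := by
  have hQ1 : (1 : ℚ) < Q := by exact_mod_cast (by omega : 1 < Q)
  have hQ0 : (0 : ℚ) < Q := by linarith
  have hv : padicValRat p (Q : ℚ) = 0 := by
    rw [padicValRat.of_nat, padicValNat.eq_zero_of_not_dvd hq]; rfl
  induction j with
  | zero =>
    unfold gg
    simp only [_root_.Finset.range_zero, _root_.Finset.prod_div_distrib, _root_.Finset.prod_empty, _root_.ne_eq, _root_.one_ne_zero, _root_.not_false_eq_true, _root_.div_self, _root_.padicValRat.one, _root_.Finset.sum_sub_distrib, _root_.Finset.sum_empty, _root_.sub_self]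
  | succ j ih =>
    have hg := (gg_pos (s := (Q : ℚ) ^ t) hQ1 (pow_pos hQ0 t) (show j ≤ m by omega)).ne'
    obtain ⟨k, hk⟩ : ∃ k, m - j = k + 1 := ⟨m - j - 1, by omega⟩
    have n1 : (Q : ℚ) ^ (m - j) - 1 ≠ 0 := by
      rw [hk]; exact (pow_one_pos hQ1 k).ne'
    have n2 : (Q : ℚ) ^ (j + 1) - 1 ≠ 0 := (pow_one_pos hQ1 j).ne'
    have n3 : (Q : ℚ) ^ t ≠ 0 := by positivity
    have n4 : 1 + (Q : ℚ) ^ t * (Q : ℚ) ^ (m - (j + 1)) ≠ 0 := by positivity
    have n5 : (Q : ℚ) ^ t + (Q : ℚ) ^ (j + 1) ≠ 0 := by positivity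
    have e1 : padicValRat p (1 + (Q : ℚ) ^ t * (Q : ℚ) ^ (m - (j + 1))) =
        B p Q (t + (m - (j + 1))) := by
      rw [← pow_add, add_comm]
      rfl
    rw [gg_succ, sum_range_succ, ← ih (by omega),
      padicValRat.mul hg (div_ne_zero (mul_ne_zero (mul_ne_zero n3 n1) n4) (mul_ne_zero n2 n5)),
      padicValRat.div (mul_ne_zero (mul_ne_zero n3 n1) n4) (mul_ne_zero n2 n5),
      padicValRat.mul (mul_ne_zero n3 n1) n4, padicValRat.mul n3 n1, padicValRat.mul n2 n5,
      padicValRat.pow, hv, v_add hq hQ, e1]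
    unfold A
    ring

theorem v_ff (hq : ¬ p ∣ Q) (hQ : 2 ≤ Q) (t m : ℕ) {j : ℕ} (hj : j ≤ m) :
    padicValRat p (ff (Q : ℚ) ((Q : ℚ) ^ t) m j) = padicValRat p (gg (Q : ℚ) ((Q : ℚ) ^ t) m j) +
      B p Q ((2 * j - (t + m)) + ((t + m) - 2 * j)) - B p Q (t + m - j) := by
  have hQ1 : (1 : ℚ) < Q := by exact_mod_cast (by omega : 1 < Q)
  have hQ0 : (0 : ℚ) < Q := by linarith
  have hg := (gg_pos (s := (Q : ℚ) ^ t) hQ1 (pow_pos hQ0 t) hj).ne'
  have n1 : (Q : ℚ) ^ (2 * j) + (Q : ℚ) ^ t * (Q : ℚ) ^ m ≠ 0 := by positivity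
  have n2 : (Q : ℚ) ^ j + (Q : ℚ) ^ t * (Q : ℚ) ^ m ≠ 0 := by positivity
  unfold ff
  rw [padicValRat.div (mul_ne_zero hg n1) n2, padicValRat.mul hg n1, ← pow_add, v_add hq hQ,
    v_add hq hQ, show (j - (t + m)) + ((t + m) - j) = t + m - j by omega]

/-- Telescoping. -/
theorem sum_top (n : ℕ) {j : ℕ} (hj : j ≤ n) :
    ∑ i ∈ range j, (A p Q (n - i) + B p Q (n - i)) = TT p Q n - TT p Q (n - j) := by
  induction j with
  | zero => simp
  | succ j ih =>
    rw [sum_range_succ, ih (by omega)]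
    have e : n - j = (n - (j + 1)) + 1 := by omega
    have h := TT_succ (p := p) (Q := Q) (n - (j + 1))
    rw [← e] at h
    rw [h]
    ring

/-- Symplectic and odd orthogonal groups. -/
theorem v_sp (hQ : 2 ≤ Q) (hd : orderOf (Q : ZMod p) = 2 * d) (hd0 : 0 < d) {n k : ℕ}
    (hk : Even k) (hj : d * k ≤ n) :
    padicValRat p (ff (Q : ℚ) ((Q : ℚ) ^ 1) n (d * k)) =
      (padicValNat p (n / d).factorial : ℤ) - (padicValNat p k.factorial : ℤ) -
        (padicValNat p (n / d - k).factorial : ℤ) +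
      B p Q ((2 * (d * k) - (n + 1)) + ((n + 1) - 2 * (d * k))) - B p Q (n + 1 - d * k) := by
  have hq := not_dvd hd hd0
  have hp1 := odd_of hd hd0
  have e0 : ∀ j, j ≤ n → ∑ i ∈ range j, (A p Q (n - i) + B p Q (1 + (n - (i + 1))) - A p Q (i + 1) -
        B p Q ((1 - (i + 1)) + ((i + 1) - 1))) = (TT p Q n - TT p Q (n - j)) - TT p Q j + B p Q j := by
    intro j hj
    rw [← sum_top n hj]
    induction j with
    | zero => unfold TT; simp only [B_zero hp1, _root_.Finset.range_zero, _root_.le_add_iff_nonneg_left, _root_.zero_le, _root_.Nat.sub_eq_zero_of_le, _root_.add_tsub_cancel_right, _root_.zero_add, _root_.Finset.sum_sub_distrib, _root_.Finset.sum_empty, _root_.sub_self, _root_.add_zero]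
    | succ j ih =>
      rw [sum_range_succ, sum_range_succ, ih (by omega), TT_succ,
        show 1 + (n - (j + 1)) = n - j by omega, show (1 - (j + 1)) + ((j + 1) - 1) = j by omega]
      ring
  have hkn : k ≤ n / d := (Nat.le_div_iff_mul_le hd0).2 (by rw [mul_comm]; exact hj)
  have e1 : (n - d * k) / d = n / d - k := Nat.sub_mul_div n d k
  rw [v_ff hq hQ 1 n hj, v_gg hq hQ 1 n hj, e0 _ hj, B_mul hd hd0, if_neg (Nat.not_odd_iff_even.2 hk),
    TT_eq hQ hd hd0, TT_eq hQ hd hd0, TT_eq hQ hd hd0, e1, Nat.mul_div_cancel_left _ hd0,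
    add_comm 1 n]
  push_cast [Nat.cast_sub hkn]
  ring

/-- Orthogonal groups of plus type. -/
theorem v_plus (hQ : 2 ≤ Q) (hd : orderOf (Q : ZMod p) = 2 * d) (hd0 : 0 < d) {n k : ℕ}
    (hj : d * k ≤ n) :
    padicValRat p (ff (Q : ℚ) ((Q : ℚ) ^ 0) n (d * k)) =
      (padicValNat p (n / d).factorial : ℤ) - (padicValNat p k.factorial : ℤ) -
        (padicValNat p (n / d - k).factorial : ℤ) +
      B p Q ((2 * (d * k) - n) + (n - 2 * (d * k))) - B p Q n := by
  have hq := not_dvd hd hd0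
  have hp1 := odd_of hd hd0
  have e0 : ∀ j, j ≤ n → ∑ i ∈ range j, (A p Q (n - i) + B p Q (0 + (n - (i + 1))) - A p Q (i + 1) -
        B p Q ((0 - (i + 1)) + ((i + 1) - 0))) =
        (TT p Q n - TT p Q (n - j)) - TT p Q j + B p Q (n - j) - B p Q n := by
    intro j hj
    rw [← sum_top n hj]
    induction j with
    | zero => unfold TT; simp only [_root_.Finset.range_zero, _root_.zero_add, _root_.zero_tsub, _root_.tsub_zero, _root_.Finset.sum_sub_distrib, _root_.Finset.sum_empty, _root_.sub_self]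
    | succ j ih =>
      rw [sum_range_succ, sum_range_succ, ih (by omega), TT_succ,
        show 0 + (n - (j + 1)) = n - (j + 1) by omega, show (0 - (j + 1)) + ((j + 1) - 0) = j + 1 by omega]
      ring
  have hkn : k ≤ n / d := (Nat.le_div_iff_mul_le hd0).2 (by rw [mul_comm]; exact hj)
  have e1 : (n - d * k) / d = n / d - k := Nat.sub_mul_div n d k
  rw [v_ff hq hQ 0 n hj, v_gg hq hQ 0 n hj, e0 _ hj,
    TT_eq hQ hd hd0, TT_eq hQ hd hd0, TT_eq hQ hd hd0, e1, Nat.mul_div_cancel_left _ hd0, zero_add]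
  push_cast [Nat.cast_sub hkn]
  ring

/-- Orthogonal groups of minus type, `n = m + 1`. -/
theorem v_minus (hQ : 2 ≤ Q) (hd : orderOf (Q : ZMod p) = 2 * d) (hd0 : 0 < d) {m k : ℕ}
    (hk : Even k) (hk0 : 0 < k) (hj : d * k ≤ m) :
    padicValRat p (ff (Q : ℚ) ((Q : ℚ) ^ 2) m (d * k)) =
      (padicValNat p ((m + 1) / d).factorial : ℤ) - (padicValNat p k.factorial : ℤ) -
        (padicValNat p ((m + 1) / d - k).factorial : ℤ) -
      A p Q (m + 1) + A p Q (m + 1 - d * k) - B p Q 1 + B p Q (d * k - 1) +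
      B p Q ((2 * (d * k) - (m + 2)) + ((m + 2) - 2 * (d * k))) - B p Q (m + 2 - d * k) := by
  have hq := not_dvd hd hd0
  have hp1 := odd_of hd hd0
  have e0 : ∀ j, 1 ≤ j → j ≤ m →
      ∑ i ∈ range j, (A p Q (m - i) + B p Q (2 + (m - (i + 1))) - A p Q (i + 1) -
        B p Q ((2 - (i + 1)) + ((i + 1) - 2))) =
        (TT p Q (m + 1) - TT p Q (m + 1 - j)) - TT p Q j - A p Q (m + 1) + A p Q (m + 1 - j) -
          B p Q 1 + B p Q (j - 1) + B p Q j := by
    intro j hj1 hj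
    rw [← sum_top (m + 1) (by omega)]
    induction j with
    | zero => omega
    | succ j ih =>
      rcases Nat.eq_zero_or_pos j with rfl | hj0
      · rw [sum_range_one, sum_range_one, TT_succ,
          show 2 + (m - (0 + 1)) = m + 1 by omega, show (2 - (0 + 1)) + ((0 + 1) - 2) = 1 by omega,
          show m + 1 - (0 + 1) = m by omega, show 0 + 1 - 1 = 0 by omega, B_zero hp1]
        unfold TT
        simp only [Nat.sub_zero, range_zero, sum_empty, zero_add, add_zero]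
        ring
      · rw [sum_range_succ, sum_range_succ _ (j), ih hj0 (by omega), TT_succ,
          show 2 + (m - (j + 1)) = m + 1 - j by omega,
          show (2 - (j + 1)) + ((j + 1) - 2) = j - 1 by omega,
          show m + 1 - (j + 1) = m - j by omega, show j + 1 - 1 = j by omega]
        ring
  have hkn : k ≤ (m + 1) / d := (Nat.le_div_iff_mul_le hd0).2 (by rw [mul_comm]; omega)
  have e1 : (m + 1 - d * k) / d = (m + 1) / d - k := Nat.sub_mul_div (m + 1) d k
  have h1 : 1 ≤ d * k := Nat.mul_pos hd0 hk0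
  rw [v_ff hq hQ 2 m hj, v_gg hq hQ 2 m hj, e0 _ h1 hj, B_mul hd hd0 k,
    if_neg (Nat.not_odd_iff_even.2 hk),
    TT_eq hQ hd hd0, TT_eq hQ hd hd0, TT_eq hQ hd hd0, e1, Nat.mul_div_cancel_left _ hd0,
    add_comm 2 m]
  push_cast [Nat.cast_sub hkn]
  ring

end gg

section choice

theorem v_fact {c r : ℕ} (hc : c < p) (hr : r < p) : padicValNat p (p * c + r).factorial = c := by
  have h0 := hp.out.pos
  have h1 : p * c + r < p ^ 2 := by nlinarith
  rw [padicValNat_factorial (b := 2) (Nat.log_lt_of_lt_pow' (by norm_num) h1)]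
  rw [show Ico 1 2 = {1} from rfl, sum_singleton, pow_one, Nat.mul_add_div h0, Nat.div_eq_of_lt hr,
    add_zero]

theorem v_fact_lt {r : ℕ} (hr : r < p) : padicValNat p r.factorial = 0 := by
  have := v_fact (c := 0) hp.out.pos hr
  rwa [mul_zero, zero_add] at this

theorem v_unit {c r : ℕ} (h0 : 0 < r) (hr : r < p) : padicValNat p (p * c + r) = 0 :=
  padicValNat.eq_zero_of_not_dvd fun h =>
    absurd (Nat.le_of_dvd h0 ((Nat.dvd_add_right (Dvd.intro _ rfl)).1 h)) (by omega)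

theorem v_p {c : ℕ} (h0 : 0 < c) (hc : c < p) : padicValNat p (p * c) = 1 := by
  rw [padicValNat.mul hp.out.ne_zero h0.ne', padicValNat_self, v_lt h0 hc]

/-- The even one of `(p - 1) / 2`, `(3 p - 1) / 2`. -/
theorem exists_k (hp1 : Odd p) : ∃ k, Even k ∧ 0 < k ∧ (2 * k + 1 = p ∨ 2 * k + 1 = 3 * p) := by
  have h2 := hp.out.two_le
  obtain ⟨a, ha⟩ := hp1
  rcases Nat.even_or_odd a with h | h
  · exact ⟨a, h, by omega, Or.inl ha.symm⟩
  · refine ⟨3 * a + 1, ?_, by omega, Or.inr (by omega)⟩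
    obtain ⟨b, hb⟩ := h
    exact ⟨3 * b + 2, by omega⟩

theorem B_div (hd : orderOf (Q : ZMod p) = 2 * d) (hd0 : 0 < d) {x u : ℕ} (hx : x = d * u) :
    B p Q x = if Odd u then B p Q d + (padicValNat p u : ℤ) else 0 := by
  rw [hx, B_mul hd hd0]

/-- No correction. -/
theorem corr0 (hd : orderOf (Q : ZMod p) = 2 * d) (hd0 : 0 < d) {N k : ℕ} (hk : d * k ≤ N)
    (hke : Even k) (h : ∀ W, N = d * W → ¬ Odd W) :
    B p Q ((2 * (d * k) - N) + (N - 2 * (d * k))) - B p Q (N - d * k) = 0 := by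
  by_cases hdN : d ∣ N
  · obtain ⟨W, hW⟩ := hdN
    have hkW : k ≤ W := by
      rw [hW] at hk
      exact Nat.le_of_mul_le_mul_left hk hd0
    have e1 : N - d * k = d * (W - k) := by rw [hW, Nat.mul_sub]
    have e2 : (2 * (d * k) - N) + (N - 2 * (d * k)) = d * ((2 * k - W) + (W - 2 * k)) := by
      rw [hW, mul_add, Nat.mul_sub, Nat.mul_sub]
      congr 2 <;> ring
    have he := Nat.not_odd_iff_even.1 (h W hW)
    have o1 : ¬ Odd ((2 * k - W) + (W - 2 * k)) := by
      rw [Nat.not_odd_iff_even]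
      obtain ⟨a, ha⟩ := he
      obtain ⟨b, hb⟩ := hke
      exact ⟨(2 * b - a) + (a - 2 * b), by (clear * - ha hb; omega)⟩
    have o2 : ¬ Odd (W - k) := by
      rw [Nat.not_odd_iff_even]
      obtain ⟨a, ha⟩ := he
      obtain ⟨b, hb⟩ := hke
      exact ⟨a - b, by omega⟩
    rw [e1, e2, B_mul hd hd0, B_mul hd hd0, if_neg o1, if_neg o2, sub_zero]
  · have e1 : ¬ d ∣ N - d * k := fun h => hdN ((Nat.dvd_sub_iff_left hk (Dvd.intro _ rfl)).1 h)
    have e2 : ¬ d ∣ (2 * (d * k) - N) + (N - 2 * (d * k)) := by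
      intro h
      apply hdN
      have h2 : d ∣ 2 * (d * k) := ⟨2 * k, by ring⟩
      rcases Nat.lt_or_ge N (2 * (d * k)) with h3 | h3
      · rw [Nat.sub_eq_zero_of_le h3.le, add_zero] at h
        exact (Nat.dvd_sub_iff_right h3.le h2).1 h
      · rw [Nat.sub_eq_zero_of_le h3, zero_add] at h
        exact (Nat.dvd_sub_iff_left h3 h2).1 h
    rw [B_not hd hd0 e1, B_not hd hd0 e2, sub_zero]

/-- The correction. -/
theorem corr1 (hd : orderOf (Q : ZMod p) = 2 * d) (hd0 : 0 < d) {W k : ℕ}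
    (hke : Even k) (h : Odd W) :
    B p Q ((2 * (d * k) - d * W) + (d * W - 2 * (d * k))) - B p Q (d * W - d * k) =
      (padicValNat p ((2 * k - W) + (W - 2 * k)) : ℤ) - (if k ≤ W then (padicValNat p (W - k) : ℤ) else - B p Q d) := by
  have e1 : d * W - d * k = d * (W - k) := by rw [Nat.mul_sub]
  have e2 : (2 * (d * k) - d * W) + (d * W - 2 * (d * k)) = d * ((2 * k - W) + (W - 2 * k)) := by
    rw [mul_add, Nat.mul_sub, Nat.mul_sub]
    congr 2 <;> ring
  have o1 : Odd ((2 * k - W) + (W - 2 * k)) := by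
    obtain ⟨a, ha⟩ := h
    obtain ⟨b, hb⟩ := hke
    rcases Nat.lt_or_ge W (2 * k) with h | h
    · exact ⟨2 * b - a - 1, by omega⟩
    · exact ⟨a - 2 * b, by (clear * - ha hb h; solve | lia | omega)⟩
  rw [e1, e2, B_mul hd hd0, B_mul hd hd0, if_pos o1]
  rcases Nat.lt_or_ge W k with hkW | hkW
  · have o2 : ¬ Odd (W - k) := by rw [Nat.sub_eq_zero_of_le hkW.le]; decide
    rw [if_neg o2, if_neg (by omega)]
    ring
  · have o2 : Odd (W - k) := by
      obtain ⟨a, ha⟩ := h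
      obtain ⟨b, hb⟩ := hke
      exact ⟨a - b, by omega⟩
    rw [if_pos o2, if_pos hkW]
    ring

/-- The digits of the weight. -/
theorem digits {w : ℕ} (h1 : p ≤ w) (h2 : w < p ^ 2) (h3 : ¬ p ∣ w + 1) :
    ∃ c r, w = p * c + r ∧ 0 < c ∧ c < p ∧ r + 1 < p := by
  have h0 := hp.out.pos
  refine ⟨w / p, w % p, (Nat.div_add_mod w p).symm, Nat.div_pos h1 h0, ?_, ?_⟩
  · rw [Nat.div_lt_iff_lt_mul h0]
    linarith only [h2]
  · have h4 := Nat.mod_lt w h0
    rcases Nat.lt_or_ge (w % p + 1) p with h | h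
    · exact h
    · exfalso
      apply h3
      have h5 := Nat.div_add_mod w p
      refine ⟨w / p + 1, ?_⟩
      rw [mul_add, mul_one]
      omega

/-- The numeric part, no correction. -/
theorem num0 {c r : ℕ} (hc0 : 0 < c) (hc : c < p) (hr : r + 1 < p) :
    (padicValNat p (p * c + r).factorial : ℤ) - (padicValNat p (p - 1).factorial : ℤ) -
        (padicValNat p (p * c + r - (p - 1)).factorial : ℤ) = 1 := by
  obtain ⟨c, rfl⟩ : ∃ e, c = e + 1 := ⟨c - 1, by omega⟩
  have e : p * (c + 1) + r - (p - 1) = p * c + (r + 1) := by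
    rw [mul_add]; omega
  rw [e, v_fact hc (by omega), v_fact (by omega) hr, v_fact_lt (by omega)]
  push_cast
  ring

/-- The numeric part for the second choice. -/
theorem num1 {c r k : ℕ} (hc0 : 0 < c) (hc : c < p) (hr : r < p) (hk0 : 0 < k)
    (hk : 2 * k + 1 = p ∨ 2 * k + 1 = 3 * p) (hr2 : p ≤ r + 2) :
    (padicValNat p (p * c + r).factorial : ℤ) - (padicValNat p k.factorial : ℤ) -
        (padicValNat p (p * c + r - k).factorial : ℤ) = 0 := by
  rcases hk with hk | hk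
  · have e : p * c + r - k = p * c + (r - k) := by omega
    rw [e, v_fact hc hr, v_fact hc (by omega), v_fact_lt (by omega)]
    ring
  · obtain ⟨c, rfl⟩ : ∃ e, c = e + 1 := ⟨c - 1, by omega⟩
    have e : p * (c + 1) + r - k = p * c + (r - (k - p)) := by
      rw [mul_add]; omega
    have e1 : k = p * 1 + (k - p) := by (clear * - hk; solve | lia | omega)
    rw [e, v_fact hc hr, v_fact (by omega) (by (clear * - hr; omega))]
    conv_lhs => rw [e1]
    rw [v_fact (by have := hp.out.two_le; omega) (by omega)]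
    push_cast
    ring

/-- The correction for `k = p - 1`, numerator. -/
theorem cA (hp1 : Odd p) {c r : ℕ} (hc0 : 0 < c) (hc : c < p) (hr : r + 3 ≤ p) (hW : Odd (p * c + r + 1)) :
    padicValNat p ((2 * (p - 1) - (p * c + r + 1)) + ((p * c + r + 1) - 2 * (p - 1))) ≤ 1 ∧
      (c = 1 → padicValNat p ((2 * (p - 1) - (p * c + r + 1)) + ((p * c + r + 1) - 2 * (p - 1))) = 0) := by
  have h2 := hp.out.two_le
  rcases Nat.lt_or_ge c 2 with h | h
  · have hc1 : c = 1 := by omega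
    subst hc1
    have hne : r + 3 ≠ p := by
      rintro rfl
      obtain ⟨a, ha⟩ := hp1
      obtain ⟨b, hb⟩ := hW
      omega
    have e : (2 * (p - 1) - (p * 1 + r + 1)) + ((p * 1 + r + 1) - 2 * (p - 1)) = p - (r + 3) := by omega
    rw [e, v_lt (by omega) (by omega)]
    exact ⟨by omega, fun _ => rfl⟩
  · obtain ⟨c, rfl⟩ : ∃ e, c = e + 2 := ⟨c - 2, by omega⟩
    have e : (2 * (p - 1) - (p * (c + 2) + r + 1)) + ((p * (c + 2) + r + 1) - 2 * (p - 1)) = p * c + (r + 3) := by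
      rw [mul_add]; omega
    rw [e]
    rcases Nat.lt_or_ge (r + 3) p with h3 | h3
    · rw [v_unit (by omega) h3]
      exact ⟨by omega, fun _ => rfl⟩
    · have e2 : p * c + (r + 3) = p * (c + 1) := by rw [mul_add]; omega
      rw [e2, v_p (by omega) (by omega)]
      exact ⟨le_rfl, by omega⟩

theorem cC {c r : ℕ} (hc0 : 0 < c) (hr : r + 2 < p) : padicValNat p ((p * c + r + 1) - (p - 1)) = 0 := by
  obtain ⟨c, rfl⟩ : ∃ e, c = e + 1 := ⟨c - 1, by omega⟩
  have e : (p * (c + 1) + r + 1) - (p - 1) = p * c + (r + 2) := by rw [mul_add]; omega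
  rw [e, v_unit (by omega) hr]

theorem cB (hp1 : Odd p) {c k : ℕ} (hc0 : 0 < c) (hc : c < p) (hke : Even k) (hk : 2 * k + 1 = p ∨ 2 * k + 1 = 3 * p)
    (hW : Odd (p * c + (p - 1))) :
    padicValNat p ((2 * k - (p * c + (p - 1))) + ((p * c + (p - 1)) - 2 * k)) = 1 := by
  have h2 := hp.out.two_le
  rcases hk with hk | hk
  · have e : (2 * k - (p * c + (p - 1))) + ((p * c + (p - 1)) - 2 * k) = p * c := by omega
    rw [e, v_p hc0 hc]
  · rcases Nat.lt_or_ge c 2 with h | h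
    · have hc1 : c = 1 := by omega
      subst hc1
      have e : (2 * k - (p * 1 + (p - 1))) + ((p * 1 + (p - 1)) - 2 * k) = p := by (clear * - hk; solve | lia | omega)
      rw [e, padicValNat_self]
    · obtain ⟨c, rfl⟩ : ∃ e, c = e + 2 := ⟨c - 2, by omega⟩
      have e : (2 * k - (p * (c + 2) + (p - 1))) + ((p * (c + 2) + (p - 1)) - 2 * k) = p * c := by
        rw [mul_add]; omega
      have hc2 : c ≠ 0 := by
        rintro rfl
        obtain ⟨a, ha⟩ := hp1
        obtain ⟨b, hb⟩ := hW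
        (clear * - ha hb; omega)
      rw [e, v_p (by omega) (by omega)]

theorem cD {c k : ℕ} (hp1 : Odd p) (hc0 : 0 < c) (hk0 : 0 < k) (hk : 2 * k + 1 = p ∨ 2 * k + 1 = 3 * p) :
    k ≤ p * c + (p - 1) ∧ padicValNat p ((p * c + (p - 1)) - k) = 0 := by
  have h2 := hp.out.two_le
  have h3 : p ≠ 2 := by rintro rfl; exact absurd hp1 (by decide)
  obtain ⟨c, rfl⟩ : ∃ e, c = e + 1 := ⟨c - 1, by omega⟩
  rw [mul_add, mul_one]
  rcases hk with hk | hk
  · refine ⟨by omega, ?_⟩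
    have e : p * c + p + (p - 1) - k = p * (c + 1) + (p - 1 - k) := by rw [mul_add]; (clear * - hk; solve | lia | omega)
    rw [e, v_unit (by omega) (by omega)]
  · refine ⟨by omega, ?_⟩
    have e : p * c + p + (p - 1) - k = p * c + (p + (p - 1) - k) := by (clear * - hk; omega)
    rw [e, v_unit (by omega) (by (clear * - hk; solve | lia | omega))]

/-- Both corrections together, `k = p - 1`. -/
theorem ctot (hd : orderOf (Q : ZMod p) = 2 * d) (hd0 : 0 < d) {N c r : ℕ} (hc0 : 0 < c) (hc : c < p)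
    (hr : r + 3 ≤ p) (hW : ∀ W, N = d * W → W = p * c + r + 1) (hN : d * (p - 1) ≤ N) :
    0 ≤ B p Q ((2 * (d * (p - 1)) - N) + (N - 2 * (d * (p - 1)))) - B p Q (N - d * (p - 1)) ∧
      B p Q ((2 * (d * (p - 1)) - N) + (N - 2 * (d * (p - 1)))) - B p Q (N - d * (p - 1)) ≤ 1 ∧
      (c = 1 → B p Q ((2 * (d * (p - 1)) - N) + (N - 2 * (d * (p - 1)))) - B p Q (N - d * (p - 1)) = 0) := by
  have hp1 := odd_of hd hd0
  have hke : Even (p - 1) := hp1.tsub_odd odd_one
  by_cases H : ∃ W, N = d * W ∧ Odd W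
  · obtain ⟨W, rfl, ho⟩ := H
    have e := hW W rfl
    subst e
    rw [corr1 hd hd0 hke ho, if_pos (by
      have : p * 1 ≤ p * c := Nat.mul_le_mul_left _ hc0
      omega), cC hc0 (by omega)]
    have h := cA hp1 hc0 hc hr ho
    rw [Nat.cast_zero, sub_zero]
    exact ⟨Nat.cast_nonneg _, by exact_mod_cast h.1, fun h1 => by rw [h.2 h1]; rfl⟩
  · rw [corr0 hd hd0 hN hke (fun W h1 h2 => H ⟨W, h1, h2⟩)]
    exact ⟨le_rfl, by norm_num, fun _ => rfl⟩

theorem div_succ {n W : ℕ} (hd0 : 0 < d) (h : n + 1 = d * W) : n / d = W - 1 := by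
  have hW : 0 < W := by
    rcases Nat.eq_zero_or_pos W with rfl | h1
    · omega
    · exact h1
  obtain ⟨W, rfl⟩ : ∃ e, W = e + 1 := ⟨W - 1, by omega⟩
  rw [Nat.add_sub_cancel]
  refine Nat.div_eq_of_lt_le ?_ ?_
  · rw [mul_comm]; rw [mul_add] at h; omega
  · rw [mul_comm]; omega

/-- **Symplectic and odd orthogonal groups.** -/
theorem exists_sp (hQ : 2 ≤ Q) (hd : orderOf (Q : ZMod p) = 2 * d) (hd0 : 0 < d) {n w : ℕ} (hw : w = n / d)
    (h1 : p ≤ w) (h2 : w < p ^ 2) (h3 : ¬ p ∣ w + 1) :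
    ∃ k, Even k ∧ 0 < k ∧ d * k ≤ n ∧
      1 ≤ padicValRat p (ff (Q : ℚ) ((Q : ℚ) ^ 1) n (d * k)) ∧
      padicValRat p (ff (Q : ℚ) ((Q : ℚ) ^ 1) n (d * k)) ≤ 2 ∧
      (w < 2 * p → padicValRat p (ff (Q : ℚ) ((Q : ℚ) ^ 1) n (d * k)) = 1) := by
  have hp1 := odd_of hd hd0
  have hp2 := hp.out.two_le
  have hke : Even (p - 1) := hp1.tsub_odd odd_one
  obtain ⟨c, r, hcr, hc0, hc, hr⟩ := digits h1 h2 h3
  have hcw : w < 2 * p → c = 1 := by
    intro h
    by_contra hne
    have : p * 2 ≤ p * c := Nat.mul_le_mul_left _ (by omega)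
    omega
  have hnd : d * p ≤ n := by
    have := (Nat.le_div_iff_mul_le hd0).1 (hw ▸ h1)
    rwa [mul_comm]
  by_cases H : (∃ W, n + 1 = d * W ∧ Odd W) ∧ r + 2 = p
  · obtain ⟨⟨W, hW, ho⟩, hr2⟩ := H
    have e0 := div_succ hd0 hW
    have hW1 : W = p * c + (p - 1) := by
      have : 0 < W := ho.pos
      omega
    obtain ⟨k, hk1, hk0, hk⟩ := exists_k hp1
    have hkW := cD hp1 hc0 hk0 hk
    have hkn : d * k ≤ n := by
      have h5 : k + 1 ≤ W := by
        rw [hW1]
        have : p * 1 ≤ p * c := Nat.mul_le_mul_left _ hc0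
        have h6 : p ≠ 2 := by rintro rfl; exact absurd hp1 (by decide)
        (clear * - hr2 hk this; omega)
      have h6 : d * (k + 1) ≤ d * W := Nat.mul_le_mul_left _ h5
      rw [mul_add] at h6
      omega
    have hv : padicValRat p (ff (Q : ℚ) ((Q : ℚ) ^ 1) n (d * k)) = 1 := by
      rw [v_sp hQ hd hd0 hk1 hkn, add_sub_assoc, hW, corr1 hd hd0 hk1 ho, ← hw, hcr,
        num1 hc0 hc (by omega) hk0 hk (by omega), hW1, if_pos hkW.1, hkW.2,
        cB hp1 hc0 hc hk1 hk (hW1 ▸ ho)]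
      norm_num
    exact ⟨k, hk1, hk0, hkn, by rw [hv], by rw [hv]; norm_num, fun _ => hv⟩
  · have hkn : d * (p - 1) ≤ n := le_trans (Nat.mul_le_mul_left _ (by omega)) hnd
    have hv := v_sp hQ hd hd0 hke hkn
    rw [← hw, hcr, num0 hc0 hc hr, add_sub_assoc] at hv
    have key : 0 ≤ B p Q ((2 * (d * (p - 1)) - (n + 1)) + ((n + 1) - 2 * (d * (p - 1)))) -
        B p Q (n + 1 - d * (p - 1)) ∧
      B p Q ((2 * (d * (p - 1)) - (n + 1)) + ((n + 1) - 2 * (d * (p - 1)))) -
        B p Q (n + 1 - d * (p - 1)) ≤ 1 ∧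
      (c = 1 → B p Q ((2 * (d * (p - 1)) - (n + 1)) + ((n + 1) - 2 * (d * (p - 1)))) -
        B p Q (n + 1 - d * (p - 1)) = 0) := by
      rcases Nat.lt_or_ge (r + 2) p with h | h
      · refine ctot (r := r) hd hd0 hc0 hc (by omega) (fun W hW => ?_) (by omega)
        have := div_succ hd0 hW
        have hW0 : 0 < W := by
          rcases Nat.eq_zero_or_pos W with rfl | h1
          · omega
          · exact h1
        omega
      · rw [corr0 hd hd0 (by omega) hke (fun W h4 h5 => H ⟨⟨W, h4, h5⟩, by omega⟩)]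
        exact ⟨le_rfl, by norm_num, fun _ => rfl⟩
    exact ⟨p - 1, hke, by omega, hkn, by rw [hv]; omega, by rw [hv]; omega,
      fun h => by rw [hv, key.2.2 (hcw h), add_zero]⟩

/-- No first term. -/
theorem corr2 (hd : orderOf (Q : ZMod p) = 2 * d) (hd0 : 0 < d) {N k : ℕ}
    (hke : Even k) (h : ∀ W, N = d * W → ¬ Odd W) :
    B p Q ((2 * (d * k) - N) + (N - 2 * (d * k))) = 0 := by
  by_cases hdN : d ∣ N
  · obtain ⟨W, hW⟩ := hdN
    have e2 : (2 * (d * k) - N) + (N - 2 * (d * k)) = d * ((2 * k - W) + (W - 2 * k)) := by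
      rw [hW, mul_add, Nat.mul_sub, Nat.mul_sub]
      congr 2 <;> ring
    have he := Nat.not_odd_iff_even.1 (h W hW)
    have o1 : ¬ Odd ((2 * k - W) + (W - 2 * k)) := by
      rw [Nat.not_odd_iff_even]
      obtain ⟨a, ha⟩ := he
      obtain ⟨b, hb⟩ := hke
      exact ⟨(2 * b - a) + (a - 2 * b), by (clear * - ha hb; omega)⟩
    rw [e2, B_mul hd hd0, if_neg o1]
  · have e2 : ¬ d ∣ (2 * (d * k) - N) + (N - 2 * (d * k)) := by
      intro h
      apply hdN
      have h2 : d ∣ 2 * (d * k) := ⟨2 * k, by ring⟩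
      rcases Nat.lt_or_ge N (2 * (d * k)) with h3 | h3
      · rw [Nat.sub_eq_zero_of_le h3.le, add_zero] at h
        exact (Nat.dvd_sub_iff_right h3.le h2).1 h
      · rw [Nat.sub_eq_zero_of_le h3, zero_add] at h
        exact (Nat.dvd_sub_iff_left h3 h2).1 h
    rw [B_not hd hd0 e2]

theorem corr3 (hd : orderOf (Q : ZMod p) = 2 * d) (hd0 : 0 < d) {W k : ℕ} (hke : Even k) (h : Odd W) :
    B p Q ((2 * (d * k) - d * W) + (d * W - 2 * (d * k))) =
      B p Q d + (padicValNat p ((2 * k - W) + (W - 2 * k)) : ℤ) := by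
  have e2 : (2 * (d * k) - d * W) + (d * W - 2 * (d * k)) = d * ((2 * k - W) + (W - 2 * k)) := by
    rw [mul_add, Nat.mul_sub, Nat.mul_sub]
    congr 2 <;> ring
  have o1 : Odd ((2 * k - W) + (W - 2 * k)) := by
    obtain ⟨a, ha⟩ := h
    obtain ⟨b, hb⟩ := hke
    rcases Nat.lt_or_ge W (2 * k) with h | h
    · exact ⟨2 * b - a - 1, by omega⟩
    · exact ⟨a - 2 * b, by (clear * - ha hb h; solve | lia | omega)⟩
  rw [e2, B_mul hd hd0, if_pos o1]

/-- The numeric part, last digit `p - 1`. -/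
theorem num2 {c : ℕ} (hc : c < p) :
    (padicValNat p (p * c + (p - 1)).factorial : ℤ) - (padicValNat p (p - 1).factorial : ℤ) -
        (padicValNat p (p * c + (p - 1) - (p - 1)).factorial : ℤ) = 0 := by
  have h0 := hp.out.two_le
  have e := v_fact (p := p) (c := c) (r := 0) hc (by omega)
  rw [add_zero] at e
  rw [Nat.add_sub_cancel, v_fact hc (by omega), e, v_fact_lt (by omega)]
  ring

/-- **Orthogonal groups of plus type.** -/
theorem exists_plus (hQ : 2 ≤ Q) (hd : orderOf (Q : ZMod p) = 2 * d) (hd0 : 0 < d) {n w : ℕ}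
    (hw : w = if d ∣ n ∧ Odd (n / d) then n / d - 1 else n / d)
    (h1 : p ≤ w) (h2 : w < p ^ 2) (h3 : ¬ p ∣ w + 1) :
    ∃ k, Even k ∧ 0 < k ∧ d * k ≤ n ∧
      1 ≤ padicValRat p (ff (Q : ℚ) ((Q : ℚ) ^ 0) n (d * k)) ∧
      padicValRat p (ff (Q : ℚ) ((Q : ℚ) ^ 0) n (d * k)) ≤ 2 ∧
      (w < 2 * p → padicValRat p (ff (Q : ℚ) ((Q : ℚ) ^ 0) n (d * k)) = 1) := by
  have hp1 := odd_of hd hd0
  have hp2 := hp.out.two_le
  have hke : Even (p - 1) := hp1.tsub_odd odd_one
  obtain ⟨c, r, hcr, hc0, hc, hr⟩ := digits h1 h2 h3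
  have hcw : w < 2 * p → c = 1 := by
    intro h
    by_contra hne
    have : p * 2 ≤ p * c := Nat.mul_le_mul_left _ (by omega)
    omega
  have hpw : p ≤ n / d := by split_ifs at hw <;> omega
  have hnd : d * p ≤ n := by
    have := (Nat.le_div_iff_mul_le hd0).1 hpw
    rwa [mul_comm]
  have hkn : d * (p - 1) ≤ n := le_trans (Nat.mul_le_mul_left _ (by omega)) hnd
  by_cases H : d ∣ n ∧ Odd (n / d)
  · rw [if_pos H] at hw
    obtain ⟨⟨W, hW⟩, ho⟩ := H
    rw [hW, Nat.mul_div_cancel_left _ hd0] at ho hw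
    have hW1 : W = p * c + (r + 1) := by
      have : 0 < W := ho.pos
      omega
    have hB : B p Q n = B p Q d := by
      rw [hW, B_mul hd hd0, if_pos ho, hW1, v_unit (by omega) (by omega)]
      norm_num
    rcases Nat.lt_or_ge (r + 2) p with hr2 | hr2
    · have hv := v_plus hQ hd hd0 hkn
      rw [hB, hW, corr3 hd hd0 hke ho, Nat.mul_div_cancel_left _ hd0, hW1,
        num0 hc0 hc (by omega)] at hv
      have hA := cA hp1 hc0 hc (r := r) (by omega) (by rw [add_assoc, ← hW1]; exact ho)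
      rw [add_assoc] at hA
      rw [hW]
      rw [hW1] at hW ⊢
      refine ⟨p - 1, hke, by omega, by rw [← hW]; exact hkn, by rw [hv]; omega, by rw [hv]; omega,
        fun h => ?_⟩
      rw [hv, hA.2 (hcw h)]
      push_cast
      ring
    · obtain ⟨k, hk1, hk0, hk⟩ := exists_k hp1
      have hr3 : r + 1 = p - 1 := by omega
      rw [hr3] at hW1
      have hkW := cD hp1 hc0 hk0 hk
      have hkn' : d * k ≤ n := by
        rw [hW, hW1]
        exact Nat.mul_le_mul_left _ hkW.1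
      have hv : padicValRat p (ff (Q : ℚ) ((Q : ℚ) ^ 0) n (d * k)) = 1 := by
        rw [v_plus hQ hd hd0 hkn', hB, hW, corr3 hd hd0 hk1 ho, Nat.mul_div_cancel_left _ hd0, hW1,
          num1 hc0 hc (by omega) hk0 hk (by omega), cB hp1 hc0 hc hk1 hk (hW1 ▸ ho)]
        push_cast
        ring
      exact ⟨k, hk1, hk0, hkn', by rw [hv], by rw [hv]; norm_num, fun _ => hv⟩
  · rw [if_neg H] at hw
    have hno : ∀ W, n = d * W → ¬ Odd W := by
      intro W hW ho
      refine H ⟨⟨W, hW⟩, ?_⟩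
      rwa [hW, Nat.mul_div_cancel_left _ hd0]
    have hB : B p Q n = 0 := by
      by_cases hdn : d ∣ n
      · obtain ⟨W, hW⟩ := hdn
        rw [hW, B_mul hd hd0, if_neg (hno W hW)]
      · exact B_not hd hd0 hdn
    have hv : padicValRat p (ff (Q : ℚ) ((Q : ℚ) ^ 0) n (d * (p - 1))) = 1 := by
      rw [v_plus hQ hd hd0 hkn, hB, corr2 hd hd0 hke hno, ← hw, hcr, num0 hc0 hc hr]
      norm_num
    exact ⟨p - 1, hke, by omega, hkn, by rw [hv], by rw [hv]; norm_num, fun _ => hv⟩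

/-- Minus type, `d ≥ 2`. -/
theorem exists_minus₂ (hQ : 2 ≤ Q) (hd : orderOf (Q : ZMod p) = 2 * d) (hd2 : 2 ≤ d) {m w : ℕ}
    (hw : w = if d ∣ m + 1 ∧ Even ((m + 1) / d) then (m + 1) / d - 1 else (m + 1) / d)
    (h1 : p ≤ w) (h2 : w < p ^ 2) (h3 : ¬ p ∣ w + 1) :
    ∃ k, Even k ∧ 0 < k ∧ d * k ≤ m ∧
      1 ≤ padicValRat p (ff (Q : ℚ) ((Q : ℚ) ^ 2) m (d * k)) ∧
      padicValRat p (ff (Q : ℚ) ((Q : ℚ) ^ 2) m (d * k)) ≤ 2 ∧
      (w < 2 * p → padicValRat p (ff (Q : ℚ) ((Q : ℚ) ^ 2) m (d * k)) = 1) := by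
  have hd0 : 0 < d := by omega
  have hp1 := odd_of hd hd0
  have hp2 := hp.out.two_le
  have hke : Even (p - 1) := hp1.tsub_odd odd_one
  obtain ⟨c, r, hcr, hc0, hc, hr⟩ := digits h1 h2 h3
  have hcw : w < 2 * p → c = 1 := by
    intro h
    by_contra hne
    have : p * 2 ≤ p * c := Nat.mul_le_mul_left _ (by omega)
    omega
  have hpw : p ≤ (m + 1) / d := by split_ifs at hw <;> omega
  have hnd : d * p ≤ m + 1 := by
    have := (Nat.le_div_iff_mul_le hd0).1 hpw
    rwa [mul_comm]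
  have hkn : d * (p - 1) ≤ m := by
    have h : d * (p - 1) + d ≤ m + 1 := by
      rw [← Nat.mul_succ]
      exact le_trans (Nat.mul_le_mul_left _ (by omega)) hnd
    omega
  have hB1 : B p Q 1 = 0 := B_not hd hd0 (fun h => absurd (Nat.le_of_dvd one_pos h) (by omega))
  have hBk : ∀ k, 0 < k → B p Q (d * k - 1) = 0 := by
    intro k hk
    refine B_not hd hd0 fun h => ?_
    have h5 : 1 ≤ d * k := Nat.mul_pos hd0 hk
    have h6 : d ∣ 1 := (Nat.dvd_sub_iff_right h5 (Dvd.intro _ rfl)).1 h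
    exact absurd (Nat.le_of_dvd one_pos h6) (by omega)
  have hnn : ∀ W, m + 1 = d * W → ∀ W', m + 2 = d * W' → False := by
    intro W hW W' hW'
    have h5 : d ∣ 1 := (Nat.dvd_add_right (⟨W, hW⟩ : d ∣ m + 1)).1 ⟨W', hW'⟩
    exact absurd (Nat.le_of_dvd one_pos h5) (by omega)
  by_cases H : d ∣ m + 1 ∧ Even ((m + 1) / d)
  · rw [if_pos H] at hw
    obtain ⟨⟨W, hW⟩, he⟩ := H
    rw [hW, Nat.mul_div_cancel_left _ hd0] at he hw
    have hW1 : W = p * c + (r + 1) := by omega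
    have hA : A p Q (m + 1) = B p Q d := by
      rw [hW, A_mul hQ hd hd0 (by omega), if_pos he, hW1, v_unit (by omega) (by omega)]
      norm_num
    have hpc : p * 1 ≤ p * c := Nat.mul_le_mul_left _ hc0
    have hA2 : A p Q (m + 1 - d * (p - 1)) = B p Q d + (padicValNat p (W - (p - 1)) : ℤ) := by
      rw [hW, ← Nat.mul_sub, A_mul hQ hd hd0 (by omega), if_pos (he.tsub hke)]
    have hv : padicValRat p (ff (Q : ℚ) ((Q : ℚ) ^ 2) m (d * (p - 1))) = 1 := by
      rw [v_minus hQ hd hd0 hke (by omega) hkn, hA, hA2, hB1, hBk _ (by omega), add_sub_assoc _ _ (B p Q (m + 2 - _)),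
        corr0 hd hd0 (by omega) hke (fun W' h _ => hnn W hW W' h), hW, Nat.mul_div_cancel_left _ hd0, hW1]
      rcases Nat.lt_or_ge (r + 2) p with h | h
      · have h5 := cC (p := p) hc0 h
        rw [add_assoc] at h5
        rw [num0 hc0 hc (by omega), h5]
        norm_num
      · have hr3 : r + 1 = p - 1 := by omega
        rw [hr3, num2 hc, Nat.add_sub_cancel, v_p hc0 hc]
        norm_num
    exact ⟨p - 1, hke, by omega, hkn, by rw [hv], by rw [hv]; norm_num, fun _ => hv⟩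
  · rw [if_neg H] at hw
    have hA : A p Q (m + 1) = 0 := by
      by_cases hdn : d ∣ m + 1
      · obtain ⟨W, hW⟩ := hdn
        have hW0 : 0 < W := by
          rcases Nat.eq_zero_or_pos W with rfl | h1
          · omega
          · exact h1
        rw [hW, A_mul hQ hd hd0 hW0, if_neg]
        intro he
        refine H ⟨⟨W, hW⟩, ?_⟩
        rwa [hW, Nat.mul_div_cancel_left _ hd0]
      · exact A_not hQ hd hdn
    by_cases H2 : (∃ W, m + 2 = d * W ∧ Odd W) ∧ r + 2 = p
    · obtain ⟨⟨W, hW, ho⟩, hr2⟩ := H2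
      have e0 := div_succ hd0 hW
      have hW1 : W = p * c + (p - 1) := by
        have : 0 < W := ho.pos
        omega
      obtain ⟨k, hk1, hk0, hk⟩ := exists_k hp1
      have hkW := cD hp1 hc0 hk0 hk
      have hkn : d * k ≤ m := by
        have h5 : k + 1 ≤ W := by
          rw [hW1]
          have : p * 1 ≤ p * c := Nat.mul_le_mul_left _ hc0
          have h6 : p ≠ 2 := by rintro rfl; exact absurd hp1 (by decide)
          (clear * - hr2 hk this; omega)
        have h6 : d * (k + 1) ≤ d * W := Nat.mul_le_mul_left _ h5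
        rw [mul_add] at h6
        omega
      have hA2 : A p Q (m + 1 - d * k) = 0 := by
        refine A_not hQ hd fun h => ?_
        obtain ⟨W', hW'⟩ := (Nat.dvd_sub_iff_left (by omega) (Dvd.intro _ rfl)).1 h
        exact hnn W' hW' W hW
      have hv : padicValRat p (ff (Q : ℚ) ((Q : ℚ) ^ 2) m (d * k)) = 1 := by
        rw [v_minus hQ hd hd0 hk1 hk0 hkn, hA, hA2, hB1, hBk _ hk0, add_sub_assoc _ _ (B p Q (m + 2 - _)),
          hW, corr1 hd hd0 hk1 ho, ← hw, hcr,
          num1 hc0 hc (by omega) hk0 hk (by omega), hW1, if_pos hkW.1, hkW.2,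
          cB hp1 hc0 hc hk1 hk (hW1 ▸ ho)]
        norm_num
      exact ⟨k, hk1, hk0, hkn, by rw [hv], by rw [hv]; norm_num, fun _ => hv⟩
    · have hA2 : A p Q (m + 1 - d * (p - 1)) = 0 := by
        by_cases hdn : d ∣ m + 1
        · obtain ⟨W, hW⟩ := hdn
          have hWw : W = w := by rw [hw, hW, Nat.mul_div_cancel_left _ hd0]
          rw [hW, ← Nat.mul_sub, A_mul hQ hd hd0 (by omega), if_neg]
          intro he
          refine H ⟨⟨W, hW⟩, ?_⟩
          rw [hW, Nat.mul_div_cancel_left _ hd0]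
          obtain ⟨a, ha⟩ := he
          obtain ⟨b, hb⟩ := hke
          exact ⟨a + b, by omega⟩
        · exact A_not hQ hd fun h => hdn ((Nat.dvd_sub_iff_left (by omega) (Dvd.intro _ rfl)).1 h)
      have hv := v_minus hQ hd hd0 hke (by omega) hkn
      rw [hA, hA2, hB1, hBk _ (by omega), ← hw, hcr, num0 hc0 hc hr,
        add_sub_assoc _ _ (B p Q (m + 2 - _))] at hv
      have key : 0 ≤ B p Q ((2 * (d * (p - 1)) - (m + 2)) + ((m + 2) - 2 * (d * (p - 1)))) -
          B p Q (m + 2 - d * (p - 1)) ∧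
        B p Q ((2 * (d * (p - 1)) - (m + 2)) + ((m + 2) - 2 * (d * (p - 1)))) -
          B p Q (m + 2 - d * (p - 1)) ≤ 1 ∧
        (c = 1 → B p Q ((2 * (d * (p - 1)) - (m + 2)) + ((m + 2) - 2 * (d * (p - 1)))) -
          B p Q (m + 2 - d * (p - 1)) = 0) := by
        rcases Nat.lt_or_ge (r + 2) p with h | h
        · refine ctot (r := r) hd hd0 hc0 hc (by omega) (fun W hW => ?_) (by omega)
          have := div_succ hd0 hW
          have hW0 : 0 < W := by
            rcases Nat.eq_zero_or_pos W with rfl | h1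
            · omega
            · exact h1
          omega
        · rw [corr0 hd hd0 (by omega) hke (fun W h4 h5 => H2 ⟨⟨W, h4, h5⟩, by omega⟩)]
          exact ⟨le_rfl, by norm_num, fun _ => rfl⟩
      refine ⟨p - 1, hke, by omega, hkn, by rw [hv]; omega, by rw [hv]; omega, fun h => ?_⟩
      rw [hv, key.2.2 (hcw h)]
      norm_num

/-- Minus type, `d = 1`. -/
theorem exists_minus₁ (hQ : 2 ≤ Q) (hd : orderOf (Q : ZMod p) = 2 * 1) {m w : ℕ}
    (hw : w = if Even (m + 1) then m else m + 1)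
    (h1 : p ≤ w) (h2 : w < p ^ 2) (h3 : ¬ p ∣ w + 1) (h4 : ¬ (p = 3 ∧ m = 3)) :
    ∃ k, Even k ∧ 0 < k ∧ 1 * k ≤ m ∧
      1 ≤ padicValRat p (ff (Q : ℚ) ((Q : ℚ) ^ 2) m (1 * k)) ∧
      padicValRat p (ff (Q : ℚ) ((Q : ℚ) ^ 2) m (1 * k)) ≤ 2 ∧
      (w < 2 * p → padicValRat p (ff (Q : ℚ) ((Q : ℚ) ^ 2) m (1 * k)) = 1) := by
  have hd0 : 0 < 1 := one_pos
  have hp1 := odd_of hd hd0
  have hp2 := hp.out.two_le
  have hp3 : p ≠ 2 := by rintro rfl; exact absurd hp1 (by decide)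
  have hke : Even (p - 1) := hp1.tsub_odd odd_one
  obtain ⟨c, r, hcr, hc0, hc, hr⟩ := digits h1 h2 h3
  have hpc : p * 1 ≤ p * c := Nat.mul_le_mul_left _ hc0
  have hcw : w < 2 * p → c = 1 := by
    intro h
    by_contra hne
    have : p * 2 ≤ p * c := Nat.mul_le_mul_left _ (by omega)
    omega
  have hBk : ∀ k, 0 < k → Even k → B p Q (1 * k - 1) = B p Q 1 + (padicValNat p (k - 1) : ℤ) := by
    intro k hk he
    rw [B_div hd hd0 (u := k - 1) (by omega), if_pos]
    obtain ⟨a, ha⟩ := he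
    exact ⟨a - 1, by omega⟩
  by_cases H : Even (m + 1)
  · rw [if_pos H] at hw
    have hm : m + 1 = p * c + (r + 1) := by omega
    have ho : Odd (m + 2) := H.add_one
    have hA : A p Q (m + 1) = B p Q 1 := by
      have := A_mul hQ hd hd0 (u := m + 1) (by omega)
      rw [one_mul, if_pos H, hm, v_unit (by omega) (by omega)] at this
      rw [hm, this]
      norm_num
    have hA2 : ∀ k, Even k → k ≤ m → A p Q (m + 1 - 1 * k) = B p Q 1 + (padicValNat p (m + 1 - k) : ℤ) := by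
      intro k hk hkm
      have := A_mul hQ hd hd0 (u := m + 1 - k) (by omega)
      rw [one_mul, if_pos (H.tsub hk)] at this
      rw [one_mul, this]
    have main : ∀ k, Even k → 0 < k → k ≤ m →
        padicValRat p (ff (Q : ℚ) ((Q : ℚ) ^ 2) m (1 * k)) =
          ((padicValNat p (m + 1).factorial : ℤ) - (padicValNat p k.factorial : ℤ) -
            (padicValNat p (m + 1 - k).factorial : ℤ)) + (padicValNat p (m + 1 - k) : ℤ) +
            (padicValNat p (k - 1) : ℤ) + ((padicValNat p ((2 * k - (m + 2)) + ((m + 2) - 2 * k)) : ℤ) -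
            (padicValNat p (m + 2 - k) : ℤ)) := by
      intro k hk1 hk0 hkm
      have e := corr1 hd hd0 (W := m + 2) hk1 ho
      rw [if_pos (show k ≤ m + 2 by omega), one_mul (m + 2)] at e
      rw [v_minus hQ hd hd0 hk1 hk0 (by omega), hA, hA2 k hk1 hkm, hBk k hk0 hk1,
        add_sub_assoc _ _ (B p Q (m + 2 - _)), e, Nat.div_one]
      ring
    rcases Nat.lt_or_ge (r + 3) p with hr3 | hr3
    · -- `k = p - 1`
      have hkn : p - 1 ≤ m := by omega
      have hv := main (p - 1) hke (by omega) hkn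
      have h5 := cC (p := p) hc0 (r := r) (by omega)
      rw [add_assoc, ← hm] at h5
      have h6 := cC (p := p) hc0 (r := r + 1) (by omega)
      have e6 : p * c + (r + 1) + 1 = m + 2 := by omega
      rw [e6] at h6
      have h7 := cA hp1 hc0 hc (r := r + 1) (by omega) (by rw [e6]; exact ho)
      rw [e6] at h7
      have h8 : padicValNat p (p - 1 - 1) = 0 := v_lt (by omega) (by omega)
      have h9 := num0 (p := p) hc0 hc (r := r + 1) (by omega)
      rw [← hm] at h9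
      rw [h5, h6, h8, h9] at hv
      refine ⟨p - 1, hke, by omega, by omega, by rw [hv]; omega, by rw [hv]; omega, fun h => ?_⟩
      rw [hv, h7.2 (hcw h)]
      norm_num
    · rcases Nat.lt_or_ge (r + 2) p with hr2 | hr2
      · -- the second choice
        have hr4 : r + 1 = p - 2 := by omega
        have hp5 : 5 ≤ p := by
          by_contra hlt
          have hp4 : p = 3 ∨ p = 4 := by omega
          rcases hp4 with rfl | rfl
          · have hr0 : r = 0 := by omega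
            subst hr0
            obtain ⟨a, ha⟩ := H
            apply h4
            refine ⟨rfl, ?_⟩
            (clear * - hw hc hcr ha; omega)
          · exact absurd hp1 (by decide)
        obtain ⟨k, hk1, hk0, hk⟩ := exists_k hp1
        have hkW := cD hp1 hc0 hk0 hk
        have e6 : p * c + (p - 1) = m + 2 := by omega
        rw [e6] at hkW
        have hB := cB hp1 hc0 hc hk1 hk (by rw [e6]; exact ho)
        rw [e6] at hB
        have hkm : k ≤ m := by (clear * - hpc hp5 hk e6; omega)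
        have u1 : padicValNat p (m + 1 - k) = 0 := by
          obtain ⟨c, rfl⟩ : ∃ e, c = e + 1 := ⟨c - 1, by omega⟩
          rcases hk with hk | hk
          · rw [show m + 1 - k = p * (c + 1) + (p - 2 - k) by (clear * - hr e6 hk; omega), v_unit (by (clear * - hp5 hk; omega)) (by (clear * - hk; omega))]
          · rw [show m + 1 - k = p * c + (p + (p - 2) - k) by rw [mul_add] at hm; (clear * - hr hr4 hkm hm hk; omega),
              v_unit (by (clear * - hp5 hk; omega)) (by (clear * - hr2 hr4 hk; omega))]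
        have u2 : padicValNat p (k - 1) = 0 := by
          rcases hk with hk | hk
          · rw [v_lt (by omega) (by (clear * - hk; omega))]
          · rw [show k - 1 = p * 1 + (k - 1 - p) by (clear * - hp5 hk; (solve | lia | omega)), v_unit (by (clear * - hp5 hk; omega)) (by (clear * - hk; omega))]
        have hv : padicValRat p (ff (Q : ℚ) ((Q : ℚ) ^ 2) m (1 * k)) = 1 := by
          rw [main k hk1 hk0 hkm, u1, u2, hkW.2, hB, hm,
            num1 hc0 hc (by omega) hk0 hk (by omega)]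
          norm_num
        exact ⟨k, hk1, hk0, by omega, by rw [hv], by rw [hv]; norm_num, fun _ => hv⟩
      · have hr4 : r + 1 = p - 1 := by omega
        rw [hr4] at hm
        have hkn : p - 1 ≤ m := by omega
        have e7 : (2 * (p - 1) - (m + 2)) + ((m + 2) - 2 * (p - 1)) = p * (c - 1) + 2 := by
          obtain ⟨c, rfl⟩ : ∃ e, c = e + 1 := ⟨c - 1, by omega⟩
          rw [mul_add] at hm
          rw [Nat.add_sub_cancel]
          (clear * - hr hr4 hm; omega)
        have e8 : m + 2 - (p - 1) = p * c + 1 := by (clear * - hm; omega)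
        have e9 : m + 1 - (p - 1) = p * c := by (clear * - hm; omega)
        have hv : padicValRat p (ff (Q : ℚ) ((Q : ℚ) ^ 2) m (1 * (p - 1))) = 1 := by
          have n2 := num2 (p := p) hc
          rw [← hm] at n2
          rw [main _ hke (by omega) hkn, n2, e7, e8, e9, v_p hc0 hc, v_unit (by omega) (by (clear * - hp3 hr hm; omega)),
            v_unit (by omega) (by omega), show p - 1 - 1 = p - 2 by (clear * - hcr; omega), v_lt (by (clear * - hp3 hr hm; omega)) (by omega)]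
          norm_num
        exact ⟨p - 1, hke, by omega, by omega, by rw [hv], by rw [hv]; norm_num, fun _ => hv⟩
  · rw [if_neg H] at hw
    have hkn : p - 1 ≤ m := by omega
    have hA : A p Q (m + 1) = 0 := by
      have := A_mul hQ hd hd0 (u := m + 1) (by omega)
      rwa [one_mul, if_neg H] at this
    have hA2 : A p Q (m + 1 - 1 * (p - 1)) = 0 := by
      have := A_mul hQ hd hd0 (u := m + 1 - (p - 1)) (by omega)
      rw [one_mul, if_neg] at this
      · rw [one_mul, this]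
      · intro he
        obtain ⟨a, ha⟩ := he
        obtain ⟨b, hb⟩ := hke
        exact H ⟨a + b, by omega⟩
    have hv : padicValRat p (ff (Q : ℚ) ((Q : ℚ) ^ 2) m (1 * (p - 1))) = 1 := by
      rw [v_minus hQ hd hd0 hke (by omega) (by omega), hA, hA2, hBk _ (by omega) hke,
        add_sub_assoc _ _ (B p Q (m + 2 - _)),
        corr0 hd hd0 (by omega) hke (fun W h5 h6 => H (by
          rw [one_mul] at h5
          obtain ⟨a, ha⟩ := h6
          exact ⟨a, by omega⟩)), Nat.div_one, ← hw, hcr, num0 hc0 hc hr,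
        show p - 1 - 1 = p - 2 by omega, v_lt (by omega) (by omega)]
      norm_num
    exact ⟨p - 1, hke, by omega, by omega, by rw [hv], by rw [hv]; norm_num, fun _ => hv⟩

/-- **Orthogonal groups of minus type**, natural dimension `2 (m + 1)`. -/
theorem exists_minus (hQ : 2 ≤ Q) (hd : orderOf (Q : ZMod p) = 2 * d) (hd0 : 0 < d) {m w : ℕ}
    (hw : w = if d ∣ m + 1 ∧ Even ((m + 1) / d) then (m + 1) / d - 1 else (m + 1) / d)
    (h1 : p ≤ w) (h2 : w < p ^ 2) (h3 : ¬ p ∣ w + 1) (h4 : ¬ (p = 3 ∧ d = 1 ∧ m = 3)) :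
    ∃ k, Even k ∧ 0 < k ∧ d * k ≤ m ∧
      1 ≤ padicValRat p (ff (Q : ℚ) ((Q : ℚ) ^ 2) m (d * k)) ∧
      padicValRat p (ff (Q : ℚ) ((Q : ℚ) ^ 2) m (d * k)) ≤ 2 ∧
      (w < 2 * p → padicValRat p (ff (Q : ℚ) ((Q : ℚ) ^ 2) m (d * k)) = 1) := by
  rcases Nat.lt_or_ge d 2 with h | h
  · obtain rfl : d = 1 := by omega
    refine exists_minus₁ hQ hd ?_ h1 h2 h3 (fun h => h4 ⟨h.1, rfl, h.2⟩)
    rw [hw, Nat.div_one]
    simp only [_root_.isUnit_iff_eq_one, _root_.IsUnit.dvd, _root_.true_and, _root_.add_tsub_cancel_right]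
  · exact exists_minus₂ hQ hd h hw h1 h2 h3

end choice

end Cfsg.Agent.H35.HT.Val
end

-- part: H985/HT/Moved
section
prune_inst 0x8000300000000000000000000000004010000
set_option linter.all false
open scoped Cfsg.Agent.FastGrp

/-!
# S4933, part (O): moved characters (helper985, after `tools/plans/S4933_O.md`)

`P` an abelian Sylow `p`-subgroup of `D`, `τ` an automorphism of `D` with `τ P ≤ P`, `f` a generalized character of `P`, constant
on the `D`-classes.  If `f y - f (τ y)` is not divisible by `p`, then `τ` moves a character `ψ` of the principal block of `D`, of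
degree prime to `p` and with `(f, ψ_P) ≠ 0`.
-/

set_option autoImplicit false

open Cfsg
open scoped ComplexConjugate

namespace Cfsg.Agent.H985.HT

open Cfsg.Agent.Blocks Cfsg.Agent.Characters Cfsg.Agent.Characters.Core

universe u

variable {D : Type u} [Group D] {p : ℕ}

/-- the `p`-section of `y` -/
def Sec (p : ℕ) (y : D) : Set D := {x | ∃ z, IsPPart p x z ∧ IsConj y z}

open Classical in
/-- its indicator function -/
noncomputable def si (p : ℕ) (y : D) (x : D) : ℤ := if x ∈ Sec p y then 1 else 0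

theorem mem_Sec_conj {y x g : D} (h : x ∈ Sec p y) : g * x * g⁻¹ ∈ Sec p y := by
  obtain ⟨z, h1, h2⟩ := h
  refine ⟨g * z * g⁻¹, PPart.isPPart_conj h1 g, h2.trans ?_⟩
  exact isConj_iff.2 ⟨g, rfl⟩

theorem si_conj (y x g : D) : si p y (g * x * g⁻¹) = si p y x := by
  have h : g * x * g⁻¹ ∈ Sec p y ↔ x ∈ Sec p y := by
    refine ⟨fun h => ?_, mem_Sec_conj⟩
    have h1 := mem_Sec_conj (g := g⁻¹) h
    rwa [show g⁻¹ * (g * x * g⁻¹) * g⁻¹⁻¹ = x by group] at h1
  unfold si
  by_cases hx : x ∈ Sec p y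
  · rw [if_pos hx, if_pos (h.2 hx)]
  · rw [if_neg hx, if_neg fun h1 => hx (h.1 h1)]

theorem isPPart_map_equiv {x z : D} (τ : D ≃* D) (h : IsPPart p x z) : IsPPart p (τ x) (τ z) := by
  obtain ⟨y, h1, h2, ⟨k, h3⟩, h4⟩ := h
  refine ⟨τ y, by rw [← map_mul, h1], h2.map τ, ⟨k, ?_⟩, ?_⟩
  · rw [← h3]
    exact MulEquiv.orderOf_eq τ z
  · rwa [MulEquiv.orderOf_eq τ y]

theorem mem_Sec_map {y x : D} (τ : D ≃* D) : τ x ∈ Sec p (τ y) ↔ x ∈ Sec p y := by
  constructor
  · rintro ⟨z, h1, h2⟩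
    refine ⟨τ.symm z, ?_, ?_⟩
    · have := isPPart_map_equiv τ.symm h1
      rwa [MulEquiv.symm_apply_apply] at this
    · have := τ.symm.toMonoidHom.map_isConj h2
      simpa using this
  · rintro ⟨z, h1, h2⟩
    refine ⟨τ z, isPPart_map_equiv τ h1, ?_⟩
    exact τ.toMonoidHom.map_isConj h2

theorem si_map (τ : D ≃* D) (y x : D) : si p (τ y) (τ x) = si p y x := by
  unfold si
  by_cases hx : x ∈ Sec p y
  · rw [if_pos hx, if_pos ((mem_Sec_map τ).2 hx)]
  · rw [if_neg hx, if_neg fun h1 => hx ((mem_Sec_map τ).1 h1)]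

variable [Finite D]

theorem mem_Sec_of_pElement [hp : Fact p.Prime] {y x : D} (hx : ∃ k : ℕ, orderOf x = p ^ k) : x ∈ Sec p y ↔ IsConj y x := by
  have h0 : IsPPart p x x := ⟨1, mul_one x, Commute.one_right x, hx, by
    rw [orderOf_one]
    exact fun h => hp.out.one_lt.ne' (Nat.dvd_one.1 h)⟩
  constructor
  · rintro ⟨z, h1, h2⟩
    rwa [PPart.isPPart_unique h0 h1]
  · intro h
    exact ⟨x, h0, h⟩

omit [Finite D] in
/-- the sum over a section is `χ 1` times an algebraic integer -/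
theorem exists_sum_eq [Fintype D] (χ : IrrCharacter D) (y : D) :
    ∃ w : ℂ, IsIntegral ℤ w ∧ ∑ x, (si p y x : ℂ) * (χ : D → ℂ) x = (χ : D → ℂ) 1 * w := by
  obtain ⟨n, ρ, hρ, hχ⟩ := χ.2
  have h1 := CentralCharacter.isIntegral_sum_int ρ (si p y) (fun x g => si_conj y x g)
  refine ⟨_, h1, ?_⟩
  have h2 : (χ : D → ℂ) 1 ≠ 0 := isIrr_apply_one_ne_zero χ.2
  have h3 : (χ : D → ℂ) 1 = (Module.finrank ℂ (Fin n → ℂ) : ℂ) := by
    rw [← hχ]
    exact ρ.char_one
  rw [h3] at h2 ⊢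
  rw [mul_div_cancel₀ _ h2, ← hχ]

/-- outside the principal block the sum over a section is zero -/
theorem sum_eq_zero [hp : Fact p.Prime] [Fintype D] {M : Ideal AlgInt} (hM : IsPModular p M) {χ : IrrCharacter D}
    (hχ : χ ∉ principalBlock M D) (y : D) : ∑ x, (si p y x : ℂ) * (χ : D → ℂ) x = 0 := by
  classical
  have hMp : M.IsPrime := hM.2.1.isPrime
  have hB : IsPBlock M (principalBlock M D) := PrincipalSection.isPBlock_principalBlock
  have h1 := Orthogonality.orthogonal_on_section hM (principalBlock M D)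
    (fun g => S0913.result p M hM _ hB g) ⟨fun _ => 1, Basic.isIrrCharacter_one⟩ χ
    PrincipalSection.one_mem_principalBlock hχ y
  rw [finsum_mem_eq_finite_toFinset_sum _ (Set.toFinite _)] at h1
  have h2 := congrArg conj h1
  rw [map_sum, map_zero] at h2
  rw [← h2]
  have h3 : ∀ x, (si p y x : ℂ) * (χ : D → ℂ) x = if x ∈ Sec p y then (χ : D → ℂ) x else 0 := by
    intro x
    unfold si
    split_ifs <;> simp
  rw [Finset.sum_congr rfl fun x _ => h3 x, ← Finset.sum_filter]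
  refine Finset.sum_congr ?_ fun x _ => ?_
  · ext x
    simp [Sec]
  · simp

/-- the number of elements of `P` conjugate to `y` -/
noncomputable def nn (P : Sylow p D) (y : D) : ℕ := Nat.card {x : ↥(P : Subgroup D) // IsConj y (x : D)}

/-- `P` abelian: that number is prime to `p` -/
theorem not_dvd_nn [hp : Fact p.Prime] (P : Sylow p D) (hab : ∀ x ∈ (P : Subgroup D), ∀ y ∈ (P : Subgroup D), x * y = y * x)
    (y : ↥(P : Subgroup D)) : ¬ p ∣ nn P (y : D) := by
  classical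
  have := Fintype.ofFinite D
  -- `P` acts on the class of `y` by conjugation
  let C : Type u := {x : D // IsConj (y : D) x}
  let act : MulAction ↥(P : Subgroup D) C :=
    { smul := fun g x => ⟨(g : D) * x.1 * (g : D)⁻¹, x.2.trans (isConj_iff.2 ⟨(g : D), rfl⟩)⟩
      one_smul := fun x => by
        apply Subtype.ext
        show ((1 : ↥(P : Subgroup D)) : D) * x.1 * ((1 : ↥(P : Subgroup D)) : D)⁻¹ = x.1
        rw [Subgroup.coe_one, one_mul, inv_one, mul_one]
      mul_smul := fun g h x => by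
        apply Subtype.ext
        show ((g * h : ↥(P : Subgroup D)) : D) * x.1 * ((g * h : ↥(P : Subgroup D)) : D)⁻¹ =
          (g : D) * ((h : D) * x.1 * (h : D)⁻¹) * (g : D)⁻¹
        rw [Subgroup.coe_mul]
        group }
  have hsmul : ∀ (g : ↥(P : Subgroup D)) (x : C), (g • x).1 = (g : D) * x.1 * (g : D)⁻¹ := fun g x => rfl
  have h1 := P.isPGroup'.card_modEq_card_fixedPoints C
  have h2 : Nat.card (MulAction.fixedPoints ↥(P : Subgroup D) C) = nn P (y : D) := by
    refine Nat.card_congr ⟨fun x => ⟨⟨x.1.1, ?_⟩, x.1.2⟩, fun x => ⟨⟨x.1.1, x.2⟩, ?_⟩, fun x => ?_, fun x => ?_⟩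
    · -- a `p`-element centralizing the Sylow subgroup `P`
      have h3 : ∀ g ∈ (P : Subgroup D), g * x.1.1 = x.1.1 * g := by
        intro g hg
        have h4 := congrArg Subtype.val (x.2 ⟨g, hg⟩)
        rw [hsmul] at h4
        calc g * x.1.1 = g * x.1.1 * g⁻¹ * g := by group
          _ = x.1.1 * g := by rw [h4]
      refine RegularCount.mem_sylow_of_mem_centralizer P ?_ ?_
      · rw [Subgroup.mem_centralizer_iff]
        exact h3
      · obtain ⟨k, hk⟩ := (IsPGroup.iff_orderOf.1 P.isPGroup') y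
        obtain ⟨c, hc⟩ := isConj_iff.1 x.1.2
        refine ⟨k, ?_⟩
        rw [← hc, ← hk, ← Subgroup.orderOf_coe y]
        exact MulEquiv.orderOf_eq (MulAut.conj c) (y : D)
    · intro g
      apply Subtype.ext
      rw [hsmul]
      have h4 := hab g g.2 x.1 x.1.2
      show (g : D) * (x.1 : D) * (g : D)⁻¹ = x.1
      rw [h4, mul_inv_cancel_right]
    · rfl
    · rfl
  have h3 : Nat.card C = (Subgroup.centralizer ({(y : D)} : Set D)).index :=
    (CentralCharacter.index_centralizer_eq_card (y : D)).symm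
  intro h4
  rw [← h2] at h4
  have h5 : p ∣ Nat.card C := (h1.dvd_iff (dvd_refl p)).2 h4
  rw [h3] at h5
  have h6 : (P : Subgroup D) ≤ Subgroup.centralizer ({(y : D)} : Set D) := by
    intro g hg
    rw [Subgroup.mem_centralizer_singleton_iff]
    exact hab g hg y y.2
  exact P.not_dvd_index (h5.trans (Subgroup.index_dvd_of_le h6))

/-- the sum of the induced function over a section -/
theorem sum_ind [hp : Fact p.Prime] [Fintype D] (P : Sylow p D) (f : ↥(P : Subgroup D) → ℂ)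
    (hinv : ∀ x y : ↥(P : Subgroup D), IsConj (x : D) (y : D) → f x = f y) (y : ↥(P : Subgroup D)) :
    ∑ x, (si p (y : D) x : ℂ) * indFun (P : Subgroup D) f x =
      (((P : Subgroup D).index * nn P (y : D) : ℕ) : ℂ) * f y := by
  classical
  have := Fintype.ofFinite ↥(P : Subgroup D)
  have hcl : IsClassFunction D (fun x => (si p (y : D) x : ℂ)) := fun g x => by
    show ((si p (y : D) _ : ℤ) : ℂ) = _
    rw [si_conj]
  have h1 := Brauer.classInner_indFun (P : Subgroup D) inferInstance f _ hcl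
  rw [classInner_def, classInner_def] at h1
  have h2 : ∑ g : D, indFun (P : Subgroup D) f g * conj ((si p (y : D) g : ℤ) : ℂ) =
      ∑ x, (si p (y : D) x : ℂ) * indFun (P : Subgroup D) f x :=
    Finset.sum_congr rfl fun x _ => by rw [map_intCast, mul_comm]
  have h3 : ∑ h : ↥(P : Subgroup D), f h * conj ((si p (y : D) (h : D) : ℤ) : ℂ) = (nn P (y : D) : ℂ) * f y := by
    have h4 : ∀ h : ↥(P : Subgroup D), f h * conj ((si p (y : D) (h : D) : ℤ) : ℂ) =
        if IsConj (y : D) (h : D) then f y else 0 := by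
      intro h
      rw [map_intCast]
      have hpe : ∃ k : ℕ, orderOf (h : D) = p ^ k := by
        obtain ⟨k, hk⟩ := (IsPGroup.iff_orderOf.1 P.isPGroup') h
        exact ⟨k, by rw [Subgroup.orderOf_coe, hk]⟩
      by_cases hc : IsConj (y : D) (h : D)
      · rw [if_pos hc, ← hinv y h hc]
        unfold si
        rw [if_pos ((mem_Sec_of_pElement hpe).2 hc), Int.cast_one, mul_one]
      · rw [if_neg hc]
        unfold si
        rw [if_neg fun h5 => hc ((mem_Sec_of_pElement hpe).1 h5), Int.cast_zero, mul_zero]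
    rw [Finset.sum_congr rfl fun h _ => h4 h, ← Finset.sum_filter, Finset.sum_const, nsmul_eq_mul]
    congr 1
    rw [nn, Nat.card_eq_fintype_card, Fintype.card_subtype]
  rw [h2, h3] at h1
  have h4 : (Nat.card D : ℂ) ≠ 0 := Nat.cast_ne_zero.2 Nat.card_pos.ne'
  have h5 : (Nat.card ↥(P : Subgroup D) : ℂ) ≠ 0 := Nat.cast_ne_zero.2 Nat.card_pos.ne'
  have h6 : (Nat.card D : ℂ) = (Nat.card ↥(P : Subgroup D) : ℂ) * ((P : Subgroup D).index : ℂ) := by
    rw [← Subgroup.card_mul_index (P : Subgroup D)]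
    push_cast
    ring
  rw [inv_mul_eq_iff_eq_mul₀ h4] at h1
  rw [h1, h6]
  push_cast
  field_simp

theorem nn_map (P : Sylow p D) (τ : D ≃* D) (hτ : ∀ x ∈ (P : Subgroup D), τ x ∈ (P : Subgroup D))
    (y : D) : nn P (τ y) = nn P y := by
  classical
  -- `τ` permutes `P`
  have hsurj : ∀ x ∈ (P : Subgroup D), ∃ z ∈ (P : Subgroup D), τ z = x := by
    intro x hx
    have h1 : ((P : Subgroup D).map τ.toMonoidHom) = (P : Subgroup D) := by
      refine Subgroup.eq_of_le_of_card_ge ?_ ?_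
      · rintro _ ⟨z, hz, rfl⟩
        exact hτ z hz
      · rw [Subgroup.card_map_of_injective τ.injective]
    rw [← h1] at hx
    obtain ⟨z, hz, hzx⟩ := hx
    exact ⟨z, hz, hzx⟩
  refine (Nat.card_congr (Equiv.ofBijective
    (fun x : {x : ↥(P : Subgroup D) // IsConj y (x : D)} =>
      (⟨⟨τ x.1, hτ x.1 x.1.2⟩, τ.toMonoidHom.map_isConj x.2⟩ : {x : ↥(P : Subgroup D) // IsConj (τ y) (x : D)}))
    ⟨?_, ?_⟩)).symm
  · intro a b hab
    have h1 := congrArg (fun t => (t.1 : D)) hab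
    exact Subtype.ext (Subtype.ext (τ.injective h1))
  · rintro ⟨⟨x, hx⟩, hxc⟩
    obtain ⟨z, hz, hzx⟩ := hsurj x hx
    refine ⟨⟨⟨z, hz⟩, ?_⟩, ?_⟩
    · have h2 := τ.symm.toMonoidHom.map_isConj hxc
      have h3 : τ.symm x = z := by rw [← hzx, MulEquiv.symm_apply_apply]
      simpa [h3] using h2
    · apply Subtype.ext
      apply Subtype.ext
      exact hzx

theorem isIntegral_gen {P : Subgroup D} {f : ↥P → ℂ} (hf : IsGeneralizedCharacter ↥P f) (y : ↥P) : IsIntegral ℤ (f y) := by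
  obtain ⟨a, b, ⟨n, ρ, rfl⟩, ⟨m, σ, rfl⟩, rfl⟩ := hf
  exact (AverageRoots.isIntegral_character ρ y).sub (AverageRoots.isIntegral_character σ y)

/-- **Theorem A**: a moved character -/
theorem exists_moved [hp : Fact p.Prime] {M : Ideal AlgInt} (hM : IsPModular p M) (P : Sylow p D)
    (hab : ∀ x ∈ (P : Subgroup D), ∀ y ∈ (P : Subgroup D), x * y = y * x) (τ : D ≃* D)
    (hτ : ∀ x ∈ (P : Subgroup D), τ x ∈ (P : Subgroup D)) [Fintype ↥(P : Subgroup D)] (f : ↥(P : Subgroup D) → ℂ)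
    (hf : IsGeneralizedCharacter ↥(P : Subgroup D) f)
    (hinv : ∀ x y : ↥(P : Subgroup D), IsConj (x : D) (y : D) → f x = f y) (y : ↥(P : Subgroup D))
    (hne : ¬ ∃ z : ℂ, IsIntegral ℤ z ∧ f y - f ⟨τ y, hτ y y.2⟩ = (p : ℂ) * z) :
    ∃ ψ : IrrCharacter D, ψ ∈ principalBlock M D ∧ ¬ p ∣ charDegree (ψ : D → ℂ) ∧
      classInner f (fun x : ↥(P : Subgroup D) => (ψ : D → ℂ) x) ≠ 0 ∧
      (fun x => (ψ : D → ℂ) (τ x)) ≠ (ψ : D → ℂ) := by
  classical
  have := Fintype.ofFinite D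
  have : Finite (IrrCharacter D) := finite_irr
  have := Fintype.ofFinite (IrrCharacter D)
  by_contra hcon
  push Not at hcon
  apply hne
  set y' : ↥(P : Subgroup D) := ⟨τ y, hτ y y.2⟩ with hy'
  -- expansion of the induced function
  have hcl : IsClassFunction D (indFun (P : Subgroup D) f) := Brauer.indFun_isClassFunction _ _
  have hc : ∀ ψ : IrrCharacter D, classInner (indFun (P : Subgroup D) f) (ψ : D → ℂ) =
      classInner f (fun x : ↥(P : Subgroup D) => (ψ : D → ℂ) x) := fun ψ =>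
    Brauer.classInner_indFun (P : Subgroup D) inferInstance f _ (isIrr_isClassFunction ψ.2)
  have hexp : ∀ x, indFun (P : Subgroup D) f x = ∑ ψ : IrrCharacter D,
      classInner f (fun x : ↥(P : Subgroup D) => (ψ : D → ℂ) x) * (ψ : D → ℂ) x := by
    intro x
    have h1 := congrFun (classFunction_eq_sum hcl) x
    rw [h1, Finset.sum_apply]
    refine Finset.sum_congr rfl fun ψ _ => ?_
    rw [Pi.smul_apply, smul_eq_mul, hc]
  have hint : ∀ ψ : IrrCharacter D, ∃ n : ℤ, classInner f (fun x : ↥(P : Subgroup D) => (ψ : D → ℂ) x) = n := by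
    intro ψ
    obtain ⟨a, b, ha, hb, rfl⟩ := hf
    have h1 : IsCharacter ↥(P : Subgroup D) (fun x : ↥(P : Subgroup D) => (ψ : D → ℂ) x) :=
      isCharacter_comp (P : Subgroup D).subtype (isIrr_isCharacter ψ.2)
    obtain ⟨n, hn⟩ := classInner_isNat ha h1
    obtain ⟨m, hm⟩ := classInner_isNat hb h1
    refine ⟨(n : ℤ) - m, ?_⟩
    rw [classInner_sub_left, hn, hm]
    push_cast
    ring
  -- the sums over the sections
  set U : IrrCharacter D → D → ℂ := fun ψ z => ∑ x, (si p z x : ℂ) * (ψ : D → ℂ) x with hU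
  have hsum : ∀ z : ↥(P : Subgroup D), (((P : Subgroup D).index * nn P (z : D) : ℕ) : ℂ) * f z =
      ∑ ψ : IrrCharacter D, classInner f (fun x : ↥(P : Subgroup D) => (ψ : D → ℂ) x) * U ψ z := by
    intro z
    rw [← sum_ind P f hinv z]
    simp only [hU, hexp, Finset.mul_sum]
    rw [Finset.sum_comm]
    exact Finset.sum_congr rfl fun ψ _ => Finset.sum_congr rfl fun x _ => by ring
  have hterm : ∀ ψ : IrrCharacter D, ∃ w : ℂ, IsIntegral ℤ w ∧
      classInner f (fun x : ↥(P : Subgroup D) => (ψ : D → ℂ) x) * (U ψ y - U ψ y') = (p : ℂ) * w := by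
    intro ψ
    by_cases h0 : classInner f (fun x : ↥(P : Subgroup D) => (ψ : D → ℂ) x) = 0
    · exact ⟨0, isIntegral_zero, by rw [h0, zero_mul, mul_zero]⟩
    by_cases hB : ψ ∈ principalBlock M D
    · by_cases hd : p ∣ charDegree (ψ : D → ℂ)
      · obtain ⟨n, hn⟩ := hint ψ
        obtain ⟨w, hw, h1⟩ := exists_sum_eq (p := p) ψ (y : D)
        obtain ⟨w', hw', h1'⟩ := exists_sum_eq (p := p) ψ (y' : D)
        obtain ⟨d, hd⟩ := hd
        refine ⟨(n : ℂ) * (d : ℂ) * (w - w'), ?_, ?_⟩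
        · exact ((isIntegral_algebraMap (x := n)).mul (isIntegral_algebraMap (x := (d : ℤ)))).mul (hw.sub hw')
        · rw [hn]
          show (n : ℂ) * ((∑ x, (si p (y : D) x : ℂ) * (ψ : D → ℂ) x) - ∑ x, (si p (y' : D) x : ℂ) * (ψ : D → ℂ) x) = _
          rw [h1, h1', H145.BR.charDegree_cast' ψ, hd]
          push_cast
          ring
      · refine ⟨0, isIntegral_zero, ?_⟩
        have h2 := hcon ψ hB hd h0
        have h3 : U ψ y' = U ψ y := by
          show ∑ x, (si p (y' : D) x : ℂ) * (ψ : D → ℂ) x = ∑ x, (si p (y : D) x : ℂ) * (ψ : D → ℂ) x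
          rw [← Equiv.sum_comp τ.toEquiv]
          refine Finset.sum_congr rfl fun x _ => ?_
          have h4 : (ψ : D → ℂ) (τ x) = (ψ : D → ℂ) x := congrFun h2 x
          show ((si p (τ (y : D)) (τ x) : ℤ) : ℂ) * (ψ : D → ℂ) (τ x) = _
          rw [h4, si_map]
        rw [h3, sub_self, mul_zero, mul_zero]
    · refine ⟨0, isIntegral_zero, ?_⟩
      have h1 : ∀ z : D, U ψ z = 0 := fun z => sum_eq_zero hM hB z
      rw [h1, h1, sub_zero, mul_zero, mul_zero]
  choose w hw1 hw2 using hterm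
  have hnn : nn P (y' : D) = nn P (y : D) := nn_map P τ hτ y
  set N := (P : Subgroup D).index * nn P (y : D) with hN
  have hNp : ¬ p ∣ N := by
    rw [hN, hp.out.dvd_mul]
    rintro (h | h)
    · exact P.not_dvd_index h
    · exact not_dvd_nn P hab y h
  have hkey : (N : ℂ) * (f y - f y') = (p : ℂ) * ∑ ψ, w ψ := by
    have h1 := hsum y
    have h2 := hsum y'
    rw [hnn] at h2
    rw [mul_sub, h1, h2, ← Finset.sum_sub_distrib, Finset.mul_sum]
    refine Finset.sum_congr rfl fun ψ _ => ?_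
    rw [← mul_sub, hw2]
  obtain ⟨u, v, huv⟩ : ∃ u v : ℤ, u * N + v * p = 1 := by
    have h1 : IsCoprime (N : ℤ) (p : ℤ) := Nat.isCoprime_iff_coprime.2 (((Nat.Prime.coprime_iff_not_dvd hp.out).2 hNp).symm)
    obtain ⟨u, v, h⟩ := h1
    exact ⟨u, v, h⟩
  refine ⟨(u : ℂ) * ∑ ψ, w ψ + (v : ℂ) * (f y - f y'), ?_, ?_⟩
  · refine ((isIntegral_algebraMap (x := u)).mul (IsIntegral.sum _ fun ψ _ => hw1 ψ)).add
      ((isIntegral_algebraMap (x := v)).mul ((isIntegral_gen hf _).sub (isIntegral_gen hf _)))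
  · have h1 : ((u * N + v * p : ℤ) : ℂ) = 1 := by rw [huv]; norm_num
    push_cast at h1
    calc f y - f y' = ((u : ℂ) * N + v * p) * (f y - f y') := by rw [h1, one_mul]
      _ = (u : ℂ) * ((N : ℂ) * (f y - f y')) + v * p * (f y - f y') := by ring
      _ = _ := by rw [hkey]; ring

end Cfsg.Agent.H985.HT

private theorem dce_43f1861d43b3 : _root_.True := by
  try have : _root_.True := by simp only [_root_.Cfsg.Agent.H985.HT.nn.eq_1]
  try have : _root_.True := by simp only [_root_.Cfsg.Agent.H985.HT.Sec.eq_1]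
  exact _root_.True.intro
end

-- part: H709/HT/IPTwo
section
prune_inst 0x8000300000000000000000000000004010000
set_option linter.all false
open scoped Cfsg.Agent.FastGrp

/-!
# S4933: 2-groups with two character degrees `1, 2^a`, `a ≥ 2` (helper709; proof of helper283)

`ip_two` : a 2-group all of whose irreducible characters have degree `1` or `2^a`, `2 ≤ a`, has class at most 2.
-/

set_option autoImplicit false
set_option linter.unusedSectionVars false
set_option linter.unusedVariables false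

namespace Cfsg.Agent.H709.HT

open Cfsg Cfsg.Agent.Characters.Core Cfsg.Agent.H686.CharKit Cfsg.Agent.OddOrderCharacters.IndRes
  Cfsg.Agent.OddOrderCharacters.NormalInduced Cfsg.Agent.OddOrderCharacters.PF9.CliffGen
open Cfsg.Agent.OddOrderCharacters (PF4Type.exists_irr_constituent)
open scoped commutatorElement

universe u

/-- The degrees are `1` and `d`. -/
def Cd (P : Type u) [Group P] (d : ℕ) : Prop :=
  ∀ χ : IrrCharacter P, charDegree (χ : P → ℂ) = 1 ∨ charDegree (χ : P → ℂ) = d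

theorem Cd.quotient {P : Type u} [Group P] [Finite P] {d : ℕ} (h : Cd P d) (N : Subgroup P) [N.Normal] :
    Cd (P ⧸ N) d := by
  intro χ
  have h1 := charDegree_irr (infl N χ)
  have h2 := charDegree_irr χ
  rw [infl_apply] at h1
  have h3 : ((1 : P) : P ⧸ N) = 1 := rfl
  rw [h3, ← h2] at h1
  have h4 : charDegree (infl N χ : P → ℂ) = charDegree (χ : P ⧸ N → ℂ) := by exact_mod_cast h1
  rw [← h4]
  exact h _

section base

variable {P : Type u} [Group P]

theorem normal_of_le {A : Subgroup P} (hA : commutator P ≤ A) : A.Normal := by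
  refine ⟨fun a ha g => ?_⟩
  have h1 : ⁅g, a⁆ ∈ A := hA (Subgroup.commutator_mem_commutator (Subgroup.mem_top g) (Subgroup.mem_top a))
  have h2 : g * a * g⁻¹ = ⁅g, a⁆ * a := by rw [commutatorElement_def]; group
  rw [h2]
  exact A.mul_mem h1 ha

theorem le_index [Finite P] {d : ℕ} (h : Cd P d) (A : Subgroup P) (hA : commutator P ≤ A)
    (hne : ⁅A, A⁆ ≠ commutator P) : d ≤ A.index := by
  classical
  have := Fintype.ofFinite P
  have hN : A.Normal := normal_of_le hA
  have hN2 : (⁅A, A⁆ : Subgroup P).Normal := Subgroup.commutator_normal A A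
  have hle : ⁅A, A⁆ ≤ commutator P := by
    rw [commutator_def]
    exact Subgroup.commutator_mono le_top le_top
  obtain ⟨g, hg, hg'⟩ : ∃ g ∈ commutator P, g ∉ (⁅A, A⁆ : Subgroup P) := by
    by_contra hc
    push Not at hc
    exact hne (le_antisymm hle hc)
  by_contra hd
  apply hg'
  refine mem_of_forall_chKer _ fun χ hχ => ?_
  obtain ⟨k, hk, hk'⟩ := degree_le_index A χ.2 (fun y hy => mem_chKer.1 (hχ hy))
  have h1 : charDegree (χ : P → ℂ) = k := by
    have := charDegree_irr χ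
    rw [hk] at this
    exact_mod_cast this
  rcases h χ with h2 | h2
  · have h3 : (χ : P → ℂ) 1 = 1 := by rw [← charDegree_irr, h2, Nat.cast_one]
    obtain ⟨f, hf⟩ := Characters.Linear.exists_hom_of_isIrrCharacter χ.2 h3
    have h4 : commutator P ≤ chKer χ := by
      rw [commutator_def, Subgroup.commutator_le]
      intro a _ b _
      rw [mem_chKer, hf]
      simp only [map_one]
      have : f ⁅a, b⁆ = 1 := by
        rw [map_commutatorElement]
        exact commutatorElement_eq_one_iff_mul_comm.2 (mul_comm _ _)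
      rw [this]
    exact h4 hg
  · exfalso
    apply hd
    rw [← h2, h1]
    exact hk'

/-- the constituents on the derived subgroup, if it is abelian -/
theorem exists_lin [Finite P] [Fintype ↥(commutator P)] (hab : ∀ m ∈ commutator P, ∀ n ∈ commutator P, m * n = n * m)
    {T : Subgroup P} [Fintype ↥T] (hT : T = Subgroup.centralizer (commutator P : Set P)) (hDT : commutator P ≤ T)
    {ψ : T → ℂ} (hψ : IsIrrCharacter T ψ) :
    ∃ f : ↥(commutator P) →* ℂˣ, classInner (resTo hDT ψ) (fun n => (f n : ℂ)) ≠ 0 ∧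
      ∀ n : ↥(commutator P), ψ ⟨n, hDT n.2⟩ = ψ 1 * f n := by
  classical
  have := Fintype.ofFinite P
  have h0 : resTo hDT ψ ≠ 0 := by
    intro h
    exact isIrr_apply_one_ne_zero hψ (congrFun h 1)
  obtain ⟨θ, hθ, h1⟩ := PF4Type.exists_irr_constituent (isCharacter_resTo hDT (isIrr_isCharacter hψ)) h0
  obtain ⟨f, rfl⟩ := exists_hom_of_ker hθ (by
    intro y hy
    have h2 : commutator ↥(commutator P) = ⊥ := by
      rw [commutator_def ↥(commutator P), eq_bot_iff, Subgroup.commutator_le]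
      intro a _ b _
      rw [Subgroup.mem_bot, commutatorElement_eq_one_iff_mul_comm]
      exact Subtype.ext (hab a a.2 b b.2)
    rw [h2, Subgroup.mem_bot] at hy
    rw [hy])
  refine ⟨f, h1, fun n => ?_⟩
  refine resTo_linear (N := commutator P) (T := T) (lam := f) (fun g hg => ?_) hDT hψ h1 n
  funext n
  rw [conjFn_apply]
  congr 2
  apply Subtype.ext
  rw [hT, Subgroup.mem_centralizer_iff] at hg
  have h3 := hg n n.2
  show g * n * g⁻¹ = n
  rw [← h3, mul_inv_cancel_right]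

theorem cliff [Finite P] {d : ℕ} (h : Cd P d) (hd : 1 < d)
    (hab : ∀ m ∈ commutator P, ∀ n ∈ commutator P, m * n = n * m) {z : P} (hzD : z ∈ commutator P) (hz1 : z ≠ 1)
    (hc : ∀ n ∈ commutator P, ∀ x : P, x * n * x⁻¹ = n ∨ x * n * x⁻¹ = z * n)
    {T : Subgroup P} (hT : T = Subgroup.centralizer (commutator P : Set P)) (hDT : commutator P ≤ T)
    (hle : d ≤ T.index) {ψ : T → ℂ} (hψ : IsIrrCharacter T ψ) (hz : ψ ⟨z, hDT hzD⟩ ≠ ψ 1) : ψ 1 = 1 ∧ T.index = d := by
  classical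
  have := Fintype.ofFinite P
  have := Fintype.ofFinite ↥T
  have := Fintype.ofFinite ↥(commutator P)
  obtain ⟨f, h1, h2⟩ := exists_lin hab hT hDT hψ
  have hfz : (f ⟨z, hzD⟩ : ℂ) ≠ 1 := by
    intro h3
    apply hz
    have h4 := h2 ⟨z, hzD⟩
    rw [h3, mul_one] at h4
    exact h4
  have h3 : ∀ g, g ∈ T ↔ conjFn (commutator P) (fun n => (f n : ℂ)) g = fun n => (f n : ℂ) := by
    intro g
    constructor
    · intro hg
      funext n
      rw [conjFn_apply]
      congr 2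
      apply Subtype.ext
      rw [hT, Subgroup.mem_centralizer_iff] at hg
      have h3 := hg n n.2
      show g * n * g⁻¹ = n
      rw [← h3, mul_inv_cancel_right]
    · intro hg
      rw [hT, Subgroup.mem_centralizer_iff]
      intro n hn
      rcases hc n hn g with h4 | h4
      · rw [mul_inv_eq_iff_eq_mul] at h4
        exact h4.symm
      · exfalso
        have h5 := congrFun hg ⟨n, hn⟩
        rw [conjFn_apply] at h5
        have h6 : (⟨g * (⟨n, hn⟩ : ↥(commutator P)) * g⁻¹, Subgroup.Normal.conj_mem inferInstance n hn g⟩ :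
            ↥(commutator P)) = ⟨z, hzD⟩ * ⟨n, hn⟩ := Subtype.ext h4
        rw [h6, map_mul, Units.val_mul] at h5
        apply hfz
        exact mul_right_cancel₀ (Units.ne_zero _) (h5.trans (one_mul _).symm)
  have h4 := irr_ind (Characters.Linear.isIrrCharacter_hom f) h3 hDT hψ h1
  obtain ⟨k, hk0, hk⟩ := isIrr_apply_one hψ
  have h5 : (charDegree (indFun T ψ) : ℂ) = T.index * k := by
    have := charDegree_irr ⟨_, h4⟩
    rw [this]
    show indFun T ψ 1 = _
    rw [indFun_apply_one, hk]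
  have h6 : charDegree (indFun T ψ) = T.index * k := by exact_mod_cast h5
  have h7 := h ⟨_, h4⟩
  change charDegree (indFun T ψ) = 1 ∨ charDegree (indFun T ψ) = d at h7
  rw [h6] at h7
  have hk1 : 1 ≤ k := by
    rcases Nat.eq_zero_or_pos k with h8 | h8
    · exfalso
      rw [h8, Nat.cast_zero] at hk
      exact isIrr_apply_one_ne_zero hψ hk
    · exact h8
  have h8 : T.index ≤ T.index * k := Nat.le_mul_of_pos_right _ hk1
  rcases h7 with h7 | h7
  · omega
  · have h9 : T.index = d := by omega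
    refine ⟨?_, h9⟩
    have h10 : k = 1 := by
      rw [h9] at h7
      exact Nat.eq_of_mul_eq_mul_left (by omega : 0 < d) (by rw [h7, mul_one])
    rw [hk, h10, Nat.cast_one]

/-- The elementary data. -/
structure Dat (z : P) : Prop where
  mem : z ∈ commutator P
  ne : z ≠ 1
  cen : ∀ x : P, x * z = z * x
  sq : z * z = 1
  conj : ∀ n ∈ commutator P, ∀ x : P, x * n * x⁻¹ = n ∨ x * n * x⁻¹ = z * n

/-- `x ↦ [x, n]`, a homomorphism into the centre. -/
noncomputable def Dat.hom {z : P} (h : Dat z) {n : P} (hn : n ∈ commutator P) : P →* Subgroup.center P where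
  toFun x := ⟨x * n * x⁻¹ * n⁻¹, by
    rw [Subgroup.mem_center_iff]
    intro g
    rcases h.conj n hn x with hx | hx
    · rw [hx, mul_inv_cancel, mul_one, one_mul]
    · rw [hx, mul_inv_cancel_right, h.cen]⟩
  map_one' := by
    apply Subtype.ext
    show 1 * n * 1⁻¹ * n⁻¹ = 1
    group
  map_mul' x y := by
    apply Subtype.ext
    show x * y * n * (x * y)⁻¹ * n⁻¹ = x * n * x⁻¹ * n⁻¹ * (y * n * y⁻¹ * n⁻¹)
    have h1 : ∀ g : P, g * (y * n * y⁻¹ * n⁻¹) = (y * n * y⁻¹ * n⁻¹) * g := by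
      intro g
      rcases h.conj n hn y with hy | hy
      · rw [hy, mul_inv_cancel, mul_one, one_mul]
      · rw [hy, mul_inv_cancel_right, h.cen]
    have h2 : x * y * n * (x * y)⁻¹ * n⁻¹ = x * (y * n * y⁻¹ * n⁻¹) * (n * x⁻¹ * n⁻¹) := by group
    have h3 : x * n * x⁻¹ * n⁻¹ * (y * n * y⁻¹ * n⁻¹) = x * ((n * x⁻¹ * n⁻¹) * (y * n * y⁻¹ * n⁻¹)) := by group
    rw [h2, h3, h1 (n * x⁻¹ * n⁻¹), mul_assoc x]

theorem Dat.abel {z : P} (h : Dat z) : ∀ m ∈ commutator P, ∀ n ∈ commutator P, m * n = n * m := by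
  intro m hm n hn
  have h1 : commutator P ≤ (h.hom hn).ker := by
    rw [commutator_def, Subgroup.commutator_le]
    intro x _ y _
    rw [MonoidHom.mem_ker, map_commutatorElement, commutatorElement_eq_one_iff_mul_comm]
    exact Subtype.ext ((Subgroup.mem_center_iff.1 (h.hom hn x).2 _).symm)
  have h2 : m * n * m⁻¹ * n⁻¹ = 1 := congrArg Subtype.val (MonoidHom.mem_ker.1 (h1 hm))
  rw [mul_inv_eq_one, mul_inv_eq_iff_eq_mul] at h2
  exact h2

theorem core [Finite P] {a : ℕ} (ha : 2 ≤ a) (hcd : Cd P (2 ^ a)) {z : P} (h : Dat z) {n₀ x₀ : P}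
    (hn₀ : n₀ ∈ commutator P) (hx₀ : x₀ * n₀ * x₀⁻¹ ≠ n₀) : False := by
  classical
  have hab := h.abel
  have h4 : 4 ≤ 2 ^ a := le_trans (by norm_num) (Nat.pow_le_pow_right (by norm_num) ha)
  obtain ⟨C, hC⟩ : ∃ C : Subgroup P, C = Subgroup.centralizer (commutator P : Set P) := ⟨_, rfl⟩
  have hCmem : ∀ g, g ∈ C ↔ ∀ n ∈ commutator P, g * n * g⁻¹ = n := by
    intro g
    rw [hC, Subgroup.mem_centralizer_iff]
    refine forall₂_congr fun n _ => ?_
    rw [mul_inv_eq_iff_eq_mul]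
    exact eq_comm
  have hDC : commutator P ≤ C := by
    intro g hg
    rw [hCmem]
    intro n hn
    rw [hab g hg n hn, mul_inv_cancel_right]
  have hCn : C.Normal := normal_of_le hDC
  -- `[C, C] ≠ D`
  have hCC : ⁅C, C⁆ ≠ commutator P := by
    intro he
    have h1 : ⁅⁅C, (⊤ : Subgroup P)⁆, C⁆ = ⊥ := by
      rw [Subgroup.commutator_eq_bot_iff_le_centralizer, Subgroup.commutator_le]
      intro c _ g _
      rw [Subgroup.mem_centralizer_iff]
      intro y hy
      have h2 : ⁅c, g⁆ ∈ commutator P :=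
        Subgroup.commutator_mem_commutator (Subgroup.mem_top c) (Subgroup.mem_top g)
      have h3 := (hCmem y).1 hy _ h2
      rw [mul_inv_eq_iff_eq_mul] at h3
      exact h3
    have h1' : ⁅⁅(⊤ : Subgroup P), C⁆, C⁆ = ⊥ := by
      rw [Subgroup.commutator_comm (⊤ : Subgroup P) C]
      exact h1
    have h2 := Subgroup.commutator_commutator_eq_bot_of_rotate h1 h1'
    rw [he, Subgroup.commutator_eq_bot_iff_le_centralizer] at h2
    have h3 := h2 hn₀
    rw [Subgroup.mem_centralizer_iff] at h3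
    apply hx₀
    rw [h3 x₀ (Subgroup.mem_top x₀), mul_inv_cancel_right]
  have hle : 2 ^ a ≤ C.index := le_index hcd C hDC hCC
  have hcl : ∀ {ψ : C → ℂ}, IsIrrCharacter C ψ → ψ ⟨z, hDC h.mem⟩ ≠ ψ 1 → ψ 1 = 1 ∧ C.index = 2 ^ a :=
    fun {ψ} hψ hz => cliff hcd (by omega) hab h.mem h.ne h.conj hC hDC hle hψ hz
  -- a linear character of `C` not trivial on `z`
  obtain ⟨ψ₀, hψ₀⟩ : ∃ ψ : IrrCharacter C, (ψ : C → ℂ) ⟨z, hDC h.mem⟩ ≠ (ψ : C → ℂ) 1 := by
    by_contra hc
    push Not at hc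
    have h1 : (⟨z, hDC h.mem⟩ : C) ∈ (⊥ : Subgroup C) :=
      mem_of_forall_chKer _ fun χ _ => mem_chKer.2 (hc χ)
    rw [Subgroup.mem_bot] at h1
    exact h.ne (congrArg Subtype.val h1)
  obtain ⟨h01, hidx⟩ := hcl ψ₀.2 hψ₀
  obtain ⟨l, hl⟩ := Characters.Linear.exists_hom_of_isIrrCharacter ψ₀.2 h01
  have hlz : (l ⟨z, hDC h.mem⟩ : ℂ) ≠ 1 := by
    intro h1
    apply hψ₀
    rw [hl]
    show (l ⟨z, hDC h.mem⟩ : ℂ) = (l 1 : ℂ)
    rw [h1, map_one, Units.val_one]
  -- all characters of `C` are linear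
  have hlin : ∀ ψ : IrrCharacter C, (ψ : C → ℂ) 1 = 1 := by
    intro ψ
    have := Fintype.ofFinite C
    by_cases hz : (ψ : C → ℂ) ⟨z, hDC h.mem⟩ = (ψ : C → ℂ) 1
    · have h1 := Cfsg.Agent.CharactersDeep.AbelianQuotient.isIrr_linear_mul l ψ.2
      have h2 := (hcl h1 (by
        simp only [Pi.mul_apply, map_one, Units.val_one, one_mul]
        rw [hz]
        intro h3
        apply hlz
        exact mul_right_cancel₀ (isIrr_apply_one_ne_zero ψ.2) (h3.trans (one_mul _).symm))).1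
      simpa using h2
    · exact (hcl ψ.2 hz).1
  -- `C` is abelian
  have hCab : ∀ x ∈ C, ∀ y ∈ C, x * y = y * x := by
    intro x hx y hy
    have h1 : ⁅(⟨x, hx⟩ : C), (⟨y, hy⟩ : C)⁆ ∈ (⊥ : Subgroup C) := by
      refine mem_of_forall_chKer _ fun χ _ => ?_
      obtain ⟨f, hf⟩ := Characters.Linear.exists_hom_of_isIrrCharacter χ.2 (hlin χ)
      rw [mem_chKer, hf]
      show (f ⁅(⟨x, hx⟩ : C), (⟨y, hy⟩ : C)⁆ : ℂ) = (f 1 : ℂ)
      rw [map_commutatorElement, map_one, commutatorElement_eq_one_iff_mul_comm.2 (mul_comm _ _)]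
    rw [Subgroup.mem_bot, commutatorElement_eq_one_iff_mul_comm] at h1
    exact congrArg Subtype.val h1
  -- squares are in `C`
  have hsq : ∀ g : P, g * g ∈ C := by
    intro g
    rw [hCmem]
    intro n hn
    have h1 : g * g * n * (g * g)⁻¹ = g * (g * n * g⁻¹) * g⁻¹ := by group
    rw [h1]
    rcases h.conj n hn g with h2 | h2
    · rw [h2, h2]
    · rw [h2]
      have h3 : g * (z * n) * g⁻¹ = z * (g * n * g⁻¹) := by rw [← mul_assoc, h.cen g]; group
      rw [h3, h2, ← mul_assoc, h.sq, one_mul]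
  have hcj : ∀ g : P, ∀ c ∈ C, g * c * g⁻¹ ∈ C := fun g c hc => hCn.conj_mem c hc g
  -- elements outside `C` invert `D`, if ...
  have hinv : ∀ g : P, g ∉ C → (∀ n ∈ commutator P, g * n * g⁻¹ = n⁻¹) ∧ ∃ k : P, k ∉ C ∧ k * g⁻¹ ∉ C := by
    intro g hg
    let A : Subgroup P :=
      { carrier := {x | x ∈ C ∨ x * g⁻¹ ∈ C}
        one_mem' := Or.inl C.one_mem
        mul_mem' := by
          intro x y hx hy
          rcases hx with hx | hx <;> rcases hy with hy | hy
          · exact Or.inl (C.mul_mem hx hy)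
          · refine Or.inr ?_
            rw [mul_assoc]
            exact C.mul_mem hx hy
          · refine Or.inr ?_
            have h1 : x * y * g⁻¹ = (x * g⁻¹) * (g * y * g⁻¹) := by group
            rw [h1]
            exact C.mul_mem hx (hcj g y hy)
          · refine Or.inl ?_
            have h1 : x * y = (x * g⁻¹) * (g * (y * g⁻¹) * g⁻¹) * (g * g) := by group
            rw [h1]
            exact C.mul_mem (C.mul_mem hx (hcj g _ hy)) (hsq g)
        inv_mem' := by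
          intro x hx
          rcases hx with hx | hx
          · exact Or.inl (C.inv_mem hx)
          · refine Or.inr ?_
            have h1 : x⁻¹ * g⁻¹ = (g * (x * g⁻¹) * g⁻¹ * (g * g))⁻¹ := by group
            rw [h1]
            exact C.inv_mem (C.mul_mem (hcj g _ hx) (hsq g)) }
    have hAmem : ∀ x, x ∈ A ↔ x ∈ C ∨ x * g⁻¹ ∈ C := fun x => Iff.rfl
    have hCA : C < A := by
      refine lt_of_le_of_ne (fun x hx => Or.inl hx) ?_
      intro he
      apply hg
      rw [he, hAmem]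
      right
      rw [mul_inv_cancel]
      exact C.one_mem
    have hAi : A.index < 2 ^ a := by
      rw [← hidx]
      exact Subgroup.index_strictAnti hCA
    have hAA : ⁅A, A⁆ = commutator P := by
      by_contra hc
      have := le_index hcd A (hDC.trans hCA.le) hc
      omega
    let B : Subgroup P :=
      { carrier := {x | x ∈ C ∧ g * x * g⁻¹ = x⁻¹}
        one_mem' := ⟨C.one_mem, by group⟩
        mul_mem' := by
          rintro x y ⟨hx, hx'⟩ ⟨hy, hy'⟩
          refine ⟨C.mul_mem hx hy, ?_⟩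
          have h1 : g * (x * y) * g⁻¹ = (g * x * g⁻¹) * (g * y * g⁻¹) := by group
          rw [h1, hx', hy', hCab x hx y hy, mul_inv_rev, hCab _ (C.inv_mem hx) _ (C.inv_mem hy), 
            hCab _ (C.inv_mem hy) _ (C.inv_mem hx)]
        inv_mem' := by
          rintro x ⟨hx, hx'⟩
          refine ⟨C.inv_mem hx, ?_⟩
          have h1 : g * x⁻¹ * g⁻¹ = (g * x * g⁻¹)⁻¹ := by group
          rw [h1, hx'] }
    have hB1 : ∀ c ∈ C, c * (g * c * g⁻¹)⁻¹ ∈ B := by
      intro c hc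
      have h1 := hcj g c hc
      refine ⟨C.mul_mem hc (C.inv_mem h1), ?_⟩
      have h2 : g * (c * (g * c * g⁻¹)⁻¹) * g⁻¹ = (g * c * g⁻¹) * ((g * g) * c⁻¹ * (g * g)⁻¹) := by group
      rw [h2, hCab _ (hsq g) _ (C.inv_mem hc), mul_inv_cancel_right, mul_inv_rev, inv_inv]
    have hAB : ⁅A, A⁆ ≤ B := by
      rw [Subgroup.commutator_le]
      -- one in `C`, one outside
      have h1 : ∀ x ∈ C, ∀ y, y * g⁻¹ ∈ C → ⁅x, y⁆ ∈ B := by
        intro x hx y hy
        have h2 : ⁅x, y⁆ = x * ((y * g⁻¹) * (g * x * g⁻¹)⁻¹ * (y * g⁻¹)⁻¹) := by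
          rw [commutatorElement_def]; group
        rw [h2, hCab _ hy _ (C.inv_mem (hcj g x hx)), mul_inv_cancel_right]
        exact hB1 x hx
      intro x hx y hy
      rcases hx with hx | hx <;> rcases hy with hy | hy
      · rw [commutatorElement_eq_one_iff_mul_comm.2 (hCab x hx y hy)]
        exact B.one_mem
      · exact h1 x hx y hy
      · rw [← commutatorElement_inv]
        exact B.inv_mem (h1 y hy x hx)
      · have h2 : ⁅x, y⁆ = (x * g⁻¹) * ((g * (y * g⁻¹) * g⁻¹) * (g * (x * g⁻¹) * g⁻¹)⁻¹ * (y * g⁻¹)⁻¹) := by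
          rw [commutatorElement_def]; group
        have h3 := hcj g _ hx
        have h4 := hcj g _ hy
        have h5 : (x * g⁻¹) * ((g * (y * g⁻¹) * g⁻¹) * (g * (x * g⁻¹) * g⁻¹)⁻¹ * (y * g⁻¹)⁻¹) =
            ((x * g⁻¹) * (g * (x * g⁻¹) * g⁻¹)⁻¹) * ((y * g⁻¹) * (g * (y * g⁻¹) * g⁻¹)⁻¹)⁻¹ := by
          rw [mul_inv_rev (y * g⁻¹), inv_inv, hCab _ h4 _ (C.inv_mem h3)]
          group
        rw [h2, h5]
        exact B.mul_mem (hB1 _ hx) (B.inv_mem (hB1 _ hy))
    refine ⟨fun n hn => ?_, ?_⟩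
    · rw [← hAA] at hn
      exact (hAB hn).2
    · by_contra hc
      push Not at hc
      have h1 : C.index = 2 := by
        rw [Subgroup.index_eq_two_iff]
        refine ⟨g⁻¹, fun b => ?_⟩
        by_cases hb : b ∈ C
        · refine Or.inr ⟨hb, fun hb' => hg ?_⟩
          have := C.mul_mem (C.inv_mem hb) hb'
          rw [inv_mul_cancel_left] at this
          exact inv_mem_iff.1 this
        · exact Or.inl ⟨hc b hb, hb⟩
      omega
  have hx₀C : x₀ ∉ C := fun hc => hx₀ ((hCmem x₀).1 hc n₀ hn₀)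
  obtain ⟨h1, k, hk, hk'⟩ := hinv x₀ hx₀C
  have h2 := (hinv k hk).1 n₀ hn₀
  have h3 := (hinv _ hk').1 n₀ hn₀
  -- `k x₀⁻¹` inverts `n₀`
  have h5 : x₀⁻¹ * n₀ * x₀ = n₀⁻¹ := by
    have h6 := h1 _ ((commutator P).inv_mem hn₀)
    rw [inv_inv] at h6
    calc x₀⁻¹ * n₀ * x₀ = x₀⁻¹ * (x₀ * n₀⁻¹ * x₀⁻¹) * x₀ := by rw [h6]
      _ = n₀⁻¹ := by group
  have h6 : k * x₀⁻¹ * n₀ * (k * x₀⁻¹)⁻¹ = k * (x₀⁻¹ * n₀ * x₀) * k⁻¹ := by group
  have h7 : k * n₀⁻¹ * k⁻¹ = (k * n₀ * k⁻¹)⁻¹ := by group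
  rw [h6, h5, h7, h2, inv_inv] at h3
  apply hx₀
  rw [h1 n₀ hn₀, ← h3]

end base

theorem ip_two_aux {a : ℕ} (ha : 2 ≤ a) : ∀ (m : ℕ) (P : Type u) [Group P] [Finite P], Nat.card P = m → IsPGroup 2 P →
    Cd P (2 ^ a) → ⁅⁅(⊤ : Subgroup P), (⊤ : Subgroup P)⁆, (⊤ : Subgroup P)⁆ = ⊥ := by
  intro m
  induction m using Nat.strong_induction_on with
  | _ m ih =>
  intro P _ _ hm h2 hcd
  by_contra hne
  have : Fact (Nat.Prime 2) := ⟨Nat.prime_two⟩
  have hnt : Nontrivial P := by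
    by_contra hc
    rw [not_nontrivial_iff_subsingleton] at hc
    exact hne (Subsingleton.elim _ _)
  have hcn := h2.center_nontrivial
  -- a central involution
  obtain ⟨z₀, hz₀⟩ : ∃ z₀ : Subgroup.center P, orderOf z₀ = 2 := by
    refine exists_prime_orderOf_dvd_card' 2 ?_
    obtain ⟨k, hk⟩ := (h2.to_subgroup (Subgroup.center P)).exists_card_eq
    have h1 : 1 < Nat.card (Subgroup.center P) := Finite.one_lt_card
    rw [hk] at h1 ⊢
    refine dvd_pow_self 2 ?_
    rintro rfl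
    simp at h1
  obtain ⟨z, hzc⟩ := z₀
  have hz2 : orderOf z = 2 := by rw [← hz₀]; exact (Subgroup.orderOf_mk z hzc).symm
  have hzz : z * z = 1 := by rw [← pow_two, ← hz2]; exact pow_orderOf_eq_one z
  have hz1 : z ≠ 1 := by
    intro h
    rw [h, orderOf_one] at hz2
    omega
  have hcen : ∀ x : P, x * z = z * x := fun x => Subgroup.mem_center_iff.1 hzc x
  have hZ : ∀ g ∈ Subgroup.zpowers z, g = 1 ∨ g = z := by
    intro g hg
    obtain ⟨k, rfl⟩ := Subgroup.mem_zpowers_iff.1 hg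
    rcases Int.even_or_odd' k with ⟨j, rfl | rfl⟩
    · left
      rw [zpow_mul, zpow_ofNat, pow_two, hzz, one_zpow]
    · right
      rw [zpow_add, zpow_mul, zpow_ofNat, pow_two, hzz, one_zpow, one_mul, zpow_one]
  have hZn : (Subgroup.zpowers z).Normal := by
    refine ⟨fun g hg x => ?_⟩
    have h1 : x * g * x⁻¹ = g := by
      rcases hZ g hg with rfl | rfl
      · group
      · rw [hcen, mul_inv_cancel_right]
    rw [h1]
    exact hg
  have hcard : Nat.card (P ⧸ Subgroup.zpowers z) < m := by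
    have h1 := Subgroup.card_eq_card_quotient_mul_card_subgroup (Subgroup.zpowers z)
    rw [Nat.card_zpowers, hz2, hm] at h1
    have h3 : 0 < Nat.card (P ⧸ Subgroup.zpowers z) := Nat.card_pos
    omega
  have hq := ih _ hcard (P ⧸ Subgroup.zpowers z) rfl (h2.to_quotient _) (hcd.quotient _)
  have hle : ⁅⁅(⊤ : Subgroup P), (⊤ : Subgroup P)⁆, (⊤ : Subgroup P)⁆ ≤ Subgroup.zpowers z := by
    have h1 : Subgroup.map (QuotientGroup.mk' (Subgroup.zpowers z)) ⁅⁅(⊤ : Subgroup P), (⊤ : Subgroup P)⁆, (⊤ : Subgroup P)⁆ = ⊥ := by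
      rw [Subgroup.map_commutator, Subgroup.map_commutator,
        Subgroup.map_top_of_surjective _ (QuotientGroup.mk'_surjective _)]
      exact hq
    intro g hg
    have h3 := Subgroup.mem_map_of_mem (QuotientGroup.mk' (Subgroup.zpowers z)) hg
    rw [h1, Subgroup.mem_bot] at h3
    exact (QuotientGroup.eq_one_iff g).1 h3
  obtain ⟨w, hw1⟩ := (Subgroup.ne_bot_iff_exists_ne_one).1 hne
  have hw := w.2
  have hzw : z ∈ (⁅⁅(⊤ : Subgroup P), (⊤ : Subgroup P)⁆, (⊤ : Subgroup P)⁆ : Subgroup P) := by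
    rcases hZ w (hle hw) with h1 | h1
    · exact absurd (Subtype.ext h1) hw1
    · rw [← h1]
      exact hw
  have hmem : z ∈ commutator P := by
    rw [commutator_def]
    exact Subgroup.commutator_mono le_top le_top hzw
  have hconj : ∀ n ∈ commutator P, ∀ x : P, x * n * x⁻¹ = n ∨ x * n * x⁻¹ = z * n := by
    intro n hn x
    have h1 : ⁅n, x⁆ ∈ Subgroup.zpowers z := by
      rw [commutator_def] at hn
      exact hle (Subgroup.commutator_mem_commutator hn (Subgroup.mem_top x))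
    have h3 : x * n * x⁻¹ = ⁅n, x⁆⁻¹ * n := by
      rw [commutatorElement_def]; group
    rw [h3]
    rcases hZ _ ((Subgroup.zpowers z).inv_mem h1) with h4 | h4
    · left
      rw [h4, one_mul]
    · right
      rw [h4]
  have hD : Dat z := ⟨hmem, hz1, hcen, hzz, hconj⟩
  apply hne
  rw [Subgroup.commutator_eq_bot_iff_le_centralizer]
  intro n hn
  rw [Subgroup.mem_centralizer_iff]
  intro x _
  by_contra hx
  rw [← commutator_def] at hn
  refine core ha hcd hD hn (x₀ := x) fun h3 => hx ?_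
  rw [mul_inv_eq_iff_eq_mul] at h3
  exact h3

/-- **(IP2)** A finite 2-group with irreducible character degrees in `{1, 2^a}`, `a ≥ 2`, has class at most 2. -/
theorem ip_two {P : Type u} [Group P] [Finite P] (h2 : IsPGroup 2 P) {a : ℕ} (ha : 2 ≤ a)
    (hcd : ∀ χ : Cfsg.IrrCharacter P, Cfsg.charDegree (χ : P → ℂ) = 1 ∨ Cfsg.charDegree (χ : P → ℂ) = 2 ^ a) :
    ⁅⁅(⊤ : Subgroup P), (⊤ : Subgroup P)⁆, (⊤ : Subgroup P)⁆ = ⊥ :=
  ip_two_aux ha _ P rfl h2 hcd

end Cfsg.Agent.H709.HT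
end

-- part: H300/HT/Tools
section
set_option linter.all false
open scoped Cfsg.Agent.FastGrp

/-!
# S4933, the positive rows at 3: membership in the principal block (helper300)
-/

set_option autoImplicit false

namespace Cfsg.Agent.H300.HT

open Cfsg Subgroup

universe u

/-- the fact for a group: a character of the principal 3-block, of 3-part 3 -/
def Fact3 (S : Type u) [Group S] : Prop :=
  ∀ M : Ideal AlgInt, IsPModular 3 M → ∃ χ ∈ principalBlock M S, 3 ∣ charDegree (χ : S → ℂ) ∧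
    ¬ 3 ^ 2 ∣ charDegree (χ : S → ℂ)

theorem factorization_eq_one {n : ℕ} (h0 : 0 < n) (h1 : 3 ∣ n) (h2 : ¬ 3 ^ 2 ∣ n) : n.factorization 3 = 1 := by
  have h3 : ¬ 2 ≤ n.factorization 3 := fun h => h2 ((Nat.Prime.pow_dvd_iff_le_factorization Nat.prime_three h0.ne').2 h)
  have h4 : 1 ≤ n.factorization 3 := (Nat.Prime.pow_dvd_iff_le_factorization Nat.prime_three h0.ne').1 (by simpa using h1)
  omega

/-- Sylow 3-subgroups of order 27 -/
theorem mem_of {S : Type u} [Group S] [Finite S] {M : Ideal AlgInt} (hM : IsPModular 3 M) (χ : IrrCharacter S)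
    (h1 : 3 ∣ charDegree (χ : S → ℂ)) (h2 : ¬ 3 ^ 2 ∣ charDegree (χ : S → ℂ)) (hc : (Nat.card S).factorization 3 = 3)
    (hy : ∀ y : S, y ≠ 1 → ¬ 3 ∣ orderOf y → ¬ 9 ∣ Nat.card (centralizer ({y} : Set S))) : χ ∈ principalBlock M S := by
  have : Fact (Nat.Prime 3) := ⟨Nat.prime_three⟩
  have h := factorization_eq_one (Cfsg.Agent.Blocks.Basic.charDegree_pos χ.2) h1 h2
  refine Cfsg.Agent.H670.Hg.mem_principal_of_class hM χ (by rw [h, hc]; norm_num) fun y hy1 hy3 => ?_
  rw [h, hc]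
  exact hy y hy1 hy3

theorem cent_congr {S T : Type*} [Group S] [Group T] (e : S ≃* T) (n : ℕ)
    (h : ∀ y : T, y ≠ 1 → ¬ 3 ∣ orderOf y → ¬ n ∣ Nat.card (centralizer ({y} : Set T))) (y : S) (hy : y ≠ 1)
    (h3 : ¬ 3 ∣ orderOf y) : ¬ n ∣ Nat.card (centralizer ({y} : Set S)) := by
  rw [← Cfsg.Agent.H361.PSLThree.card_centralizer_equiv e y]
  refine h (e y) (fun h1 => hy ?_) ?_
  · rwa [map_eq_one_iff e e.injective] at h1
  · rwa [MulEquiv.orderOf_eq]

end Cfsg.Agent.H300.HT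
end

-- part: H22/HT/Vac
section
prune_inst 0x8000300000000000000000000000004010000
set_option linter.all false
open scoped Cfsg.Agent.FastGrp

/-!
# S4933, `p = 3`: a vacuous case (helper22)

`vac` : the form for a Sylow `3`-subgroup of `G₂(q).3^j`, `9 ∣ q + 1`.

`not_cd` : `P` a finite `3`-group, `A` an abelian normal subgroup with `C_P(A) = A`, of index `3` in the kernel of a nontrivial
homomorphism `f` of `P` to a cyclic group, `A ∩ Z(ker f)` of index at least `9` in `A`, and `ker f` does not centralise a factor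
`A / K` of order `9`: then `P` has characters of degree `3` and of degree at least `9`.
-/

set_option autoImplicit false

namespace Cfsg.Agent.H22.HT

open Cfsg Subgroup Cfsg.Agent.H316.HT

universe u v

/-- normal subgroups of order three of a `3`-group are central -/
theorem central_of_card {P : Type*} [Group P] [Finite P] (hP : IsPGroup 3 P) {N : Subgroup P} (hn : N.Normal)
    (hN : Nat.card N = 3) : ∀ b ∈ N, ∀ g : P, g * b = b * g := by
  have : Fact (Nat.Prime 3) := ⟨Nat.prime_three⟩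
  obtain ⟨b₀, hb₀, hb1, hb2⟩ := H777.PGrp.inf_center_ne_bot hP (N := N) (by
    rintro rfl
    rw [Subgroup.card_bot] at hN
    omega) hn
  have h1 : orderOf b₀ = 3 := by
    have h2 : orderOf (⟨b₀, hb₀⟩ : N) ∣ Nat.card N := orderOf_dvd_natCard _
    rw [hN, Subgroup.orderOf_mk] at h2
    rcases (Nat.dvd_prime Nat.prime_three).1 h2 with h | h
    · exact absurd (orderOf_eq_one_iff.1 h) hb1
    · exact h
  have h3 : zpowers b₀ = N := Subgroup.eq_of_le_of_card_ge (zpowers_le.2 hb₀) (by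
    rw [Nat.card_zpowers, h1, hN])
  intro b hb g
  rw [← h3] at hb
  obtain ⟨k, rfl⟩ := hb
  exact ((show Commute g b₀ from hb2 g).zpow_right k).eq

/-- the centraliser of an abelian normal subgroup of order nine has index at most three -/
theorem index_le {P : Type*} [Group P] [Finite P] (hP : IsPGroup 3 P) (V : Subgroup P) [hV : V.Normal]
    (h9 : Nat.card V = 9) : (centralizer (V : Set P)).index ≤ 3 := by
  have h9' := h9
  have : Fact (Nat.Prime 3) := ⟨Nat.prime_three⟩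
  by_cases hc : ∀ v ∈ V, ∀ g : P, g * v = v * g
  · have h1 : centralizer (V : Set P) = ⊤ := by
      rw [eq_top_iff]
      intro g _
      rw [mem_centralizer_iff]
      intro v hv
      exact (hc v hv g).symm
    rw [h1, index_top]
    norm_num
  · push Not at hc
    obtain ⟨v, hv, g₀, hg₀⟩ := hc
    obtain ⟨b, hb, hb1, hb2⟩ := H777.PGrp.inf_center_ne_bot hP (N := V) (by
      rintro rfl
      rw [Subgroup.card_bot] at h9
      omega) hV
    have hZc : ∀ x ∈ zpowers b, ∀ g : P, g * x = x * g := by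
      rintro _ ⟨k, rfl⟩ g
      exact ((show Commute g b from hb2 g).zpow_right k).eq
    have hob : orderOf b = 3 := by
      have h2 : orderOf (⟨b, hb⟩ : V) ∣ Nat.card V := orderOf_dvd_natCard _
      rw [h9, Subgroup.orderOf_mk, show (9 : ℕ) = 3 ^ 2 by norm_num, Nat.dvd_prime_pow Nat.prime_three] at h2
      obtain ⟨k, hk, hk2⟩ := h2
      interval_cases k
      · exact absurd (orderOf_eq_one_iff.1 (by rw [hk2]; norm_num)) hb1
      · rw [hk2]; norm_num
      · exfalso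
        have h3 : zpowers b = V := Subgroup.eq_of_le_of_card_ge (zpowers_le.2 hb) (by
          rw [Nat.card_zpowers, hk2, h9]; norm_num)
        exact hg₀ (hZc v (h3 ▸ hv) g₀)
    have hZn : (zpowers b).Normal := ⟨fun x hx g => by
      rw [hZc x hx g, mul_inv_cancel_right]; exact hx⟩
    have hZV : zpowers b ≤ V := zpowers_le.2 hb
    have hvZ : v ∉ zpowers b := fun h => hg₀ (hZc v h g₀)
    have hcardZ : Nat.card (zpowers b) = 3 := by rw [Nat.card_zpowers, hob]
    -- the quotient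
    have hVn : (V.map (QuotientGroup.mk' (zpowers b))).Normal :=
      hV.map _ (QuotientGroup.mk'_surjective _)
    have hcard : Nat.card (V.map (QuotientGroup.mk' (zpowers b))) = 3 := by
      have h4 := relIndex_mul_relIndex ⊥ (zpowers b) V bot_le hZV
      rw [relIndex_bot_left, relIndex_bot_left, hcardZ, h9] at h4
      have h5 : Nat.card (V.map (QuotientGroup.mk' (zpowers b))) = (zpowers b).relIndex V := by
        have h6 := relIndex_ker V (QuotientGroup.mk' (zpowers b))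
        rw [QuotientGroup.ker_mk'] at h6
        exact h6.symm
      omega
    have hQ : IsPGroup 3 (P ⧸ zpowers b) := hP.to_quotient _
    have hcen := central_of_card hQ hVn hcard
    have hcom : ∀ x ∈ V, ∀ g : P, g * x * g⁻¹ * x⁻¹ ∈ zpowers b := by
      intro x hx g
      rw [← QuotientGroup.eq_one_iff]
      have h6 := hcen (x : P ⧸ zpowers b) (mem_map_of_mem (QuotientGroup.mk' (zpowers b)) hx) (g : P ⧸ zpowers b)
      rw [QuotientGroup.mk_mul, QuotientGroup.mk_mul, QuotientGroup.mk_mul, h6, QuotientGroup.mk_inv,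
        QuotientGroup.mk_inv, mul_inv_cancel_right, mul_inv_cancel]
    let θ : P →* zpowers b :=
      { toFun := fun g => ⟨g * v * g⁻¹ * v⁻¹, hcom v hv g⟩
        map_one' := Subtype.ext (by simp)
        map_mul' := fun g h => Subtype.ext (by
          show g * h * v * (g * h)⁻¹ * v⁻¹ = g * v * g⁻¹ * v⁻¹ * (h * v * h⁻¹ * v⁻¹)
          have h7 := hZc _ (hcom v hv h) (g * v * g⁻¹ * v⁻¹)
          rw [h7]
          have h8 := hZc _ (hcom v hv h) g
          calc g * h * v * (g * h)⁻¹ * v⁻¹ = g * (h * v * h⁻¹ * v⁻¹) * (v * g⁻¹ * v⁻¹) := by group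
            _ = (h * v * h⁻¹ * v⁻¹) * g * (v * g⁻¹ * v⁻¹) := by rw [h8]
            _ = _ := by group) }
    have hk : θ.ker ≤ centralizer (V : Set P) := by
      intro g hg
      have h9 : g * v = v * g := by
        have h10 : g * v * g⁻¹ * v⁻¹ = 1 := congrArg Subtype.val ((MonoidHom.mem_ker).1 hg)
        rw [mul_inv_eq_one, mul_inv_eq_iff_eq_mul] at h10
        exact h10
      have hW : V ⊓ centralizer ({g} : Set P) = V := by
        refine Subgroup.eq_of_le_of_card_ge inf_le_left ?_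
        have h11 : zpowers b ≤ V ⊓ centralizer ({g} : Set P) :=
          le_inf hZV fun x hx => by
            rw [mem_centralizer_singleton_iff]
            exact (hZc x hx g).symm
        have h12 : Nat.card ↥(V ⊓ centralizer ({g} : Set P)) ∣ Nat.card V := card_dvd_of_le inf_le_left
        have h13 : v ∈ V ⊓ centralizer ({g} : Set P) := mem_inf.2 ⟨hv, by
          rw [mem_centralizer_singleton_iff]
          exact h9.symm⟩
        have h14 : Nat.card (zpowers b) < Nat.card ↥(V ⊓ centralizer ({g} : Set P)) := by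
          by_contra h15
          have h16 := Subgroup.eq_of_le_of_card_ge h11 (not_lt.1 h15)
          exact hvZ (h16 ▸ h13)
        rw [h9', show (9 : ℕ) = 3 ^ 2 by norm_num, Nat.dvd_prime_pow Nat.prime_three] at h12
        obtain ⟨k, hk1, hk2⟩ := h12
        rw [hcardZ, hk2] at h14
        rw [h9', hk2]
        interval_cases k
        · norm_num at h14
        · norm_num at h14
        · norm_num
      rw [mem_centralizer_iff]
      intro x hx
      rw [← hW] at hx
      have h17 := (mem_inf.1 hx).2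
      rw [mem_centralizer_singleton_iff] at h17
      exact h17
    have h20 : θ.ker.index ≤ 3 := by
      rw [index_ker]
      calc Nat.card θ.range ≤ Nat.card (zpowers b) := Nat.card_le_card_of_injective _ Subtype.val_injective
        _ = 3 := hcardZ
    exact le_trans (Nat.le_of_dvd (Nat.pos_of_ne_zero (index_ne_zero_of_finite)) (index_dvd_of_le hk)) h20


/-- a character of degree three -/
theorem exists_deg_three {P : Type u} {C : Type v} [Group P] [Finite P] [Group C] [IsCyclic C] (hP : IsPGroup 3 P)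
    (f : P →* C) (V : Subgroup P) [hV : V.Normal] (hVf : V ≤ f.ker) (h3 : V.relIndex f.ker = 3)
    (hab : ∀ x ∈ V, ∀ y ∈ V, x * y = y * x) (h9 : Nat.card V = 9) (hw : ∃ w ∈ f.ker, ∃ v ∈ V, w * v ≠ v * w) :
    ∃ χ : IrrCharacter P, charDegree (χ : P → ℂ) = 3 := by
  obtain ⟨w, hw, v, hv, hwv⟩ := hw
  have hle := index_le hP V h9
  set U := centralizer (V : Set P) with hU
  have hVU : V ≤ U := fun x hx => by
    rw [hU, mem_centralizer_iff]
    exact fun y hy => hab y hy x hx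
  have hwU : w ∉ U := by
    intro h
    rw [hU, mem_centralizer_iff] at h
    exact hwv (h v hv).symm
  have hUn : U.Normal := by rw [hU]; infer_instance
  -- `U ∩ ker f = V`
  have hUk : U ⊓ f.ker = V := by
    have h1 : V ≤ U ⊓ f.ker := le_inf hVU hVf
    have h2 := relIndex_mul_relIndex V (U ⊓ f.ker) f.ker h1 inf_le_right
    rw [h3] at h2
    have h4 : (U ⊓ f.ker).relIndex f.ker ≠ 1 := by
      intro h5
      exact hwU (relIndex_eq_one.1 h5 hw).1
    have h6 : V.relIndex (U ⊓ f.ker) = 1 := by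
      have h7 : (U ⊓ f.ker).relIndex f.ker ∣ 3 := ⟨V.relIndex (U ⊓ f.ker), by rw [mul_comm]; exact h2.symm⟩
      rcases (Nat.dvd_prime Nat.prime_three).1 h7 with h8 | h8
      · exact absurd h8 h4
      · rw [h8] at h2; omega
    exact le_antisymm (relIndex_eq_one.1 h6) h1
  -- `U` is abelian
  have hUab : ∀ a ∈ U, ∀ b ∈ U, a * b = b * a := by
    have hker : (f.comp U.subtype).ker ≤ center U := by
      intro x hx
      have h1 : (x : P) ∈ V := by
        rw [← hUk]
        exact ⟨x.2, hx⟩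
      rw [mem_center_iff]
      intro y
      apply Subtype.ext
      have h2 : ∀ v ∈ V, v * (y : P) = y * v := mem_centralizer_iff.1 y.2
      exact (h2 x h1).symm
    intro a ha b hb
    have h1 := commutative_of_cyclic_center_quotient (f.comp U.subtype) hker ⟨a, ha⟩ ⟨b, hb⟩
    exact congrArg Subtype.val h1
  have hne : U.index ≠ 1 := fun h => hwU (by rw [index_eq_one.1 h]; exact mem_top w)
  have hidx : U.index = 3 := by
    have h1 := hP.index U
    obtain ⟨k, hk⟩ := h1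
    rw [hk] at hle hne ⊢
    rcases k with _ | _ | k
    · exact absurd (pow_zero 3) hne
    · norm_num
    · exfalso
      have : 3 ^ 2 ≤ 3 ^ (k + 1 + 1) := Nat.pow_le_pow_right (by norm_num) (by omega)
      omega
  exact ((S4459.result ⟨w, v, hwv⟩ 3 Nat.prime_three).2 (Or.inl ⟨U, hUn, hUab, hidx⟩)).2

/-- **The vacuous case.** -/
theorem not_cd {P : Type u} {C : Type v} [Group P] [Finite P] [Group C] [IsCyclic C] (hP : IsPGroup 3 P) (f : P →* C)
    (hf : ∃ y, f y ≠ 1) (A : Subgroup P) [hA : A.Normal] (hAf : A ≤ f.ker) (hAi : A.relIndex f.ker = 3)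
    (hab : ∀ x ∈ A, ∀ y ∈ A, x * y = y * x) (hC : ∀ y : P, (∀ x ∈ A, y * x = x * y) → y ∈ A)
    (K : Subgroup P) [hK : K.Normal] (hKA : K ≤ A) (hK9 : K.relIndex A = 9)
    (hw : ∃ w ∈ f.ker, ∃ x ∈ A, w * x * w⁻¹ * x⁻¹ ∉ K)
    (hZ : ∃ w ∈ f.ker, 9 ≤ (centralizer ({w} : Set P)).relIndex A) (a : ℕ)
    (hcd : ∀ φ : IrrCharacter P, charDegree (φ : P → ℂ) = 1 ∨ charDegree (φ : P → ℂ) = 3 ^ a) : False := by
  have : Fact (Nat.Prime 3) := ⟨Nat.prime_three⟩
  obtain ⟨w, hwk, x, hx, hwx⟩ := hw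
  -- degree three
  have hd3 : ∃ χ : IrrCharacter P, charDegree (χ : P → ℂ) = 3 := by
    have hKf : K ≤ f.ker := hKA.trans hAf
    let g : P ⧸ K →* C := QuotientGroup.lift K f hKf
    have hgk : g.ker = f.ker.map (QuotientGroup.mk' K) := by
      ext y
      obtain ⟨y, rfl⟩ := QuotientGroup.mk'_surjective K y
      constructor
      · intro hy
        exact ⟨y, hy, rfl⟩
      · rintro ⟨y', hy', he⟩
        rw [← he]
        exact hy'
    have hVn : (A.map (QuotientGroup.mk' K)).Normal := hA.map _ (QuotientGroup.mk'_surjective _)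
    obtain ⟨χ, hχ⟩ := exists_deg_three (P := P ⧸ K) (hP.to_quotient K) g (A.map (QuotientGroup.mk' K))
      (by rw [hgk]; exact map_mono hAf) (by
        rw [hgk, relIndex_map_map, QuotientGroup.ker_mk', sup_eq_left.2 hKA, sup_eq_left.2 hKf]
        exact hAi) (by
        rintro _ ⟨x, hx, rfl⟩ _ ⟨y, hy, rfl⟩
        rw [← map_mul, hab x hx y hy, map_mul]) (by
        have h6 := relIndex_ker A (QuotientGroup.mk' K)
        rw [QuotientGroup.ker_mk', hK9] at h6
        exact h6.symm) ⟨QuotientGroup.mk' K w, by rw [hgk]; exact mem_map_of_mem _ hwk, QuotientGroup.mk' K x,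
        mem_map_of_mem _ hx, fun h => hwx (by
          rw [← QuotientGroup.eq_one_iff]
          have h1 : (w : P ⧸ K) * x = x * w := h
          rw [QuotientGroup.mk_mul, QuotientGroup.mk_mul, QuotientGroup.mk_mul, h1, QuotientGroup.mk_inv,
            QuotientGroup.mk_inv, mul_inv_cancel_right, mul_inv_cancel])⟩
    refine ⟨⟨(χ : P ⧸ K → ℂ) ∘ QuotientGroup.mk' K,
      Cfsg.Agent.Characters.Core.isIrr_comp _ (QuotientGroup.mk'_surjective K) χ.2⟩, ?_⟩
    rw [← hχ]
    unfold charDegree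
    simp
  have ha1 : a = 1 := by
    obtain ⟨χ, hχ⟩ := hd3
    rcases hcd χ with h | h
    · omega
    · rw [hχ] at h
      have h2 : (3 : ℕ) ^ 1 = 3 ^ a := by rw [pow_one]; exact h
      exact (Nat.pow_right_injective (le_refl 2 |>.trans (by norm_num : 2 ≤ 3)) h2).symm
  subst ha1
  have hind : 6 ≤ A.index := by
    have h1 := relIndex_mul_index hAf
    rw [hAi] at h1
    have h2 : f.ker.index ≠ 1 := by
      intro h3
      obtain ⟨y, hy⟩ := hf
      have h4 : y ∈ f.ker := by rw [index_eq_one.1 h3]; exact mem_top y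
      exact hy h4
    have h5 : f.ker.index ≠ 0 := index_ne_zero_of_finite
    omega
  obtain ⟨w', hw'k, hw'⟩ := hZ
  have hnab : ∃ a b : P, a * b ≠ b * a := ⟨w, x, fun h => hwx (by
    rw [h, mul_inv_cancel_right, mul_inv_cancel]; exact K.one_mem)⟩
  have hcd' : (∀ χ : IrrCharacter P, charDegree (χ : P → ℂ) = 1 ∨ charDegree (χ : P → ℂ) = 3) ∧
      ∃ χ : IrrCharacter P, charDegree (χ : P → ℂ) = 3 := by
    refine ⟨fun χ => ?_, ?_⟩
    · have h1 := hcd χ
      rwa [pow_one] at h1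
    · exact hd3
  rcases (S4459.result hnab 3 Nat.prime_three).1 hcd' with ⟨B, hB, hBab, hB3⟩ | hZ3
  · by_cases hAB : A ≤ B
    · have h1 : B ≤ A := fun y hy => hC y fun x hx => hBab y hy x (hAB hx)
      have h2 : B = A := le_antisymm h1 hAB
      rw [← h2, hB3] at hind
      omega
    · have htop : B ⊔ A = ⊤ := by
        have h1 := relIndex_mul_index (le_sup_left (a := B) (b := A))
        rw [hB3] at h1
        rw [← index_eq_one]
        have h2 : (B ⊔ A).index ∣ 3 := ⟨B.relIndex (B ⊔ A), by rw [mul_comm]; exact h1.symm⟩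
        rcases (Nat.dvd_prime Nat.prime_three).1 h2 with h | h
        · exact h
        · exfalso
          rw [h] at h1
          have h3 : B.relIndex (B ⊔ A) = 1 := by omega
          exact hAB (le_sup_right.trans (relIndex_eq_one.1 h3))
      have hcen : A ⊓ B ≤ centralizer ({w'} : Set P) := by
        intro y hy
        have h1 : B ⊔ A ≤ centralizer ({y} : Set P) := by
          refine sup_le (fun b hb => ?_) fun a ha => ?_
          · rw [mem_centralizer_singleton_iff]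
            exact hBab b hb y hy.2
          · rw [mem_centralizer_singleton_iff]
            exact hab a ha y hy.1
        rw [htop] at h1
        have h2 := h1 (mem_top w')
        rw [mem_centralizer_singleton_iff] at h2 ⊢
        exact h2.symm
      have h1 : (centralizer ({w'} : Set P)).relIndex A ∣ (A ⊓ B).relIndex A := relIndex_dvd_of_le_left A hcen
      rw [inf_comm, inf_relIndex_right] at h1
      have h2 : B.relIndex A ∣ B.index := relIndex_dvd_index_of_normal B A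
      rw [hB3] at h2
      have h3 := Nat.le_of_dvd (by norm_num) (h1.trans h2)
      omega
  · have hcA : center P ≤ A := fun y hy => hC y fun x _ => ((mem_center_iff.1 hy) x).symm
    have h1 := relIndex_mul_index hcA
    rw [hZ3] at h1
    have h2 : center P ≤ centralizer ({w'} : Set P) := fun y hy => by
      rw [mem_centralizer_singleton_iff]
      exact ((mem_center_iff.1 hy) w').symm
    have h3 := relIndex_dvd_of_le_left A h2
    have h4 : A.index ∣ 3 ^ 3 := ⟨(center P).relIndex A, by rw [mul_comm]; exact h1.symm⟩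
    obtain ⟨k, hk, hk2⟩ := (Nat.dvd_prime_pow Nat.prime_three).1 h4
    have h5 : 0 < (center P).relIndex A := Nat.pos_of_ne_zero (by
      intro h
      rw [h, zero_mul] at h1
      norm_num at h1)
    have h6 := Nat.le_of_dvd h5 h3
    have e3 : (3 : ℕ) ^ 3 = 27 := by norm_num
    have h7 : A.index = 9 ∨ A.index = 27 := by
      rw [hk2] at hind ⊢
      interval_cases k
      · norm_num at hind
      · norm_num at hind
      · left; norm_num
      · right; norm_num
    rw [e3] at h1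
    rcases h7 with h7 | h7 <;> rw [h7] at h1 <;> omega


section Comm

variable {P : Type u} [Group P] (A : Subgroup P) [hA : A.Normal] (hab : ∀ x ∈ A, ∀ y ∈ A, x * y = y * x) (w : P)

/-- `x ↦ [w, x]` on an abelian normal subgroup -/
def th : A →* P where
  toFun x := w * x * w⁻¹ * (x : P)⁻¹
  map_one' := by simp
  map_mul' x y := by
    have h1 : w * (y : P) * w⁻¹ ∈ A := hA.conj_mem _ y.2 w
    have h2 := hab _ (A.mul_mem h1 (A.inv_mem y.2)) _ (A.inv_mem x.2)
    show w * ((x : P) * y) * w⁻¹ * ((x : P) * y)⁻¹ = w * x * w⁻¹ * (x : P)⁻¹ * (w * y * w⁻¹ * (y : P)⁻¹)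
    calc w * ((x : P) * y) * w⁻¹ * ((x : P) * y)⁻¹ = w * x * w⁻¹ * ((w * y * w⁻¹ * (y : P)⁻¹) * (x : P)⁻¹) := by group
      _ = w * x * w⁻¹ * ((x : P)⁻¹ * (w * y * w⁻¹ * (y : P)⁻¹)) := by rw [h2]
      _ = _ := by group

/-- the image of a normal subgroup -/
theorem comm_eq (B P₀ : Subgroup P) [hB : B.Normal] (hBA : B ≤ A) (hAP : A ≤ P₀) (hw : w ∈ P₀)
    (hgen : A ⊔ zpowers w = P₀) : ⁅P₀, B⁆ = (B.subgroupOf A).map (th A hab w) := by
  have hmem : ∀ x, x ∈ (B.subgroupOf A).map (th A hab w) ↔ ∃ b ∈ B, w * b * w⁻¹ * b⁻¹ = x := by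
    intro x
    constructor
    · rintro ⟨b, hb, rfl⟩
      exact ⟨b, hb, rfl⟩
    · rintro ⟨b, hb, rfl⟩
      exact ⟨⟨b, hBA hb⟩, hb, rfl⟩
  have hIB : (B.subgroupOf A).map (th A hab w) ≤ B := by
    intro x hx
    obtain ⟨b, hb, rfl⟩ := (hmem x).1 hx
    exact B.mul_mem (hB.conj_mem b hb w) (B.inv_mem hb)
  apply le_antisymm
  · rw [commutator_le]
    let N : Subgroup P :=
      { carrier := {p | ∀ b ∈ B, p * b * p⁻¹ * b⁻¹ ∈ (B.subgroupOf A).map (th A hab w)}
        one_mem' := fun b _ => by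
          simp only [one_mul, inv_one, mul_one, mul_inv_cancel]
          exact one_mem _
        mul_mem' := by
          intro p q hp hq b hb
          have h1 := hq b hb
          have h2 := hp _ (hIB h1)
          have h3 := mul_mem (mul_mem h2 h1) (hp b hb)
          have e : p * q * b * (p * q)⁻¹ * b⁻¹ =
              p * (q * b * q⁻¹ * b⁻¹) * p⁻¹ * (q * b * q⁻¹ * b⁻¹)⁻¹ * (q * b * q⁻¹ * b⁻¹) * (p * b * p⁻¹ * b⁻¹) := by
            group
          rw [Set.mem_setOf_eq] at *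
          rw [e]
          exact h3
        inv_mem' := by
          intro p hp b hb
          have h1 := hp _ (hB.conj_mem b hb p⁻¹)
          have e : p⁻¹ * b * p⁻¹⁻¹ * b⁻¹ = (p * (p⁻¹ * b * p⁻¹⁻¹) * p⁻¹ * (p⁻¹ * b * p⁻¹⁻¹)⁻¹)⁻¹ := by group
          rw [e]
          exact inv_mem h1 }
    have hPN : P₀ ≤ N := by
      rw [← hgen]
      refine sup_le (fun a ha b hb => ?_) (zpowers_le.2 fun b hb => (hmem _).2 ⟨b, hb, rfl⟩)
      have h1 : a * b * a⁻¹ * b⁻¹ = 1 := by
        rw [hab a ha b (hBA hb)]; group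
      rw [h1]
      exact one_mem _
    intro p hp b hb
    exact hPN hp b hb
  · intro x hx
    obtain ⟨b, hb, rfl⟩ := (hmem x).1 hx
    exact commutator_mem_commutator hw hb

/-- the order of the image -/
theorem card_comm [Finite P] (B : Subgroup P) (hBA : B ≤ A) :
    Nat.card ↥((B.subgroupOf A).map (th A hab w)) * Nat.card ↥(B ⊓ centralizer ({w} : Set P)) = Nat.card B := by
  have h1 := relIndex_ker (B.subgroupOf A) (th A hab w)
  rw [← h1]
  have h2 : ((th A hab w).ker ⊓ B.subgroupOf A).map A.subtype = B ⊓ centralizer ({w} : Set P) := by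
    ext x
    rw [mem_inf, mem_centralizer_singleton_iff]
    constructor
    · rintro ⟨y, ⟨hy1, hy2⟩, rfl⟩
      refine ⟨hy2, ?_⟩
      have h3 : w * (y : P) * w⁻¹ * (y : P)⁻¹ = 1 := hy1
      rw [mul_inv_eq_one, mul_inv_eq_iff_eq_mul] at h3
      exact h3.symm
    · rintro ⟨hx, hc⟩
      refine ⟨⟨x, hBA hx⟩, ⟨?_, hx⟩, rfl⟩
      show w * x * w⁻¹ * x⁻¹ = 1
      rw [← hc, mul_inv_cancel_right, mul_inv_cancel]
  have h3 : Nat.card ↥(B ⊓ centralizer ({w} : Set P)) = Nat.card ↥((th A hab w).ker ⊓ B.subgroupOf A) := by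
    rw [← h2]
    exact Nat.card_congr (Subgroup.equivMapOfInjective _ _ A.subtype_injective).symm.toEquiv
  have h4 : Nat.card ↥(B.subgroupOf A) = Nat.card B := Nat.card_congr (subgroupOfEquivOfLe hBA).toEquiv
  rw [h3, ← h4]
  have h5 := relIndex_mul_relIndex ⊥ ((th A hab w).ker ⊓ B.subgroupOf A) (B.subgroupOf A) bot_le inf_le_right
  rw [relIndex_bot_left, relIndex_bot_left, inf_relIndex_right] at h5
  rw [mul_comm]
  exact h5

end Comm

/-- **The vacuous case, for a Sylow subgroup of type `G₂`.** -/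
theorem vac {P : Type u} [Group P] [Finite P] (hP : IsPGroup 3 P) (P₀ A : Subgroup P) [hP₀ : P₀.Normal]
    (hcyc : IsCyclic (P ⧸ P₀)) (hne : P₀ ≠ ⊤) (hAP : A ≤ P₀) (hab : ∀ x ∈ A, ∀ y ∈ A, x * y = y * x)
    (hcard : Nat.card P₀ = 3 * Nat.card A) (h81 : 81 ≤ Nat.card A)
    (hfix : ∀ x ∈ P₀, x ∉ A → Nat.card ↥(A ⊓ centralizer ({x} : Set P)) ≤ 3)
    (hC : ∀ x : P, x ∉ P₀ → ∃ a ∈ A, x * a ≠ a * x) (a : ℕ)
    (hcd : ∀ φ : IrrCharacter P, charDegree (φ : P → ℂ) = 1 ∨ charDegree (φ : P → ℂ) = 3 ^ a) : False := by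
  have : Fact (Nat.Prime 3) := ⟨Nat.prime_three⟩
  have hrel : A.relIndex P₀ = 3 := by
    have h1 := relIndex_mul_relIndex ⊥ A P₀ bot_le hAP
    rw [relIndex_bot_left, relIndex_bot_left, hcard] at h1
    have h2 : Nat.card A * A.relIndex P₀ = Nat.card A * 3 := by rw [h1, mul_comm]
    exact Nat.eq_of_mul_eq_mul_left (by omega) h2
  -- `A` is normal
  have hA : A.Normal := by
    refine ⟨fun n hn g => ?_⟩
    by_contra hng
    set B := A.map (MulAut.conj g).toMonoidHom with hB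
    have hnB : g * n * g⁻¹ ∈ B := ⟨n, hn, rfl⟩
    have hBP : B ≤ P₀ := by
      rintro _ ⟨y, hy, rfl⟩
      exact hP₀.conj_mem y (hAP hy) g
    have hBab : ∀ x ∈ B, ∀ y ∈ B, x * y = y * x := by
      rintro _ ⟨x, hx, rfl⟩ _ ⟨y, hy, rfl⟩
      rw [← map_mul, hab x hx y hy, map_mul]
    have hBcard : Nat.card B = Nat.card A :=
      (Nat.card_congr (Subgroup.equivMapOfInjective A _ (MulAut.conj g).injective).toEquiv).symm
    have h1 := hfix _ (hBP hnB) hng
    have h2 : A ⊓ B ≤ A ⊓ centralizer ({g * n * g⁻¹} : Set P) := le_inf inf_le_left fun x hx => by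
      rw [mem_centralizer_singleton_iff]
      exact hBab x hx.2 _ hnB
    have h3 : Nat.card ↥(A ⊓ B) ≤ 3 := (card_le_of_le h2).trans h1
    have h4 : B.relIndex A ≤ 3 := by
      have h5 : B.relIndex A ≤ B.relIndex P₀ := relIndex_le_of_le_right hAP (by
        rw [relIndex]; exact index_ne_zero_of_finite)
      have h6 := relIndex_mul_relIndex ⊥ B P₀ bot_le hBP
      rw [relIndex_bot_left, relIndex_bot_left, hcard, hBcard] at h6
      have h7 : Nat.card A * B.relIndex P₀ = Nat.card A * 3 := by rw [h6, mul_comm]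
      have h8 := Nat.eq_of_mul_eq_mul_left (by omega) h7
      omega
    have h5 := relIndex_mul_relIndex ⊥ (A ⊓ B) A bot_le inf_le_left
    rw [relIndex_bot_left, relIndex_bot_left, inf_comm, inf_relIndex_right] at h5
    rw [inf_comm] at h3
    nlinarith
  -- `w`
  obtain ⟨w, hwP, hwA⟩ : ∃ w ∈ P₀, w ∉ A := by
    by_contra hcon
    push Not at hcon
    have h1 : A = P₀ := le_antisymm hAP hcon
    rw [h1] at hcard
    have : 0 < Nat.card P₀ := Nat.card_pos
    omega
  have hgen : A ⊔ zpowers w = P₀ := by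
    have hle : A ⊔ zpowers w ≤ P₀ := sup_le hAP (zpowers_le.2 hwP)
    have h1 := relIndex_mul_relIndex A (A ⊔ zpowers w) P₀ le_sup_left hle
    rw [hrel] at h1
    have h2 : A.relIndex (A ⊔ zpowers w) ≠ 1 := fun h =>
      hwA (relIndex_eq_one.1 h (le_sup_right (a := A) (mem_zpowers w)))
    have h3 : A.relIndex (A ⊔ zpowers w) ∣ 3 := ⟨_, h1.symm⟩
    rcases (Nat.dvd_prime Nat.prime_three).1 h3 with h | h
    · exact absurd h h2
    · rw [h] at h1
      exact le_antisymm hle (relIndex_eq_one.1 (by omega))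
  -- centralizers in nontrivial normal subgroups
  have hthree : ∀ B : Subgroup P, B.Normal → B ≤ A → B ≠ ⊥ →
      Nat.card ↥(B ⊓ centralizer ({w} : Set P)) = 3 := by
    intro B hB hBA hne'
    obtain ⟨b, hb, hb1, hb2⟩ := H777.PGrp.inf_center_ne_bot hP hne' hB
    have h1 : Nat.card ↥(B ⊓ centralizer ({w} : Set P)) ≤ 3 :=
      (card_le_of_le (inf_le_inf_right _ hBA)).trans (hfix w hwP hwA)
    have h2 : Nat.card ↥(B ⊓ centralizer ({w} : Set P)) ≠ 1 := by
      intro h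
      rw [card_eq_one] at h
      have h3 : b ∈ B ⊓ centralizer ({w} : Set P) := mem_inf.2 ⟨hb, by
        rw [mem_centralizer_singleton_iff]
        exact (hb2 w).symm⟩
      rw [h, mem_bot] at h3
      exact hb1 h3
    have h3 : IsPGroup 3 ↥(B ⊓ centralizer ({w} : Set P)) := hP.to_subgroup _
    obtain ⟨k, hk⟩ := IsPGroup.iff_card.1 h3
    rw [hk] at h1 h2 ⊢
    rcases k with _ | _ | k
    · exact absurd (pow_zero 3) h2
    · norm_num
    · exfalso
      have : 3 ^ 2 ≤ 3 ^ (k + 1 + 1) := Nat.pow_le_pow_right (by norm_num) (by omega)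
      omega
  have hAne : A ≠ ⊥ := by
    rintro rfl
    rw [Subgroup.card_bot] at h81
    omega
  have c1 := hthree A hA le_rfl hAne
  have e1 := comm_eq A hab w A P₀ le_rfl hAP hwP hgen
  have d1 := card_comm A hab w A le_rfl
  rw [← e1, c1] at d1
  set K₁ := ⁅P₀, A⁆ with hK₁
  have hK₁n : K₁.Normal := commutator_normal P₀ A
  have hK₁A : K₁ ≤ A := commutator_le_right P₀ A
  have hK₁ne : K₁ ≠ ⊥ := by
    intro h
    rw [h, Subgroup.card_bot] at d1
    omega
  have c2 := hthree K₁ hK₁n hK₁A hK₁ne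
  have e2 := comm_eq A hab w K₁ P₀ hK₁A hAP hwP hgen
  have d2 := card_comm A hab w K₁ hK₁A
  rw [← e2, c2] at d2
  set K₂ := ⁅P₀, K₁⁆ with hK₂
  have hK₂n : K₂.Normal := commutator_normal P₀ K₁
  have hK₂K : K₂ ≤ K₁ := commutator_le_right P₀ K₁
  have hK9 : K₂.relIndex A = 9 := by
    have h1 := relIndex_mul_relIndex ⊥ K₂ A bot_le (hK₂K.trans hK₁A)
    rw [relIndex_bot_left, relIndex_bot_left] at h1
    have h2 : Nat.card K₂ * K₂.relIndex A = Nat.card K₂ * 9 := by
      rw [h1, ← d1, ← d2]; ring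
    exact Nat.eq_of_mul_eq_mul_left Nat.card_pos h2
  have hne2 : ¬ K₁ ≤ K₂ := by
    intro h
    have h1 : Nat.card K₁ ≤ Nat.card K₂ := card_le_of_le h
    have h2 : 0 < Nat.card K₂ := Nat.card_pos
    omega
  have hker : (QuotientGroup.mk' P₀).ker = P₀ := QuotientGroup.ker_mk' P₀
  refine not_cd hP (QuotientGroup.mk' P₀) ?_ A (by rw [hker]; exact hAP) (by rw [hker]; exact hrel) hab ?_ K₂
    (hK₂K.trans hK₁A) hK9 ?_ ⟨w, by rw [hker]; exact hwP, ?_⟩ a hcd
  · obtain ⟨y, hy⟩ : ∃ y : P, y ∉ P₀ := by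
      by_contra hcon
      push Not at hcon
      exact hne (eq_top_iff.2 fun y _ => hcon y)
    exact ⟨y, fun h => hy ((QuotientGroup.eq_one_iff y).1 h)⟩
  · intro y hy
    by_contra hyA
    by_cases hyP : y ∈ P₀
    · have h1 := hfix y hyP hyA
      have h2 : A ⊓ centralizer ({y} : Set P) = A := inf_eq_left.2 fun x hx => by
        rw [mem_centralizer_singleton_iff]
        exact (hy x hx).symm
      rw [h2] at h1
      omega
    · obtain ⟨x, hx, hx2⟩ := hC y hyP
      exact hx2 (hy x hx)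
  · by_contra hcon
    push Not at hcon
    apply hne2
    rw [hK₁, commutator_le]
    intro p hp x hx
    exact hcon p (by rw [hker]; exact hp) x hx
  · have h1 := relIndex_mul_relIndex ⊥ (A ⊓ centralizer ({w} : Set P)) A bot_le inf_le_left
    rw [relIndex_bot_left, relIndex_bot_left, c1, inf_comm, inf_relIndex_right] at h1
    omega

theorem vac_cd {P : Type u} [Group P] [Finite P] (hP : IsPGroup 3 P) (P₀ A : Subgroup P) [hP₀ : P₀.Normal]
    (hcyc : IsCyclic (P ⧸ P₀)) (hne : P₀ ≠ ⊤) (hAP : A ≤ P₀) (hab : ∀ x ∈ A, ∀ y ∈ A, x * y = y * x)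
    (hcard : Nat.card P₀ = 3 * Nat.card A) (h81 : 81 ≤ Nat.card A)
    (hfix : ∀ x ∈ P₀, x ∉ A → Nat.card ↥(A ⊓ centralizer ({x} : Set P)) ≤ 3)
    (hC : ∀ x : P, x ∉ P₀ → ∃ a ∈ A, x * a ≠ a * x) (a : ℕ) : ¬ CD 3 a P := fun h =>
  vac hP P₀ A hcyc hne hAP hab hcard h81 hfix hC a h.1

end Cfsg.Agent.H22.HT

private theorem dce_dd3d7bfad73e : _root_.True := by
  try have : _root_.True := by simp only [_root_.Cfsg.Agent.H22.HT.th.congr_simp]
  exact _root_.True.intro
end

-- part: H719/HT/OutG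
section
set_option linter.all false
open scoped Cfsg.Agent.FastGrp

/-!
# S4933: outer automorphisms of an almost simple group (helper719)

* `cA` : the homomorphism `A → Aut(S)`, `N ≃* S` normal in `A`;
* `mem_of_cA` : `C_A(N) = 1` and `cA x` inner imply `x ∈ N`;
* `pow_of_mem` : for `x` in a Sylow `p`-subgroup: `(cA x) ^ p ^ k = 1`;
* `cyc_of` : `(N P) / N` is cyclic, if `Aut(S) / D` is cyclic and `D / Inn(S)` is of exponent prime to `p`.
-/

set_option autoImplicit false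

open Subgroup

namespace Cfsg.Agent.H719.HT

universe u v

variable {A : Type u} [Group A] {N : Subgroup A} [hNn : N.Normal] {S : Type v} [Group S]

/-- the action of `A` on `S ≃* N` -/
def cA (e : N ≃* S) : A →* MulAut S := (MulAut.congr e).toMonoidHom.comp (MulAut.conjNormal : A →* MulAut N)

theorem cA_apply (e : N ≃* S) (x : A) (y : N) :
    cA e x (e y) = e ⟨x * y * x⁻¹, hNn.conj_mem (y : A) y.2 x⟩ := by
  change e ((MulAut.conjNormal x : MulAut N) (e.symm (e y))) = _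
  rw [e.symm_apply_apply]
  congr 1

theorem cA_mem (e : N ≃* S) (n : N) : cA e (n : A) = MulAut.conj (e n) := by
  ext y
  obtain ⟨y, rfl⟩ := e.surjective y
  rw [cA_apply, MulAut.conj_apply, ← map_inv, ← map_mul, ← map_mul]
  rfl

theorem cA_inj (hcen : centralizer (N : Set A) = ⊥) (e : N ≃* S) : Function.Injective (cA e) := by
  rw [injective_iff_map_eq_one]
  intro x hx
  have h1 : x ∈ centralizer (N : Set A) := by
    rw [mem_centralizer_iff]
    intro y hy
    have h2 := cA_apply e x ⟨y, hy⟩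
    rw [hx, MulAut.one_apply] at h2
    have h3 := congrArg Subtype.val (e.injective h2)
    change y = x * y * x⁻¹ at h3
    rw [eq_mul_inv_iff_mul_eq] at h3
    exact h3
  rw [hcen, mem_bot] at h1
  exact h1

theorem mem_of_cA (hcen : centralizer (N : Set A) = ⊥) (e : N ≃* S) {x : A}
    (hx : cA e x ∈ (MulAut.conj : S →* MulAut S).range) : x ∈ N := by
  obtain ⟨s, hs⟩ := hx
  obtain ⟨n, rfl⟩ := e.surjective s
  rw [← cA_mem] at hs
  rw [← cA_inj hcen e hs]
  exact n.2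

variable {p : ℕ} [hp : Fact p.Prime]

theorem pow_of_mem (e : N ≃* S) {P : Subgroup A} (hP : IsPGroup p P) {x : A} (hx : x ∈ P) :
    ∃ k, cA e x ^ p ^ k ∈ (MulAut.conj : S →* MulAut S).range := by
  obtain ⟨k, hk⟩ := hP ⟨x, hx⟩
  have hk' : x ^ p ^ k = 1 := congrArg Subtype.val hk
  refine ⟨k, ?_⟩
  rw [← map_pow, hk', map_one]
  exact one_mem _

/-- **`(N P) / N` is cyclic** -/
theorem cyc_of (hcen : centralizer (N : Set A) = ⊥) (e : N ≃* S) (D : Subgroup (MulAut S)) [D.Normal]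
    (hD : (MulAut.conj : S →* MulAut S).range ≤ D)
    {m : ℕ} (hm : ¬ p ∣ m) (hDm : ∀ d ∈ D, d ^ m ∈ (MulAut.conj : S →* MulAut S).range)
    [IsCyclic (MulAut S ⧸ D)] {P : Subgroup A} (hP : IsPGroup p P) {H : Subgroup A} (hH : H = N ⊔ P) :
    IsCyclic (↥H ⧸ N.subgroupOf H) := by
  subst hH
  let f : ↥(N ⊔ P) →* MulAut S ⧸ D := (QuotientGroup.mk' D).comp ((cA e).comp (N ⊔ P).subtype)
  have hf : f.ker = N.subgroupOf (N ⊔ P) := by
    ext x
    rw [MonoidHom.mem_ker, mem_subgroupOf]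
    change ((cA e (x : A) : MulAut S) : MulAut S ⧸ D) = 1 ↔ _
    rw [QuotientGroup.eq_one_iff]
    constructor
    · intro hx
      obtain ⟨x, hxm⟩ := x
      change cA e x ∈ D at hx
      change x ∈ N
      obtain ⟨n, hn, y, hy, rfl⟩ := mem_sup_of_normal_left.1 hxm
      have h1 : cA e y ∈ D := by
        rw [map_mul] at hx
        have h2 : cA e n ∈ D := hD ⟨e ⟨n, hn⟩, (cA_mem e ⟨n, hn⟩).symm⟩
        exact (D.mul_mem_cancel_left h2).1 hx
      obtain ⟨k, hk⟩ := pow_of_mem e hP hy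
      have h3 := hDm _ h1
      have hcop : IsCoprime ((p ^ k : ℕ) : ℤ) (m : ℤ) := by
        rw [Nat.isCoprime_iff_coprime]
        exact Nat.Coprime.pow_left _ ((Nat.Prime.coprime_iff_not_dvd hp.out).2 hm)
      obtain ⟨u, v, huv⟩ := hcop
      have h4 : cA e y = (cA e y ^ p ^ k) ^ u * (cA e y ^ m) ^ v := by
        rw [← zpow_natCast (cA e y) (p ^ k), ← zpow_natCast (cA e y) m, ← zpow_mul, ← zpow_mul, ← zpow_add,
          mul_comm _ u, mul_comm _ v, huv, zpow_one]
      have h5 : cA e y ∈ (MulAut.conj : S →* MulAut S).range := by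
        rw [h4]
        exact mul_mem (zpow_mem hk u) (zpow_mem h3 v)
      exact N.mul_mem hn (mem_of_cA hcen e h5)
    · intro hx
      exact hD ⟨e ⟨x, hx⟩, (cA_mem e ⟨x, hx⟩).symm⟩
  have e1 : ↥(N ⊔ P) ⧸ N.subgroupOf (N ⊔ P) ≃* f.range :=
    (QuotientGroup.quotientMulEquivOfEq hf.symm).trans (QuotientGroup.quotientKerEquivRange f)
  exact isCyclic_of_surjective e1.symm e1.symm.surjective

end Cfsg.Agent.H719.HT
end

-- part: H234/HT/LemB
section
set_option linter.all false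
open scoped Cfsg.Agent.FastGrp

/-!
# S4933, part (O), Lemma B (plan `S4933_O.md`, helper37)

`ζ` a primitive `p ^ m`-th root of unity, `κ = 1 + p ^ (m - 1) * u`, `p ∤ u`. If `∑ ζ ^ k ≡ ∑ ζ ^ (κ * k)` modulo `p`, then
for every `r` prime to `p` the number of the `k` congruent to `r` modulo `p ^ (m - 1)` is divisible by `p` (`p` odd), and the
sum of their quotients `k / p ^ (m - 1)` is divisible by `p` (`5 ≤ p`).

* `func_eq` : functionals on `ℤ[ζ] / p`;
* `count_dvd`, `sum_dvd`.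
-/

set_option autoImplicit false

namespace Cfsg.Agent.H234.HT

open Polynomial Finset

theorem exists_poly_aux {p m : ℕ} [hp : Fact p.Prime] {K : Type} [Field K] [CharZero K]
    [hcyc : IsCyclotomicExtension {p ^ m} ℚ K] (φ : K →ₐ[ℚ] ℂ) {ζ : ℂ} (hζ : IsPrimitiveRoot ζ (p ^ m)) {P : ℤ[X]}
    {z : ℂ} (hz : IsIntegral ℤ z) (h : aeval ζ P = (p : ℂ) * z) : ∃ G : ℤ[X], aeval ζ G = z := by
  classical
  have : NeZero (p ^ m) := ⟨pow_ne_zero _ hp.out.ne_zero⟩
  have hp0 : (p : ℂ) ≠ 0 := Nat.cast_ne_zero.2 hp.out.ne_zero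
  have hφ : Function.Injective φ := φ.toRingHom.injective
  have hζ0 := IsCyclotomicExtension.zeta_spec (p ^ m) ℚ K
  have h1 : IsPrimitiveRoot (φ (IsCyclotomicExtension.zeta (p ^ m) ℚ K)) (p ^ m) :=
    hζ0.map_of_injective (f := φ) hφ
  obtain ⟨k, _, hk⟩ := h1.eq_pow_of_pow_eq_one hζ.pow_eq_one
  set ξ : K := (IsCyclotomicExtension.zeta (p ^ m) ℚ K) ^ k with hξdef
  have hξ : φ ξ = ζ := by rw [hξdef, map_pow, hk]
  have hξp : IsPrimitiveRoot ξ (p ^ m) := (IsPrimitiveRoot.map_iff_of_injective (f := φ) hφ).1 (by rw [hξ]; exact hζ)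
  have hav : ∀ Q : ℤ[X], φ (aeval ξ Q) = aeval ζ Q := by
    intro Q
    have := Polynomial.aeval_algHom_apply (φ.restrictScalars ℤ) ξ Q
    rw [← hξ]
    exact this.symm
  have hw : φ ((p : K)⁻¹ * aeval ξ P) = z := by
    rw [map_mul, map_inv₀, map_natCast, hav, h, inv_mul_cancel_left₀ hp0]
  set w := (p : K)⁻¹ * aeval ξ P with hwdef
  have hwi : IsIntegral ℤ w := by
    have h2 : IsIntegral ℤ ((φ.restrictScalars ℤ) w) := by
      show IsIntegral ℤ (φ w)
      rw [hw]
      exact hz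
    exact (isIntegral_algHom_iff (φ.restrictScalars ℤ) hφ).1 h2
  obtain ⟨y, hy⟩ :=
    ((IsCyclotomicExtension.Rat.isIntegralClosure_adjoin_singleton_of_prime_pow hξp).isIntegral_iff).1 hwi
  have hy2 : (y : K) ∈ (aeval (R := ℤ) ξ).range := by
    have h9 : (y : K) ∈ Algebra.adjoin ℤ {ξ} := y.2
    exact (Algebra.adjoin_singleton_eq_range_aeval ℤ ξ) ▸ h9
  obtain ⟨G, hG⟩ := hy2
  refine ⟨G, ?_⟩
  rw [← hav, ← hw]
  congr 1
  rw [← hy]
  exact hG

/-- an integral element `P(ζ) / p` is a value `G(ζ)` -/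
theorem exists_poly {p m : ℕ} [hp : Fact p.Prime] {ζ : ℂ} (hζ : IsPrimitiveRoot ζ (p ^ m)) {P : ℤ[X]}
    {z : ℂ} (hz : IsIntegral ℤ z) (h : aeval ζ P = (p : ℂ) * z) : ∃ G : ℤ[X], aeval ζ G = z := by
  have : NeZero (p ^ m) := ⟨pow_ne_zero _ hp.out.ne_zero⟩
  have : NeZero ((p ^ m : ℕ) : ℚ) := ⟨Nat.cast_ne_zero.2 (pow_ne_zero _ hp.out.ne_zero)⟩
  let φ : CyclotomicField (p ^ m) ℚ →+* ℂ := (IsAlgClosed.lift : CyclotomicField (p ^ m) ℚ →ₐ[ℚ] ℂ).toRingHom
  have hcyc : @IsCyclotomicExtension {p ^ m} ℚ (CyclotomicField (p ^ m) ℚ) _ _ DivisionRing.toRatAlgebra := by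
    have h1 := CyclotomicField.isCyclotomicExtension (p ^ m) ℚ
    have h2 : CyclotomicField.algebra (p ^ m) ℚ =
        (DivisionRing.toRatAlgebra : Algebra ℚ (CyclotomicField (p ^ m) ℚ)) :=
      Subsingleton.elim _ _
    rw [← h2]
    exact h1
  exact exists_poly_aux (hcyc := hcyc) φ.toRatAlgHom hζ hz h

/-- the functional `X ^ k ↦ f k` -/
noncomputable def L {p : ℕ} (f : ℕ → ZMod p) : ℤ[X] →ₗ[ℤ] ZMod p :=
  Polynomial.lsum fun k => LinearMap.toSpanSingleton ℤ (ZMod p) (f k)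

theorem L_monomial {p : ℕ} (f : ℕ → ZMod p) (k : ℕ) (a : ℤ) : L f (monomial k a) = a • f k := by
  rw [L, Polynomial.lsum_apply, Polynomial.sum_monomial_index]
  · rfl
  · exact map_zero _

theorem L_X_pow {p : ℕ} (f : ℕ → ZMod p) (k : ℕ) : L f (X ^ k) = f k := by
  rw [← monomial_one_right_eq_X_pow, L_monomial, one_smul]

theorem L_cyclotomic {p : ℕ} [hp : Fact p.Prime] {n : ℕ} {f : ℕ → ZMod p}
    (hf : ∀ j, ∑ i ∈ range p, f (j + i * p ^ n) = 0) (G : ℤ[X]) : L f (cyclotomic (p ^ (n + 1)) ℤ * G) = 0 := by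
  induction G using Polynomial.induction_on' with
  | add P Q hP hQ => rw [mul_add, map_add, hP, hQ, add_zero]
  | monomial j a =>
    rw [cyclotomic_prime_pow_eq_geom_sum hp.out, Finset.sum_mul, map_sum]
    have h1 : ∀ i ∈ range p, L f ((X ^ p ^ n) ^ i * monomial j a) = a • f (j + i * p ^ n) := by
      intro i _
      rw [← pow_mul, X_pow_mul_monomial, L_monomial, mul_comm (p ^ n) i]
    rw [Finset.sum_congr rfl h1, ← Finset.smul_sum, hf, smul_zero]

/-- **functionals on `ℤ[ζ] / p`** -/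
theorem func_eq {p n : ℕ} [hp : Fact p.Prime] {ζ : ℂ} (hζ : IsPrimitiveRoot ζ (p ^ (n + 1))) {f : ℕ → ZMod p}
    (hf : ∀ j, ∑ i ∈ range p, f (j + i * p ^ n) = 0) {ι κ : Type*} (s : Finset ι) (t : Finset κ) (k : ι → ℕ) (l : κ → ℕ)
    {z : ℂ} (hz : IsIntegral ℤ z) (h : ∑ i ∈ s, ζ ^ k i - ∑ i ∈ t, ζ ^ l i = (p : ℂ) * z) :
    ∑ i ∈ s, f (k i) = ∑ i ∈ t, f (l i) := by
  have hpos : 0 < p ^ (n + 1) := pow_pos hp.out.pos _
  obtain ⟨G, hG⟩ := exists_poly hζ (P := ∑ i ∈ s, X ^ k i - ∑ i ∈ t, X ^ l i) hz (by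
    rw [← h, map_sub, map_sum, map_sum]
    simp only [map_pow, aeval_X])
  have h1 : aeval ζ (∑ i ∈ s, X ^ k i - ∑ i ∈ t, X ^ l i - (p : ℤ) • G : ℤ[X]) = 0 := by
    rw [map_sub, map_sub, map_sum, map_sum, map_smul, hG]
    simp only [map_pow, aeval_X]
    rw [h, zsmul_eq_mul, Int.cast_natCast, sub_self]
  have h2 := minpoly.isIntegrallyClosed_dvd (hζ.isIntegral hpos) h1
  rw [← cyclotomic_eq_minpoly hζ hpos] at h2
  obtain ⟨Q, hQ⟩ := h2
  have h3 := L_cyclotomic hf Q
  rw [← hQ, map_sub, map_sub, map_sum, map_sum, map_smul] at h3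
  simp only [L_X_pow] at h3
  rw [zsmul_eq_mul, Int.cast_natCast, CharP.cast_eq_zero, zero_mul, sub_zero, sub_eq_zero] at h3
  exact h3

theorem sum_range_zmod {p : ℕ} [NeZero p] {M : Type*} [AddCommMonoid M] (g : ZMod p → M) (c : ZMod p) :
    ∑ i ∈ range p, g (c + (i : ZMod p)) = ∑ x : ZMod p, g x := by
  rw [← Equiv.sum_comp (Equiv.addLeft c) g]
  refine Finset.sum_nbij' (fun i => (i : ZMod p)) ZMod.val (fun _ _ => mem_univ _)
    (fun x _ => mem_range.2 x.val_lt) (fun i hi => ZMod.val_cast_of_lt (mem_range.1 hi))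
    (fun x _ => ZMod.natCast_zmod_val x) (fun i _ => rfl)

/-- the functional of degree `d` at the class of `r` -/
def fn (p q r d : ℕ) (k : ℕ) : ZMod p := if k % q = r % q then ((k / q : ℕ) : ZMod p) ^ d else 0

theorem fn_sum {p : ℕ} [hp : Fact p.Prime] {q : ℕ} (hq : 0 < q) (r : ℕ) {d : ℕ} (hd : d < p - 1) (j : ℕ) :
    ∑ i ∈ range p, fn p q r d (j + i * q) = 0 := by
  have : NeZero p := ⟨hp.out.ne_zero⟩
  have h1 : ∀ i : ℕ, fn p q r d (j + i * q) = if j % q = r % q then (((j / q : ℕ) : ZMod p) + (i : ZMod p)) ^ d else 0 := by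
    intro i
    rw [fn, Nat.add_mul_mod_self_right, Nat.add_mul_div_right _ _ hq, Nat.cast_add]
  simp only [h1]
  split_ifs with h
  · rw [sum_range_zmod (fun x => x ^ d)]
    have h2 := FiniteField.sum_pow_lt_card_sub_one (K := ZMod p) d (by rwa [ZMod.card])
    exact h2
  · exact Finset.sum_const_zero

section

variable {p n : ℕ} [hp : Fact p.Prime] {ζ : ℂ} (hζ : IsPrimitiveRoot ζ (p ^ (n + 1))) (hn : 1 ≤ n) {u : ℕ} (hu : ¬ p ∣ u)
  {ι : Type*} (s : Finset ι) (k : ι → ℕ) {z : ℂ} (hz : IsIntegral ℤ z)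
  (h : ∑ i ∈ s, ζ ^ k i - ∑ i ∈ s, ζ ^ ((1 + p ^ n * u) * k i) = (p : ℂ) * z)

include hn in
theorem fn_twist (r d j : ℕ) : fn p (p ^ n) r d ((1 + p ^ n * u) * j) =
    if j % p ^ n = r % p ^ n then (((j / p ^ n : ℕ) : ZMod p) + (u * r : ℕ)) ^ d else 0 := by
  have hq : 0 < p ^ n := pow_pos hp.out.pos _
  have e : (1 + p ^ n * u) * j = j + (u * j) * p ^ n := by ring
  rw [fn, e, Nat.add_mul_mod_self_right, Nat.add_mul_div_right _ _ hq, Nat.cast_add]
  split_ifs with h1
  · have h2 : ((j : ℕ) : ZMod p) = ((r : ℕ) : ZMod p) := by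
      rw [ZMod.natCast_eq_natCast_iff]
      have h3 : j ≡ r [MOD p ^ n] := h1
      exact h3.of_dvd (dvd_pow_self p (by omega))
    rw [Nat.cast_mul, Nat.cast_mul, h2]
  · rfl

include hζ hn hu hz h in
/-- **the number of the `k` in a class** -/
theorem count_dvd (hp2 : p ≠ 2) {r : ℕ} (hr : ¬ p ∣ r) : p ∣ (s.filter fun i => k i % p ^ n = r % p ^ n).card := by
  have hq : 0 < p ^ n := pow_pos hp.out.pos _
  have hp3 : 3 ≤ p := by have := hp.out.two_le; omega
  have h1 := func_eq hζ (f := fn p (p ^ n) r 1) (fn_sum hq r (by omega)) s s k (fun i => (1 + p ^ n * u) * k i) hz h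
  simp only [fn_twist hn] at h1
  simp only [fn, pow_one] at h1
  rw [← Finset.sum_filter, ← Finset.sum_filter, Finset.sum_add_distrib, left_eq_add, Finset.sum_const, nsmul_eq_mul] at h1
  rcases mul_eq_zero.1 h1 with h2 | h2
  · exact (ZMod.natCast_eq_zero_iff _ _).1 h2
  · rw [ZMod.natCast_eq_zero_iff] at h2
    rcases (hp.out.dvd_mul).1 h2 with h3 | h3
    · exact absurd h3 hu
    · exact absurd h3 hr

include hζ hn hu hz h in
/-- **the sum of the quotients in a class** -/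
theorem sum_dvd (hp5 : 5 ≤ p) {r : ℕ} (hr : ¬ p ∣ r) :
    p ∣ ∑ i ∈ s.filter (fun i => k i % p ^ n = r % p ^ n), k i / p ^ n := by
  have hq : 0 < p ^ n := pow_pos hp.out.pos _
  have h0 := count_dvd hζ hn hu s k hz h (by omega) hr
  have h1 := func_eq hζ (f := fn p (p ^ n) r 2) (fn_sum hq r (by omega)) s s k (fun i => (1 + p ^ n * u) * k i) hz h
  simp only [fn_twist hn] at h1
  simp only [fn] at h1
  rw [← Finset.sum_filter, ← Finset.sum_filter] at h1
  simp only [add_sq] at h1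
  rw [Finset.sum_add_distrib, Finset.sum_add_distrib, add_assoc, left_eq_add, Finset.sum_const, nsmul_eq_mul,
    (ZMod.natCast_eq_zero_iff _ _).2 h0, zero_mul, add_zero, ← Finset.sum_mul, ← Finset.mul_sum] at h1
  have hur : ((u * r : ℕ) : ZMod p) ≠ 0 := by
    intro h2
    rw [ZMod.natCast_eq_zero_iff] at h2
    rcases (hp.out.dvd_mul).1 h2 with h3 | h3
    · exact hu h3
    · exact hr h3
  have h2 := (mul_eq_zero.1 h1).resolve_right hur
  have h3 : (2 : ZMod p) ≠ 0 := by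
    intro h4
    have h5 : ((2 : ℕ) : ZMod p) = 0 := by exact_mod_cast h4
    rw [ZMod.natCast_eq_zero_iff] at h5
    have := Nat.le_of_dvd (by norm_num) h5
    omega
  have h4 := (mul_eq_zero.1 h2).resolve_left h3
  rw [← Nat.cast_sum, ZMod.natCast_eq_zero_iff] at h4
  exact h4

end

end Cfsg.Agent.H234.HT

private theorem dce_a5dac0fe6d72 : _root_.True := by
  try have : _root_.True := by simp only [_root_.Cfsg.Agent.H234.HT.L.eq_1]
  try have : _root_.True := by simp only [_root_.Cfsg.Agent.H234.HT.fn.eq_1]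
  exact _root_.True.intro
end

-- part: H37/HT/Main
section
prune_inst 0x2e570764512e202080000a086d1207e76d60005b0002b84009ca00e4c0683972249a0e761ad8039254a08a24500390468130000d0424000000e240400011d01a080a856066381a19dc6009f80928c610000008000300000000000000000041004004010000
set_option linter.all false
open scoped Cfsg.Agent.FastGrp

-- part: H37/HT/Trans
section
/-!
# S4933, part (O): transport of the data along an isomorphism (helper37)
-/

set_option autoImplicit false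
set_option linter.unusedSectionVars false

open Cfsg Subgroup

namespace Cfsg.Agent.H37.HT

universe u v

variable {N : Type u} {S : Type v} [Group N] [Group S] {p r f : ℕ}

theorem isP_equiv (e : N ≃* S) {x : N} : IsP p (e x) ↔ IsP p x := by
  constructor
  · rintro ⟨k, hk⟩
    exact ⟨k, e.injective (by rw [map_pow, hk, map_one])⟩
  · rintro ⟨k, hk⟩
    exact ⟨k, by rw [← map_pow, hk, map_one]⟩

/-- the image of a Sylow subgroup -/
def sylEquiv (e : N ≃* S) (P : Sylow p N) : Sylow p S where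
  toSubgroup := (P : Subgroup N).map e.toMonoidHom
  isPGroup' := P.2.map _
  is_maximal' := by
    intro Q hQ hle
    have h1 : IsPGroup p (Q.comap e.toMonoidHom) := hQ.comap_of_injective _ e.injective
    have h2 : (P : Subgroup N) ≤ Q.comap e.toMonoidHom := Subgroup.map_le_iff_le_comap.1 hle
    have h3 := P.3 h1 h2
    rw [← h3, Subgroup.map_comap_eq_self_of_surjective e.surjective]

theorem mem_sylEquiv (e : N ≃* S) (P : Sylow p N) {x : N} (hx : x ∈ (P : Subgroup N)) :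
    e x ∈ (sylEquiv e P : Subgroup S) := ⟨x, hx, rfl⟩

theorem AbSyl.congr (e : N ≃* S) (h : AbSyl p S) : AbSyl p N := by
  intro P x hx y hy
  apply e.injective
  rw [map_mul, map_mul]
  exact h (sylEquiv e P) _ (mem_sylEquiv e P hx) _ (mem_sylEquiv e P hy)

/-- transport of `FD` -/
def FD.comap (e : N ≃* S) (D : FD p r f S) : FD p r f N where
  F := fun x => D.F (e x)
  conj := fun g x => by rw [map_mul, map_mul, map_inv, D.conj]
  lin := fun P => by
    obtain ⟨n, l, hl⟩ := D.lin (sylEquiv e P)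
    refine ⟨n, fun i => (l i).comp
      { toFun := fun x => ⟨e x, mem_sylEquiv e P x.2⟩
        map_one' := Subtype.ext (map_one e)
        map_mul' := fun a b => Subtype.ext (map_mul e _ _) }, fun x => ?_⟩
    exact hl ⟨e x, mem_sylEquiv e P x.2⟩
  frob := fun x hx => by rw [map_pow]; exact D.frob _ ((isP_equiv e).2 hx)

theorem Test.comap (e : N ≃* S) {D : FD p r f S} (h : Test D) : Test (D.comap e) := by
  intro hpf
  obtain ⟨y, hy, hyc⟩ := h hpf
  refine ⟨e.symm y, ?_, ?_⟩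
  · rw [← isP_equiv e, e.apply_symm_apply]; exact hy
  · show ¬ Cong p (D.F (e ((e.symm y) ^ r ^ (f / p)))) (D.F (e (e.symm y)))
    rw [map_pow, e.apply_symm_apply]; exact hyc

/-- transport of automorphisms -/
def autE (e : N ≃* S) : MulAut N ≃* MulAut S := MulAut.congr e

theorem autE_apply (e : N ≃* S) (t : MulAut N) (x : N) : autE e t (e x) = e (t x) := by
  show e (t (e.symm (e x))) = e (t x)
  rw [e.symm_apply_apply]

theorem autE_inn (e : N ≃* S) (t : MulAut N) : autE e t ∈ Inn S ↔ t ∈ Inn N := by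
  constructor
  · rintro ⟨s, hs⟩
    refine ⟨e.symm s, ?_⟩
    apply (autE e).injective
    rw [← hs]
    refine MulEquiv.ext fun x => ?_
    obtain ⟨x, rfl⟩ := e.surjective x
    rw [autE_apply]
    simp only [MulAut.conj_apply, _root_.map_mul, _root_.MulEquiv.apply_symm_apply, _root_.map_inv]
  · rintro ⟨n, hn⟩
    refine ⟨e n, ?_⟩
    rw [← hn]
    refine MulEquiv.ext fun x => ?_
    obtain ⟨x, rfl⟩ := e.surjective x
    rw [autE_apply]
    simp only [MulAut.conj_apply, _root_.map_mul, _root_.map_inv]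

theorem pInn_autE (e : N ≃* S) (t : MulAut N) (h : PInn p t) : PInn p (autE e t) := by
  obtain ⟨k, hk⟩ := h
  refine ⟨k, ?_⟩
  rw [← map_pow]
  exact (autE_inn e _).2 hk

theorem FD.Auts.comap (e : N ≃* S) {D : FD p r f S} (h : D.Auts) : (D.comap e).Auts := by
  obtain ⟨h1, h2, h3⟩ := h
  refine ⟨fun t ht => ?_, fun g t ht x hx => ?_, fun t ht hx => ?_⟩
  · obtain ⟨j, hj⟩ := h1 (autE e t) (pInn_autE e t ht)
    refine ⟨j, fun x hx => ?_⟩
    have := hj (e x) ((isP_equiv e).2 hx)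
    rw [autE_apply] at this
    show D.F (e (t x)) = D.F (e (x ^ r ^ j))
    rw [this, map_pow]
  · have := h2 (autE e g) (autE e t) (pInn_autE e t ht) (e x) ((isP_equiv e).2 hx)
    rw [← map_inv, autE_apply, autE_apply, autE_apply, autE_apply] at this
    exact this
  · rw [← autE_inn e]
    refine h3 _ (pInn_autE e t ht) fun x hx' => ?_
    obtain ⟨x, rfl⟩ := e.surjective x
    rw [autE_apply]
    exact hx x ((isP_equiv e).1 hx')

end Cfsg.Agent.H37.HT
end

-- part: H420/HT/Out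
section
/-!
# S4933, part (O), box O.out (helper420)

`auts_of_card` : the Sylow `p`-subgroup of `Out S` is generated by a power of `φ`.
-/

set_option autoImplicit false

open Subgroup
open scoped Pointwise

namespace Cfsg.Agent.H420.HT

open Cfsg Cfsg.Agent.H37.HT

universe u

variable {p r f : ℕ} {S : Type u} [Group S]

theorem isP_pow {x : S} (h : IsP p x) (n : ℕ) : IsP p (x ^ n) := by
  obtain ⟨k, hk⟩ := h
  exact ⟨k, by rw [← pow_mul, mul_comm, pow_mul, hk, one_pow]⟩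

theorem isP_aut {x : S} (h : IsP p x) (t : MulAut S) : IsP p (t x) := by
  obtain ⟨k, hk⟩ := h
  exact ⟨k, by rw [← map_pow, hk, map_one]⟩

/-- the powers `r ^ n` acting trivially -/
def EE (D : FD p r f S) (n : ℕ) : Prop := ∀ x : S, IsP p x → D.F (x ^ r ^ n) = D.F x

variable {D : FD p r f S}

theorem EE.zero : EE D 0 := fun x _ => by rw [pow_zero, pow_one]

theorem EE.add {n m : ℕ} (h1 : EE D n) (h2 : EE D m) : EE D (n + m) := fun x hx => by
  rw [pow_add, mul_comm, pow_mul, h1 _ (isP_pow hx _), h2 x hx]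

theorem EE.sub {n m : ℕ} (h1 : EE D n) (h2 : EE D (n + m)) : EE D m := fun x hx => by
  have h3 := h2 x hx
  rw [pow_add, mul_comm, pow_mul, h1 _ (isP_pow hx _)] at h3
  exact h3

theorem EE.mul {n : ℕ} (h1 : EE D n) (k : ℕ) : EE D (n * k) := by
  induction k with
  | zero => exact EE.zero
  | succ k ih => rw [mul_add, mul_one]; exact ih.add h1

theorem EE.gcd : ∀ {a b : ℕ}, EE D a → EE D b → EE D (Nat.gcd a b) := by
  intro a
  induction a using Nat.strong_induction_on with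
  | _ a ih =>
    intro b h1 h2
    rcases Nat.eq_zero_or_pos a with rfl | ha
    · rwa [Nat.gcd_zero_left]
    · rw [Nat.gcd_rec]
      refine ih _ (Nat.mod_lt _ ha) ?_ h1
      refine (h1.mul (b / a)).sub ?_
      rwa [Nat.div_add_mod]

theorem EE.dvd {a b : ℕ} (h : EE D a) (hd : a ∣ b) : EE D b := by
  obtain ⟨k, rfl⟩ := hd
  exact h.mul k

/-- the exact power of `p` -/
theorem EE.pow_dvd (hp : p.Prime) (hf : 0 < f) (hT : Test D) {n : ℕ} (h : EE D n) : p ^ f.factorization p ∣ n := by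
  by_contra hcon
  have hE : EE D f := D.frob
  have hg := hE.gcd h
  set g := Nat.gcd f n with hgd
  have hgf : g ∣ f := Nat.gcd_dvd_left _ _
  have hgn : g ∣ n := Nat.gcd_dvd_right _ _
  have hg0 : g ≠ 0 := (Nat.pos_of_dvd_of_pos hgf hf).ne'
  obtain ⟨c, hc⟩ := hgf
  have hc0 : c ≠ 0 := by
    rintro rfl
    omega
  have hpc : p ∣ c := by
    by_contra hpc
    apply hcon
    refine dvd_trans ?_ hgn
    rw [hc, Nat.factorization_mul hg0 hc0, Finsupp.add_apply, Nat.factorization_eq_zero_of_not_dvd hpc, add_zero]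
    exact Nat.ordProj_dvd _ _
  obtain ⟨c', rfl⟩ := hpc
  have hpf : p ∣ f := by rw [hc]; exact (dvd_mul_right _ _).mul_left _
  obtain ⟨y, hy, hy2⟩ := hT hpf
  have h3 : f / p = g * c' := by
    rw [hc, show g * (p * c') = p * (g * c') by ring]
    exact Nat.mul_div_cancel_left _ hp.pos
  have h4 : EE D (f / p) := by rw [h3]; exact hg.mul c'
  apply hy2
  refine ⟨0, isIntegral_zero, ?_⟩
  rw [h4 y hy, sub_self, mul_zero]

/-- powers of the conjugates of `φ` -/
theorem conj_pow_apply {φ : MulAut S} (hφ : ∀ x : S, IsP p x → D.F (φ x) = D.F (x ^ r))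
    (hc : ∀ (g : MulAut S) (x : S), IsP p x → D.F (g (φ (g⁻¹ x))) = D.F (φ x)) (g : MulAut S) (n : ℕ) :
    ∀ x : S, IsP p x → D.F (((g * φ * g⁻¹) ^ n) x) = D.F (x ^ r ^ n) := by
  induction n with
  | zero => intro x _; rw [pow_zero, pow_zero, pow_one]; rfl
  | succ n ih =>
    intro x hx
    set ψ := g * φ * g⁻¹ with hψ
    have h1 : (ψ ^ (n + 1)) x = ψ ((ψ ^ n) x) := by rw [pow_succ']; rfl
    have h2 : ∀ z : S, IsP p z → D.F (ψ z) = D.F (z ^ r) := fun z hz => by
      rw [← hφ z hz, ← hc g z hz]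
      rfl
    rw [h1, h2 _ (isP_aut hx _), ← map_pow, ih _ (isP_pow hx _), ← pow_mul, pow_succ']

theorem map_inn (s x : S) : D.F ((MulAut.conj s) x) = D.F x := by
  rw [MulAut.conj_apply, D.conj]

/-- BOX O.out: the Sylow p-subgroup of Out S is generated by a power of φ -/
theorem auts_of_card {p : ℕ} [Fact p.Prime] {r f : ℕ} {S : Type u} [Group S] [Finite S] (hr : ¬ p ∣ r) (hf : 0 < f)
    (D : FD p r f S) (hT : Test D) (hout : (Nat.card (Out S)).factorization p ≤ f.factorization p)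
    (φ : MulAut S) (hφ : ∀ x : S, IsP p x → D.F (φ x) = D.F (x ^ r)) (hφf : ∃ k : ℕ, ¬ p ∣ k ∧ φ ^ (k * f) ∈ Inn S)
    (hc : ∀ (g : MulAut S) (x : S), IsP p x → D.F (g (φ (g⁻¹ x))) = D.F (φ x)) : D.Auts := by
  have hp : p.Prime := Fact.out
  have hfin : Finite (MulAut S) := Finite.of_injective (fun t : MulAut S => (t : S → S)) fun a b h => by
    ext x
    exact congrFun h x
  let q : MulAut S →* Out S := QuotientGroup.mk' (Inn S)
  have hq : ∀ t : MulAut S, q t = 1 ↔ t ∈ Inn S := fun t => QuotientGroup.eq_one_iff t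
  set c := f.factorization p with hcdef
  set! o := orderOf (q φ) with ho
  have hopos : 0 < o := (orderOf_pos _ : _)
  have hφn : ∀ n : ℕ, ∀ x : S, IsP p x → D.F ((φ ^ n) x) = D.F (x ^ r ^ n) := by
    intro n x hx
    have h1 := conj_pow_apply hφ hc 1 n x hx
    rwa [one_mul, inv_one, mul_one] at h1
  have hinn : ∀ t : MulAut S, t ∈ Inn S → ∀ x : S, D.F (t x) = D.F x := by
    rintro _ ⟨s, rfl⟩ x
    exact map_inn s x
  -- the order of `φ` modulo the inner automorphisms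
  have ho1 : p ^ c ∣ o := by
    refine EE.pow_dvd (D := D) hp hf hT fun x hx => ?_
    rw [← hφn o x hx]
    refine hinn _ ((hq _).1 ?_) x
    rw [map_pow, ho, pow_orderOf_eq_one]
  have ho2 : o.factorization p ≤ c := by
    obtain ⟨k, hk, hk2⟩ := hφf
    have h1 : o ∣ k * f := by
      rw [ho]
      refine orderOf_dvd_of_pow_eq_one ?_
      rw [← map_pow]
      exact (hq _).2 hk2
    have hk0 : k ≠ 0 := by rintro rfl; exact hk (dvd_zero p)
    have h2 := (Nat.factorization_le_iff_dvd hopos.ne' (mul_ne_zero hk0 hf.ne')).2 h1 p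
    rwa [Nat.factorization_mul hk0 hf.ne', Finsupp.add_apply, Nat.factorization_eq_zero_of_not_dvd hk, zero_add] at h2
  obtain ⟨w, hw⟩ := ho1
  have hw0 : w ≠ 0 := by rintro rfl; omega
  have hpw : ¬ p ∣ w := by
    intro hd
    have h1 : p ^ (c + 1) ∣ o := by
      rw [hw, pow_succ]
      exact mul_dvd_mul_left _ hd
    have h2 := (hp.pow_dvd_iff_le_factorization hopos.ne').1 h1
    omega
  have hord : orderOf (q φ ^ w) = p ^ c := by
    rw [orderOf_pow' _ hw0, ← ho, hw, Nat.gcd_eq_right (dvd_mul_left _ _)]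
    exact Nat.mul_div_cancel _ (Nat.pos_of_ne_zero hw0)
  -- the form of the `p`-elements
  have key : ∀ t : MulAut S, PInn p t → ∃ (g : MulAut S) (i : ℕ) (s : S),
      t = (g * φ * g⁻¹) ^ (w * i) * MulAut.conj s := by
    rintro t ⟨k, hk⟩
    have hZ : IsPGroup p (Subgroup.zpowers (q t)) := by
      rw [IsPGroup.iff_card]
      have h1 : orderOf (q t) ∣ p ^ k := orderOf_dvd_of_pow_eq_one (by rw [← map_pow]; exact (hq _).2 hk)
      obtain ⟨j, -, hj⟩ := (Nat.dvd_prime_pow hp).1 h1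
      exact ⟨j, by rw [Nat.card_zpowers, hj]⟩
    have hZ' : IsPGroup p (Subgroup.zpowers (q φ ^ w)) := by
      rw [IsPGroup.iff_card]
      exact ⟨c, by rw [Nat.card_zpowers, hord]⟩
    obtain ⟨Q, hQ⟩ := hZ.exists_le_sylow
    obtain ⟨R, hR⟩ := hZ'.exists_le_sylow
    have hRe : (R : Subgroup (Out S)) = Subgroup.zpowers (q φ ^ w) := by
      symm
      refine Subgroup.eq_of_le_of_card_ge hR ?_
      rw [R.card_eq_multiplicity, Nat.card_zpowers, hord]
      exact Nat.pow_le_pow_right hp.pos hout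
    obtain ⟨g, hg⟩ := MulAction.exists_smul_eq (Out S) R Q
    have h1 : q t ∈ (g • R : Sylow p (Out S)) := by
      rw [hg]
      exact hQ (Subgroup.mem_zpowers _)
    have h2 : g⁻¹ * q t * g ∈ (R : Subgroup (Out S)) := by
      have h3 : q t ∈ ((MulAut.conj g • (R : Subgroup (Out S)) : Subgroup (Out S))) := h1
      rw [Subgroup.mem_pointwise_smul_iff_inv_smul_mem] at h3
      simpa only [MulAut.smul_def, MulAut.conj_inv_apply, _root_.MulAut.inv_apply, _root_.MulAut.conj_symm_apply] using h3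
    rw [hRe] at h2
    obtain ⟨i, hi⟩ := (mem_powers_iff_mem_zpowers (x := q φ ^ w)).2 h2
    obtain ⟨g', rfl⟩ := QuotientGroup.mk'_surjective (Inn S) g
    have h3 : q t = q ((g' * φ * g'⁻¹) ^ (w * i)) := by
      have h4 : q t = q g' * (q φ ^ w) ^ i * (q g')⁻¹ := by
        have h5 : (q φ ^ w) ^ i = (q g')⁻¹ * q t * q g' := hi
        rw [h5]
        group
      rw [h4, map_pow, map_mul, map_mul, map_inv, conj_pow, pow_mul]
    have h4 : ((g' * φ * g'⁻¹) ^ (w * i))⁻¹ * t ∈ Inn S := by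
      rw [← hq, map_mul, map_inv, h3, inv_mul_cancel]
    obtain ⟨s, hs⟩ := h4
    exact ⟨g', i, s, by rw [hs]; group⟩
  have act : ∀ (g : MulAut S) (n : ℕ) (s x : S), IsP p x →
      D.F (((g * φ * g⁻¹) ^ n * MulAut.conj s) x) = D.F (x ^ r ^ n) := by
    intro g n s x hx
    have h1 : ((g * φ * g⁻¹) ^ n * MulAut.conj s) x = ((g * φ * g⁻¹) ^ n) (MulAut.conj s x) := rfl
    rw [h1, conj_pow_apply hφ hc g n _ (isP_aut hx _), ← map_pow, map_inn]
  refine ⟨fun t ht => ?_, fun g t ht x hx => ?_, fun t ht h => ?_⟩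
  · obtain ⟨g, i, s, rfl⟩ := key t ht
    exact ⟨w * i, fun x hx => act g _ s x hx⟩
  · obtain ⟨h, i, s, rfl⟩ := key t ht
    rw [act h _ s x hx]
    have h1 : g (((h * φ * h⁻¹) ^ (w * i) * MulAut.conj s) (g⁻¹ x)) =
        (((g * h) * φ * (g * h)⁻¹) ^ (w * i) * MulAut.conj (g s)) x := by
      have h2 : ((g * h) * φ * (g * h)⁻¹) ^ (w * i) = g * (h * φ * h⁻¹) ^ (w * i) * g⁻¹ := by
        rw [conj_pow, conj_pow]
        group
      have h3 : MulAut.conj (g s) = g * MulAut.conj s * g⁻¹ := by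
        ext z
        show g s * z * (g s)⁻¹ = g (s * (g⁻¹ z) * s⁻¹)
        rw [map_mul, map_mul, map_inv]
        congr 2
        exact (MulAut.apply_inv_self S g z).symm
      rw [h2, h3]
      have h4 : g * (h * φ * h⁻¹) ^ (w * i) * g⁻¹ * (g * MulAut.conj s * g⁻¹) =
          g * ((h * φ * h⁻¹) ^ (w * i) * MulAut.conj s) * g⁻¹ := by group
      rw [h4]
      rfl
    rw [h1, act _ _ _ x hx]
  · obtain ⟨g, i, s, rfl⟩ := key t ht
    have h1 : EE D (w * i) := fun x hx => by rw [← act g _ s x hx]; exact h x hx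
    have h2 := h1.pow_dvd hp hf hT
    have h3 : p ^ c ∣ i := (Nat.Coprime.pow_left c ((Nat.Prime.coprime_iff_not_dvd hp).2 hpw)).dvd_of_dvd_mul_left h2
    have h4 : q φ ^ (w * i) = 1 := by
      rw [← orderOf_dvd_iff_pow_eq_one, ← ho, hw, mul_comm]
      exact mul_dvd_mul_left w h3
    rw [← hq, map_mul, map_pow, map_mul, map_mul, map_inv, conj_pow, h4, mul_one, mul_inv_cancel, one_mul]
    exact (hq _).2 ⟨s, rfl⟩

end Cfsg.Agent.H420.HT
end

-- part: H234/HT/Kappa
section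
/-!
# S4933, part (O): the number `κ = q₁ q ^ (e - 1)`, `q = q₁ ^ p` (helper234)
-/

set_option autoImplicit false

namespace Cfsg.Agent.H234.HT

/-- `κ = 1 + p ^ m * u`, `p ∤ u` -/
theorem kappa {p q1 e m : ℕ} [hp : Fact p.Prime] (hp2 : p ≠ 2) (hq : ¬ p ∣ q1)
    (he : orderOf (((q1 ^ p : ℕ)) : ZMod p) = e) (h1 : p ^ (m + 1) ∣ (q1 ^ p) ^ e - 1)
    (h2 : ¬ p ^ (m + 2) ∣ (q1 ^ p) ^ e - 1) : ∃ u : ℕ, ¬ p ∣ u ∧ q1 * (q1 ^ p) ^ (e - 1) = 1 + p ^ m * u := by
  have hodd : Odd p := hp.out.odd_of_ne_two hp2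
  have hq0 : q1 ≠ 0 := by
    rintro rfl
    exact hq (dvd_zero p)
  have hq1 : q1 ≠ 1 := by
    rintro rfl
    simp at h2
  have hq2 : 2 ≤ q1 := by omega
  have hunit : ((q1 ^ p : ℕ) : ZMod p) ≠ 0 := by
    rw [Ne, ZMod.natCast_eq_zero_iff]
    intro h
    exact hq (hp.out.dvd_of_dvd_pow h)
  have hep : e ∣ p - 1 := by
    rw [← he]
    exact orderOf_dvd_of_pow_eq_one (ZMod.pow_card_sub_one_eq_one hunit)
  have he0 : 0 < e := Nat.pos_of_ne_zero (by
    rintro rfl
    rw [Nat.zero_dvd] at hep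
    have := hp.out.two_le
    omega)
  obtain ⟨d, hd⟩ := hep
  set X := q1 * (q1 ^ p) ^ (e - 1) with hX
  obtain ⟨e', rfl⟩ : ∃ e', e = e' + 1 := ⟨e - 1, by omega⟩
  rw [Nat.add_sub_cancel] at hX
  set! s := 1 + d * e' with hs
  -- `X ^ p = (q ^ e) ^ s`
  have hes : (e' + 1) * s = 1 + p * e' := by
    have hp1 : p = (e' + 1) * d + 1 := by have := hp.out.two_le; omega
    calc (e' + 1) * s = (e' + 1) + ((e' + 1) * d) * e' := by rw [hs]; ring
      _ = 1 + ((e' + 1) * d + 1) * e' := by ring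
      _ = 1 + p * e' := by rw [← hp1]
  have hXp : X ^ p = ((q1 ^ p) ^ (e' + 1)) ^ s := by
    rw [← pow_mul (q1 ^ p), hes, hX, mul_pow, pow_add, pow_one, ← pow_mul (q1 ^ p), mul_comm e' p]
  have hps : ¬ p ∣ s := by
    intro h
    have h3 : p ∣ 1 + p * e' := hes ▸ h.mul_left (e' + 1)
    have h4 := (Nat.dvd_add_left (dvd_mul_right p e')).1 h3
    exact hp.out.one_lt.ne' (Nat.dvd_one.1 h4)
  have hX2 : 2 ≤ X := by
    have h3 : 1 ≤ (q1 ^ p) ^ e' := Nat.one_le_pow _ _ (Nat.pow_pos (by omega))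
    calc 2 ≤ q1 := hq2
      _ = q1 * 1 := (mul_one _).symm
      _ ≤ X := Nat.mul_le_mul_left _ h3
  have hpX : ¬ p ∣ X := by
    intro h
    rcases (hp.out.dvd_mul).1 h with h3 | h3
    · exact hq h3
    · exact hq (hp.out.dvd_of_dvd_pow (hp.out.dvd_of_dvd_pow h3))
  have hY2 : 1 < (q1 ^ p) ^ (e' + 1) := Nat.one_lt_pow (by omega) (Nat.one_lt_pow hp.out.ne_zero (by omega))
  have hpY : p ∣ (q1 ^ p) ^ (e' + 1) - 1 := (dvd_pow_self p (by omega)).trans h1
  have hpY' : ¬ p ∣ (q1 ^ p) ^ (e' + 1) := fun h => hq (hp.out.dvd_of_dvd_pow (hp.out.dvd_of_dvd_pow h))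
  have hv1 : padicValNat p ((q1 ^ p) ^ (e' + 1) - 1) = m + 1 := by
    have hne : (q1 ^ p) ^ (e' + 1) - 1 ≠ 0 := by omega
    have h3 : m + 1 ≤ padicValNat p ((q1 ^ p) ^ (e' + 1) - 1) := (padicValNat_dvd_iff_le hne).1 h1
    have h4 : ¬ m + 2 ≤ padicValNat p ((q1 ^ p) ^ (e' + 1) - 1) := fun h => h2 ((padicValNat_dvd_iff_le hne).2 h)
    omega
  have hs0 : s ≠ 0 := by omega
  have hv2 := padicValNat.pow_sub_pow hodd hY2 hpY hpY' hs0
  rw [one_pow, hv1, padicValNat.eq_zero_of_not_dvd hps, add_zero, ← hXp] at hv2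
  -- `X = 1` modulo `p`
  have hX1 : p ∣ X - 1 := by
    have h3 : p ∣ X ^ p - 1 := by
      rw [hXp]
      have h5 := Nat.sub_dvd_pow_sub_pow ((q1 ^ p) ^ (e' + 1)) 1 s
      rw [one_pow] at h5
      exact hpY.trans h5
    have h4 : ((X : ℕ) : ZMod p) = 1 := by
      have h5 : ((X ^ p - 1 : ℕ) : ZMod p) = 0 := (ZMod.natCast_eq_zero_iff _ _).2 h3
      rw [Nat.cast_sub (Nat.one_le_pow _ _ (by omega)), Nat.cast_pow, ZMod.pow_card, Nat.cast_one, sub_eq_zero] at h5
      exact h5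
    rw [← ZMod.natCast_eq_zero_iff, Nat.cast_sub (by omega), h4, Nat.cast_one, sub_self]
  have hv3 := padicValNat.pow_sub_pow hodd (show 1 < X by omega) hX1 hpX hp.out.ne_zero
  rw [one_pow, hv2, padicValNat.self hp.out.one_lt] at hv3
  have hv4 : padicValNat p (X - 1) = m := by omega
  have hXne : X - 1 ≠ 0 := by omega
  obtain ⟨u, hu⟩ : p ^ m ∣ X - 1 := (padicValNat_dvd_iff_le hXne).2 hv4.ge
  refine ⟨u, fun h => ?_, by omega⟩
  obtain ⟨v, rfl⟩ := h
  have h3 : p ^ (m + 1) ∣ X - 1 := ⟨v, by rw [hu]; ring⟩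
  have h4 := (padicValNat_dvd_iff_le hXne).1 h3
  omega

end Cfsg.Agent.H234.HT
end

-- part: H234/HT/Ed
section
/-!
# S4933, part (O), box O.num (helper234)

`exists_fd` : from the eigenvalues (`ED`) and the element (`EY`) to the class function (`FD`) with `Test`.
-/

set_option autoImplicit false

open Subgroup

namespace Cfsg.Agent.H234.HT

open Cfsg Cfsg.Agent.H37.HT

universe u v

section iota

variable {K : Type v} [Field K] {N : ℕ} (θ : rootsOfUnity N K ≃* rootsOfUnity N ℂ)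

open Classical in
/-- the lift of the `N`-th roots of unity -/
noncomputable def iota (a : K) : ℂ :=
  if h : ∃ u : rootsOfUnity N K, ((u : Kˣ) : K) = a then ((θ h.choose : ℂˣ) : ℂ) else 0

theorem iota_coe (u : rootsOfUnity N K) : iota θ ((u : Kˣ) : K) = ((θ u : ℂˣ) : ℂ) := by
  have h : ∃ w : rootsOfUnity N K, ((w : Kˣ) : K) = ((u : Kˣ) : K) := ⟨u, rfl⟩
  rw [iota, dif_pos h]
  have h1 : h.choose = u := Subtype.ext (Units.ext h.choose_spec)
  rw [h1]

theorem exists_root {a : K} (hN : N ≠ 0) (ha : a ^ N = 1) : ∃ u : rootsOfUnity N K, ((u : Kˣ) : K) = a :=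
  ⟨⟨Units.ofPowEqOne a N ha hN, by
    rw [mem_rootsOfUnity]
    exact Units.pow_ofPowEqOne ha hN⟩, rfl⟩

theorem iota_pow {a : K} (hN : N ≠ 0) (ha : a ^ N = 1) (k : ℕ) : iota θ (a ^ k) = iota θ a ^ k := by
  obtain ⟨u, rfl⟩ := exists_root hN ha
  have h1 : ((u : Kˣ) : K) ^ k = (((u ^ k : rootsOfUnity N K) : Kˣ) : K) := by
    rw [Subgroup.coe_pow, Units.val_pow_eq_pow_val]
  rw [h1, iota_coe, iota_coe, map_pow, Subgroup.coe_pow, Units.val_pow_eq_pow_val]

theorem iota_prim {a : K} (hN : N ≠ 0) {n : ℕ} (hn : n ∣ N) (ha : IsPrimitiveRoot a n) :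
    IsPrimitiveRoot (iota θ a) n := by
  obtain ⟨c, hc⟩ := hn
  obtain ⟨u, rfl⟩ := exists_root hN (show a ^ N = 1 by rw [hc, pow_mul, ha.pow_eq_one, one_pow])
  rw [iota_coe]
  have h1 : IsPrimitiveRoot u n := by
    rw [← IsPrimitiveRoot.coe_submonoidClass_iff, ← IsPrimitiveRoot.coe_units_iff]
    exact ha
  have h2 : IsPrimitiveRoot (θ u) n := h1.map_of_injective (f := θ) θ.injective
  rw [← IsPrimitiveRoot.coe_submonoidClass_iff, ← IsPrimitiveRoot.coe_units_iff] at h2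
  exact h2

end iota

section

variable {p r f : ℕ} {S : Type u} [Group S] {K : Type v} [Field K]

theorem IsP.pow {x : S} (hx : IsP p x) (k : ℕ) : IsP p (x ^ k) := by
  obtain ⟨n, hn⟩ := hx
  exact ⟨n, by rw [← pow_mul, mul_comm, pow_mul, hn, one_pow]⟩

theorem isP_conj {x : S} (g : S) : IsP p (g * x * g⁻¹) ↔ IsP p x := by
  constructor
  · rintro ⟨n, hn⟩
    refine ⟨n, ?_⟩
    rw [conj_pow, mul_inv_eq_one] at hn
    exact mul_left_cancel (hn.trans (mul_one g).symm)
  · rintro ⟨n, hn⟩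
    exact ⟨n, by rw [conj_pow, hn, mul_one, mul_inv_cancel]⟩

theorem exists_sylow [Finite S] {x : S} (hx : IsP p x) : ∃ P : Sylow p S, x ∈ (P : Subgroup S) := by
  have h1 : IsPGroup p (zpowers x) := by
    rintro ⟨g, hg⟩
    obtain ⟨i, rfl⟩ := Subgroup.mem_zpowers_iff.1 hg
    obtain ⟨n, hn⟩ := hx
    refine ⟨n, Subtype.ext ?_⟩
    show (x ^ i) ^ p ^ n = 1
    rw [← zpow_natCast, ← zpow_mul, mul_comm, zpow_mul, zpow_natCast, hn, one_zpow]
  obtain ⟨P, hP⟩ := h1.exists_le_sylow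
  exact ⟨P, hP (Subgroup.mem_zpowers x)⟩

theorem E_pow [Finite S] (E : ED p r f S K) {x : S} (hx : IsP p x) (k : ℕ) :
    E.E (x ^ k) = (E.E x).map fun a => a ^ k := by
  obtain ⟨P, hP⟩ := exists_sylow hx
  obtain ⟨n, l, hl⟩ := E.lin P
  have h1 := hl ⟨x, hP⟩
  have h2 := hl (⟨x, hP⟩ ^ k)
  change E.E x = _ at h1
  change E.E (x ^ k) = _ at h2
  rw [h1, h2, Multiset.map_map]
  refine Multiset.map_congr rfl fun i _ => ?_
  simp only [map_pow, Units.val_pow_eq_pow_val, Function.comp_apply]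

theorem E_root [Finite S] [Fact p.Prime] (E : ED p r f S K) {x : S} (hx : IsP p x) {N : ℕ}
    (hN : p ^ (Nat.card S).factorization p ∣ N) {a : K} (ha : a ∈ E.E x) : a ^ N = 1 := by
  obtain ⟨P, hP⟩ := exists_sylow hx
  obtain ⟨n, l, hl⟩ := E.lin P
  have h1 := hl ⟨x, hP⟩
  change E.E x = _ at h1
  rw [h1, Multiset.mem_map] at ha
  obtain ⟨i, -, rfl⟩ := ha
  have h2 : (⟨x, hP⟩ : (P : Subgroup S)) ^ N = 1 := by
    obtain ⟨c, rfl⟩ := hN
    rw [pow_mul, ← Sylow.card_eq_multiplicity P, pow_card_eq_one', one_pow]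
  rw [← Units.val_pow_eq_pow_val, ← map_pow, h2, map_one, Units.val_one]

/-- the sum of the lifts -/
noncomputable def Fs (E : S → Multiset K) {N : ℕ} (θ : rootsOfUnity N K ≃* rootsOfUnity N ℂ) (x : S) : ℂ :=
  ((E x).map (iota θ)).sum

open Classical in
/-- the class function -/
noncomputable def FF (p : ℕ) (E : S → Multiset K) {N : ℕ} (θ : rootsOfUnity N K ≃* rootsOfUnity N ℂ) (x : S) : ℂ :=
  if IsP p x then Fs E θ x else 0

theorem FF_of {E : S → Multiset K} {N : ℕ} {θ : rootsOfUnity N K ≃* rootsOfUnity N ℂ} {x : S} (hx : IsP p x) :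
    FF p E θ x = Fs E θ x := if_pos hx

/-- the datum -/
noncomputable def fd [Finite S] [hp : Fact p.Prime] (E : ED p r f S K) {N : ℕ} (hN0 : N ≠ 0)
    (hN : p ^ (Nat.card S).factorization p ∣ N) (θ : rootsOfUnity N K ≃* rootsOfUnity N ℂ) : FD p r f S where
  F := FF p E.E θ
  conj g x := by
    by_cases hx : IsP p x
    · rw [FF_of hx, FF_of ((isP_conj g).2 hx), Fs, Fs, E.conj g x hx]
    · rw [FF, FF, if_neg hx, if_neg fun h => hx ((isP_conj g).1 h)]
  lin P := by
    obtain ⟨n, l, hl⟩ := E.lin P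
    have hr : ∀ i (x : (P : Subgroup S)), l i x ∈ rootsOfUnity N K := by
      intro i x
      rw [mem_rootsOfUnity]
      have h2 : x ^ N = 1 := by
        obtain ⟨c, rfl⟩ := hN
        rw [pow_mul, ← Sylow.card_eq_multiplicity P, pow_card_eq_one', one_pow]
      rw [← map_pow, h2, map_one]
    refine ⟨n, fun i => (rootsOfUnity N ℂ).subtype.comp (θ.toMonoidHom.comp ((l i).codRestrict _ (hr i))), fun x => ?_⟩
    have hx : IsP p (x : S) := by
      obtain ⟨k, hk⟩ := P.2 x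
      exact ⟨k, congrArg Subtype.val hk⟩
    rw [FF_of hx, Fs, hl x, Multiset.map_map]
    refine Finset.sum_congr rfl fun i _ => ?_
    exact iota_coe θ ⟨l i x, hr i x⟩
  frob x hx := by
    rw [FF_of hx, FF_of (IsP.pow hx _), Fs, Fs, E_pow E hx, E.frob x hx]

theorem fd_F [Finite S] [Fact p.Prime] (E : ED p r f S K) {N : ℕ} (hN0 : N ≠ 0)
    (hN : p ^ (Nat.card S).factorization p ∣ N) (θ : rootsOfUnity N K ≃* rootsOfUnity N ℂ) {x : S} (hx : IsP p x) :
    (fd E hN0 hN θ).F x = Fs E.E θ x := FF_of hx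

end

theorem Fs_pow {p r f : ℕ} {S : Type u} [Group S] {K : Type v} [Field K] [Finite S] [Fact p.Prime]
    (E : ED p r f S K) {N : ℕ} (hN0 : N ≠ 0)
    (hN : p ^ (Nat.card S).factorization p ∣ N) (θ : rootsOfUnity N K ≃* rootsOfUnity N ℂ) {x : S} (hx : IsP p x) (k : ℕ) :
    Fs E.E θ (x ^ k) = ((E.E x).map fun a => iota θ a ^ k).sum := by
  rw [Fs, E_pow E hx, Multiset.map_map]
  refine congrArg Multiset.sum (Multiset.map_congr rfl fun a ha => ?_)
  exact iota_pow θ hN0 (E_root E hx hN ha) k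

/-- **box O.num** -/
theorem exists_fd {p : ℕ} [hp : Fact p.Prime] (hp2 : p ≠ 2) {r f : ℕ} (hr : r.Prime) (hrp : r ≠ p) (hf : 0 < f)
    {S : Type u} [Group S] [Finite S] {K : Type v} [Field K] [CharP K r] [IsAlgClosed K] (E : ED p r f S K) (hy : EY E) :
    ∃ D : FD p r f S, Test D ∧
      (∀ (x y : S) (k : ℕ), IsP p x → IsP p y → E.E x = ((E.E y).map fun a => a ^ k) → D.F x = D.F (y ^ k)) := by
  classical
  obtain ⟨e, he⟩ : ∃ e, orderOf ((r ^ f : ℕ) : ZMod p) = e := ⟨_, rfl⟩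
  set! L := (Nat.card S).factorization p + padicValNat p ((r ^ f) ^ e - 1) with hL
  set! N := p ^ L with hNdef
  have hN0 : N ≠ 0 := pow_ne_zero _ hp.out.ne_zero
  have hN : p ^ (Nat.card S).factorization p ∣ N := pow_dvd_pow p (Nat.le_add_right _ _)
  have hNz : NeZero N := ⟨hN0⟩
  have hpK : (p : K) ≠ 0 := by
    intro h
    have h1 := (CharP.cast_eq_zero_iff K r p).1 h
    exact hrp ((Nat.prime_dvd_prime_iff_eq hr hp.out).1 h1)
  have hNK : NeZero ((N : ℕ) : K) := ⟨by rw [hNdef, Nat.cast_pow]; exact pow_ne_zero _ hpK⟩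
  have hNC : NeZero ((N : ℕ) : ℂ) := ⟨Nat.cast_ne_zero.2 hN0⟩
  have θ : rootsOfUnity N K ≃* rootsOfUnity N ℂ := mulEquivOfCyclicCardEq (by
    rw [HasEnoughRootsOfUnity.natCard_rootsOfUnity, HasEnoughRootsOfUnity.natCard_rootsOfUnity])
  refine ⟨fd E hN0 hN θ, ?_, ?_⟩
  · intro hpf
    obtain ⟨g, rfl⟩ := hpf
    have hg : p * g / p = g := Nat.mul_div_cancel_left g hp.out.pos
    rw [hg]
    have hq : r ^ (p * g) = (r ^ g) ^ p := by rw [← pow_mul, mul_comm]
    have hprg : ¬ p ∣ r ^ g := fun h =>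
      hrp ((Nat.prime_dvd_prime_iff_eq hp.out hr).1 (hp.out.dvd_of_dvd_pow h)).symm
    have hg0 : g ≠ 0 := by
      rintro rfl
      simp at hf
    have hunit : ((r ^ (p * g) : ℕ) : ZMod p) ≠ 0 := by
      rw [Ne, ZMod.natCast_eq_zero_iff, hq]
      exact fun h => hprg (hp.out.dvd_of_dvd_pow h)
    have hep : e ∣ p - 1 := by
      rw [← he]
      exact orderOf_dvd_of_pow_eq_one (ZMod.pow_card_sub_one_eq_one hunit)
    have he0 : 0 < e := Nat.pos_of_ne_zero (by
      rintro rfl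
      rw [Nat.zero_dvd] at hep
      have := hp.out.two_le
      omega)
    -- `p` divides `q₁ ^ e - 1`
    have hrg2 : 2 ≤ r ^ g := by
      calc 2 ≤ r := hr.two_le
        _ = r ^ 1 := (pow_one r).symm
        _ ≤ r ^ g := Nat.pow_le_pow_right hr.pos (Nat.pos_of_ne_zero hg0)
    have h1 : p ∣ (r ^ g) ^ e - 1 := by
      have h2 : (((r ^ g) ^ e : ℕ) : ZMod p) = 1 := by
        have h3 := pow_orderOf_eq_one ((r ^ (p * g) : ℕ) : ZMod p)
        rw [he, hq, Nat.cast_pow, ZMod.pow_card, ← Nat.cast_pow] at h3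
        exact h3
      rw [← ZMod.natCast_eq_zero_iff, Nat.cast_sub (Nat.one_le_pow _ _ (by omega)), h2, Nat.cast_one, sub_self]
    have hY : 1 < (r ^ g) ^ e := Nat.one_lt_pow he0.ne' (by omega)
    have h3 := padicValNat.pow_sub_pow (hp.out.odd_of_ne_two hp2) hY h1
      (fun h => hprg (hp.out.dvd_of_dvd_pow h)) hp.out.ne_zero
    rw [one_pow, padicValNat.self hp.out.one_lt] at h3
    have h4 : ((r ^ g) ^ e) ^ p = (r ^ (p * g)) ^ e := by
      simp only [← pow_mul]
      congr 1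
      ring
    rw [h4] at h3
    have h5 : 1 ≤ padicValNat p ((r ^ g) ^ e - 1) := one_le_padicValNat_of_dvd (by omega) h1
    obtain ⟨m, hm⟩ : ∃ m, padicValNat p ((r ^ (p * g)) ^ e - 1) = m + 1 := ⟨padicValNat p ((r ^ g) ^ e - 1), h3⟩
    have hm1 : 1 ≤ m := by omega
    have hne : (r ^ (p * g)) ^ e - 1 ≠ 0 := by
      intro h
      rw [h, padicValNat_zero_right] at hm
      omega
    have hd1 : p ^ (m + 1) ∣ (r ^ (p * g)) ^ e - 1 := (padicValNat_dvd_iff_le hne).2 hm.ge
    have hd2 : ¬ p ^ (m + 2) ∣ (r ^ (p * g)) ^ e - 1 := fun h => by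
      have := (padicValNat_dvd_iff_le hne).1 h
      omega
    have hdN : p ^ (m + 1) ∣ N := by
      rw [hNdef, hL, hm]
      exact pow_dvd_pow p (Nat.le_add_left _ _)
    have hmK : NeZero ((p ^ (m + 1) : ℕ) : K) := ⟨by rw [Nat.cast_pow]; exact pow_ne_zero _ hpK⟩
    have hmz : NeZero (p ^ (m + 1)) := ⟨pow_ne_zero _ hp.out.ne_zero⟩
    obtain ⟨ω, hω⟩ := HasEnoughRootsOfUnity.exists_primitiveRoot K (p ^ (m + 1))
    obtain ⟨y, s, r₀, hyP, hyE, hr0, hcnt⟩ := hy ⟨g, rfl⟩ e m ω he0 he hm1 hd1 hd2 hω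
    refine ⟨y, hyP, ?_⟩
    set! ζ := iota θ ω with hζdef
    have hζ : IsPrimitiveRoot ζ (p ^ (m + 1)) := iota_prim θ hN0 hdN hω
    have hωN : ω ^ N = 1 := by
      obtain ⟨c, hc⟩ := hdN
      rw [hc, pow_mul, hω.pow_eq_one, one_pow]
    have hF : ∀ k : ℕ, (fd E hN0 hN θ).F (y ^ k) = (s.map fun j => ζ ^ (k * j)).sum := by
      intro k
      rw [fd_F E hN0 hN θ (IsP.pow hyP k), Fs_pow E hN0 hN θ hyP, hyE, Multiset.map_map]
      refine congrArg Multiset.sum (Multiset.map_congr rfl fun j _ => ?_)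
      simp only [Function.comp_apply]
      rw [iota_pow θ hN0 hωN, ← pow_mul, mul_comm]
    -- `q` acts trivially
    have hfr : ∀ t : ℕ, (fd E hN0 hN θ).F (y ^ (r ^ g * (r ^ (p * g)) ^ t)) = (fd E hN0 hN θ).F (y ^ r ^ g) := by
      intro t
      induction t with
      | zero => rw [pow_zero, mul_one]
      | succ t ih => rw [← ih, pow_succ, ← mul_assoc, pow_mul y, (fd E hN0 hN θ).frob _ (IsP.pow hyP _)]
    obtain ⟨u, hu, hκ⟩ := kappa (q1 := r ^ g) (e := e) (m := m) hp2 hprg (by rw [← hq]; exact he) (by rw [← hq]; exact hd1)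
      (by rw [← hq]; exact hd2)
    rintro ⟨z, hz, hzz⟩
    rw [← hfr (e - 1), hq, hκ, hF, show y = y ^ 1 from (pow_one y).symm, hF] at hzz
    -- the family
    obtain ⟨n, k, hk⟩ : ∃ (n : ℕ) (k : Fin n → ℕ), s = (Finset.univ : Finset (Fin n)).val.map k := by
      refine ⟨s.toList.length, s.toList.get, ?_⟩
      rw [Fin.univ_val_map, List.ofFn_get, Multiset.coe_toList]
    have hcong : ∑ i, ζ ^ k i - ∑ i, ζ ^ ((1 + p ^ m * u) * k i) = (p : ℂ) * (-z) := by
      have h6 : (s.map fun j => ζ ^ ((1 + p ^ m * u) * j)).sum = ∑ i, ζ ^ ((1 + p ^ m * u) * k i) := by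
        rw [hk, Multiset.map_map]
        rfl
      have h7 : (s.map fun j => ζ ^ (1 * j)).sum = ∑ i, ζ ^ k i := by
        rw [hk, Multiset.map_map]
        refine Finset.sum_congr rfl fun i _ => ?_
        simp only [Function.comp_apply, one_mul]
      rw [h6, h7] at hzz
      rw [mul_neg, ← hzz, neg_sub]
    have hc1 := count_dvd hζ hm1 hu Finset.univ k hz.neg hcong hp2 hr0
    have e1 : (s.filter fun k => k % p ^ m = r₀ % p ^ m).card =
        (Finset.univ.filter fun i => k i % p ^ m = r₀ % p ^ m).card := by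
      rw [hk, Multiset.filter_map, Multiset.card_map]
      rfl
    rcases hcnt with h8 | ⟨h5p, h8⟩
    · rw [e1] at h8
      exact h8 hc1
    · have hc2 := sum_dvd hζ hm1 hu Finset.univ k hz.neg hcong h5p hr0
      apply h8
      have e2 : ((s.filter fun k => k % p ^ m = r₀ % p ^ m).map fun k => k % p ^ (m + 1) / p ^ m).sum =
          ∑ i ∈ Finset.univ.filter (fun i => k i % p ^ m = r₀ % p ^ m), (k i % p ^ (m + 1) / p ^ m) := by
        rw [hk, Multiset.filter_map, Multiset.map_map]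
        rfl
      rw [e2]
      have e3 : ∀ j : ℕ, j % p ^ (m + 1) / p ^ m ≡ j / p ^ m [MOD p] := by
        intro j
        have h9 : j % p ^ (m + 1) / p ^ m = j / p ^ m % p := by
          rw [pow_succ, Nat.mod_mul_right_div_self]
        rw [h9]
        exact Nat.mod_modEq _ _
      rw [← ZMod.natCast_eq_zero_iff, Nat.cast_sum] at hc2 ⊢
      rw [← hc2]
      exact Finset.sum_congr rfl fun i _ => (ZMod.natCast_eq_natCast_iff _ _ _).2 (e3 _)
  · intro x y k hx hy' hxy
    rw [fd_F E hN0 hN θ hx, fd_F E hN0 hN θ (IsP.pow hy' k), Fs, Fs, hxy, E_pow E hy']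

end Cfsg.Agent.H234.HT
end

-- part: H37/HT/Main
section
/-!
# S4933, part (O): the row from the data (helper37)

* `row_of_fd`  : abstract form (`FD`, `Test`, `Auts`);
* `row_of_ed'` : with the eigenvalues and any `FD` passing the test;
* `row_of_ed`  : final form for the rows (criterion of Lemma B).
-/

set_option autoImplicit false

open Cfsg Cfsg.Agent.Characters.Core Cfsg.Agent.H316.HT Subgroup

namespace Cfsg.Agent.H37.HT

universe u v

/-- an abelian group has no characters of degree `p ^ a`, `a > 0` -/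
theorem not_cd_of_comm {p a : ℕ} [Fact p.Prime] (ha : 0 < a) {P : Type u} [Group P] (hc : ∀ x y : P, x * y = y * x) :
    ¬ CD p a P := by
  rintro ⟨-, φ, hφ⟩
  have h1 : (φ : P → ℂ) 1 = 1 := Cfsg.Agent.Characters.CCBasic.irr_apply_one_of_comm hc φ.2
  unfold charDegree at hφ
  rw [h1] at hφ
  simp only [Complex.one_re, Nat.floor_one] at hφ
  have h2 : 1 < p ^ a := Nat.one_lt_pow ha.ne' (Fact.out : p.Prime).one_lt
  omega

/-- **the row, abstract form** -/
theorem row_of_fd {p : ℕ} [Fact p.Prime] {r f : ℕ} {S : Type v} [Group S] (hab : AbSyl p S)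
    (hr : ¬ p ∣ r) (hf : 0 < f) (D : FD p r f S) (hT : Test D) (hA : D.Auts) : Row p S := by
  intro A _ _ N _ he hC M hM P a ha hcd
  obtain ⟨e⟩ := he
  have habN : AbSyl p N := hab.congr e
  obtain ⟨R, hR⟩ := exists_sylow_subgroupOf P N
  have hcomm : ∀ x ∈ (P : Subgroup A), x ∈ N → ∀ y ∈ (P : Subgroup A), y ∈ N → x * y = y * x := by
    intro x hx hxN y hy hyN
    have h1 : (⟨x, hxN⟩ : N) ∈ (R : Subgroup N) := by rw [hR]; exact hx
    have h2 : (⟨y, hyN⟩ : N) ∈ (R : Subgroup N) := by rw [hR]; exact hy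
    exact congrArg Subtype.val (habN R _ h1 _ h2)
  have hPN : ¬ (P : Subgroup A) ≤ N := by
    intro h
    exact not_cd_of_comm ha (fun x y : (P : Subgroup A) =>
      Subtype.ext (hcomm x x.2 (h x.2) y y.2 (h y.2))) hcd
  obtain ⟨h1, h2, ψ, h3, h4, h5⟩ := exists_moved hM N hC P hPN habN hr hf (D.comap e) (hT.comap e) (hA.comap e)
  exact Cfsg.Agent.H352.HT.good_of_orbit hM N P ha hcd hcomm h1 h2 ψ h3 h4 h5

/-- **the row from the eigenvalues**, with any function passing the test -/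
theorem row_of_ed' {p : ℕ} [Fact p.Prime] {r f : ℕ} (hr : r.Prime) (hrp : r ≠ p) (hf : 0 < f)
    {S : Type v} [Group S] [Finite S] (hab : AbSyl p S)
    (hout : (Nat.card (Out S)).factorization p ≤ f.factorization p)
    {K : Type u} [Field K] (E : ED p r f S K)
    (hD : ∃ D : FD p r f S, Test D ∧
      (∀ (x y : S) (k : ℕ), IsP p x → IsP p y → E.E x = ((E.E y).map fun a => a ^ k) → D.F x = D.F (y ^ k)))
    (φ : MulAut S) (hφ : ∀ x : S, IsP p x → E.E (φ x) = (E.E x).map fun a => a ^ r)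
    (hφf : ∃ k : ℕ, ¬ p ∣ k ∧ φ ^ (k * f) ∈ Inn S)
    (hc : ∀ (g : MulAut S) (x : S), IsP p x → E.E (g (φ (g⁻¹ x))) = E.E (φ x)) : Row p S := by
  obtain ⟨D, hT, hD⟩ := hD
  have hrp' : ¬ p ∣ r := fun h => hrp (((Nat.prime_dvd_prime_iff_eq Fact.out hr).1 h).symm)
  have h1 : ∀ x : S, IsP p x → D.F (φ x) = D.F (x ^ r) := fun x hx => hD (φ x) x r (isP_aut hx φ) hx (hφ x hx)
  have h2 : ∀ (g : MulAut S) (x : S), IsP p x → D.F (g (φ (g⁻¹ x))) = D.F (φ x) := by
    intro g x hx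
    have h3 := hD (g (φ (g⁻¹ x))) (φ x) 1 (isP_aut (isP_aut (isP_aut hx _) _) _) (isP_aut hx _) (by
      simp only [pow_one, Multiset.map_id']
      exact hc g x hx)
    rwa [pow_one] at h3
  exact row_of_fd hab hrp' hf D hT (Cfsg.Agent.H420.HT.auts_of_card hrp' hf D hT hout φ h1 hφf h2)

/-- **the row from the eigenvalues** -/
theorem row_of_ed {p : ℕ} [Fact p.Prime] (hp2 : p ≠ 2) {r f : ℕ} (hr : r.Prime) (hrp : r ≠ p) (hf : 0 < f)
    {S : Type v} [Group S] [Finite S] (hab : AbSyl p S)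
    (hout : (Nat.card (Out S)).factorization p ≤ f.factorization p)
    {K : Type u} [Field K] [CharP K r] [IsAlgClosed K] (E : ED p r f S K) (hy : EY E)
    (φ : MulAut S) (hφ : ∀ x : S, IsP p x → E.E (φ x) = (E.E x).map fun a => a ^ r)
    (hφf : ∃ k : ℕ, ¬ p ∣ k ∧ φ ^ (k * f) ∈ Inn S)
    (hc : ∀ (g : MulAut S) (x : S), IsP p x → E.E (g (φ (g⁻¹ x))) = E.E (φ x)) : Row p S :=
  row_of_ed' hr hrp hf hab hout E (Cfsg.Agent.H234.HT.exists_fd hp2 hr hrp hf E hy) φ hφ hφf hc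

end Cfsg.Agent.H37.HT
end

private theorem dce_ba0728abb74c : _root_.True := by
  try have : _root_.True := by simp only [_root_.Cfsg.Agent.H234.HT.FF.eq_1]
  try have : _root_.True := by simp only [_root_.Cfsg.Agent.H234.HT.Fs.eq_1]
  try have : _root_.True := by simp only [_root_.Cfsg.Agent.H234.HT.iota.eq_1]
  exact _root_.True.intro
end

-- part: H564/HT/Cop
section
set_option linter.all false
open scoped Cfsg.Agent.FastGrp

/-!
# S4933, part (O): rows from a cyclic Sylow `p`-subgroup of `Aut S` (helper564)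

* `row_of_comm` : if the `p`-subgroups of `Aut S` are abelian, the row holds (nothing to prove);
* `row_of_orderOf` : `|Aut S|_p ≤ |φ|_p` for one automorphism `φ`.  For `p ∤ |S|`.
-/

set_option autoImplicit false

open Subgroup
open scoped Pointwise

namespace Cfsg.Agent.H564.HT

open Cfsg Cfsg.Agent.H316.HT Cfsg.Agent.H37.HT

universe v

/-- no non-abelian `p`-subgroups in `Aut S` -/
theorem row_of_comm {p : ℕ} [Fact p.Prime] {S : Type v} [Group S]
    (h : ∀ Q : Subgroup (MulAut S), IsPGroup p Q → ∀ x ∈ Q, ∀ y ∈ Q, x * y = y * x) : Row p S := by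
  intro A _ _ N _ he hC M hM P a ha hcd
  obtain ⟨e⟩ := he
  exfalso
  let Θ : A →* MulAut S := (autE e).toMonoidHom.comp MulAut.conjNormal
  have hinj : Function.Injective Θ := by
    rw [injective_iff_map_eq_one]
    intro x hx
    have h1 : (MulAut.conjNormal x : MulAut N) = 1 := (autE e).injective (by rw [map_one]; exact hx)
    have h2 : x ∈ centralizer (N : Set A) := by
      rw [mem_centralizer_iff]
      intro n hn
      have h3 := congrArg Subtype.val (DFunLike.congr_fun h1 ⟨n, hn⟩)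
      rw [MulAut.conjNormal_apply, MulAut.one_apply] at h3
      exact (mul_inv_eq_iff_eq_mul.1 h3).symm
    rw [hC, mem_bot] at h2
    exact h2
  refine not_cd_of_comm ha (P := (P : Subgroup A)) (fun x y => Subtype.ext ?_) hcd
  have hQ : IsPGroup p (((P : Subgroup A)).map Θ) := P.isPGroup'.map Θ
  apply hinj
  have h4 := h _ hQ _ (mem_map_of_mem Θ x.2) _ (mem_map_of_mem Θ y.2)
  rw [coe_mul, coe_mul, map_mul, map_mul]
  exact h4

/-- `|Aut S|_p ≤ |φ|_p` -/
theorem row_of_orderOf {p : ℕ} [Fact p.Prime] {S : Type v} [Group S] [Finite S] (φ : MulAut S)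
    (h : (Nat.card (MulAut S)).factorization p ≤ (orderOf φ).factorization p) : Row p S := by
  classical
  have hfin : Finite (MulAut S) := Finite.of_injective (fun α : MulAut S => (α : S → S))
    (fun α β h => MulEquiv.ext fun x => congrFun h x)
  have hp : p.Prime := Fact.out
  have hn0 : orderOf φ ≠ 0 := (orderOf_pos φ).ne'
  have h1 : (orderOf φ).factorization p = (Nat.card (MulAut S)).factorization p :=
    le_antisymm ((Nat.factorization_le_iff_dvd hn0 Nat.card_pos.ne').2 (orderOf_dvd_natCard φ) p) h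
  have h2 : p ^ (orderOf φ).factorization p ∣ orderOf φ := Nat.ordProj_dvd _ _
  obtain ⟨m, hm⟩ := h2
  have hm0 : m ≠ 0 := by
    rintro rfl
    rw [mul_zero] at hm
    exact hn0 hm
  have h3 : orderOf (φ ^ m) = p ^ (orderOf φ).factorization p := by
    rw [orderOf_pow_of_dvd hm0 (Dvd.intro_left _ hm.symm)]
    exact Nat.div_eq_of_eq_mul_left (Nat.pos_of_ne_zero hm0) hm
  let R : Sylow p (MulAut S) := Sylow.ofCard (zpowers (φ ^ m)) (by rw [Nat.card_zpowers, h3, h1])
  have hR : ∀ x ∈ (R : Subgroup (MulAut S)), ∀ y ∈ (R : Subgroup (MulAut S)), x * y = y * x := by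
    intro x hx y hy
    obtain ⟨i, rfl⟩ := mem_zpowers_iff.1 (show x ∈ zpowers (φ ^ m) from hx)
    obtain ⟨j, rfl⟩ := mem_zpowers_iff.1 (show y ∈ zpowers (φ ^ m) from hy)
    rw [← zpow_add, ← zpow_add, add_comm]
  refine row_of_comm fun Q hQ x hx y hy => ?_
  obtain ⟨Q', hQ'⟩ := hQ.exists_le_sylow
  obtain ⟨g, hg⟩ := MulAction.exists_smul_eq (MulAut S) R Q'
  have h5 : ∀ z ∈ Q, g⁻¹ * z * g ∈ (R : Subgroup (MulAut S)) := by
    intro z hz
    have h6 : z ∈ (g • R : Sylow p (MulAut S)) := by rw [hg]; exact hQ' hz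
    have h7 : z ∈ (MulAut.conj g • (R : Subgroup (MulAut S)) : Subgroup (MulAut S)) := h6
    rw [mem_pointwise_smul_iff_inv_smul_mem] at h7
    have h8 : (MulAut.conj g)⁻¹ • z = g⁻¹ * z * g := by
      rw [← map_inv, MulAut.smul_def, MulAut.conj_apply, inv_inv]
    rwa [h8] at h7
  have h9 := hR _ (h5 x hx) _ (h5 y hy)
  have h10 : g⁻¹ * (x * y) * g = g⁻¹ * (y * x) * g := by
    calc g⁻¹ * (x * y) * g = (g⁻¹ * x * g) * (g⁻¹ * y * g) := by group
      _ = (g⁻¹ * y * g) * (g⁻¹ * x * g) := h9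
      _ = g⁻¹ * (y * x) * g := by group
  exact mul_left_cancel (mul_right_cancel h10)

end Cfsg.Agent.H564.HT
end

-- part: H985/HT/CycNum
section
set_option linter.all false
open scoped Cfsg.Agent.FastGrp

/-!
# S4933, rows with cyclic Sylow subgroups, numbers (helper985)

* `mulAut_apply` : automorphisms of a cyclic group are powers;
* `unit_order_p` : the elements of order `p` of `(ℤ/p^m)ˣ`;
* `test` : the sum of `ζ ^ w` over the `w` of order prime to `p` is moved, modulo `p`, by them.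
-/

set_option autoImplicit false

namespace Cfsg.Agent.H985.HT

theorem addAut_symm_apply (n : ℕ) (k : (ZMod n)ˣ) (a : ZMod n) :
    (((AddEquiv.toMultiplicative (ZMod.AddAutEquivUnits n))).symm k).toAdd a = k * a := rfl

/-- an automorphism of a cyclic group is a power map -/
theorem mulAut_apply (G : Type*) [Group G] [Finite G] [h : IsCyclic G] (α : MulAut G) (z : G) :
    α z = z ^ ((IsCyclic.mulAutMulEquiv G α : (ZMod (Nat.card G))ˣ) : ZMod (Nat.card G)).val := by
  have : NeZero (Nat.card G) := ⟨Nat.card_pos.ne'⟩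
  obtain ⟨k, rfl⟩ := (IsCyclic.mulAutMulEquiv G).symm.surjective α
  rw [MulEquiv.apply_symm_apply]
  obtain ⟨a, rfl⟩ := (zmodCyclicMulEquiv h).surjective z
  rw [← map_pow]
  simp
  rw [← map_pow]
  congr 1
  apply Multiplicative.toAdd.injective
  rw [toAdd_ofAdd, toAdd_pow]
  rw [nsmul_eq_mul, ZMod.natCast_zmod_val]
  exact addAut_symm_apply _ k a.toAdd

variable {p : ℕ} [hp : Fact p.Prime]

/-- elements of order `p` of `(ℤ/p^m)ˣ` -/
theorem unit_order_p (hp2 : p ≠ 2) {N m : ℕ} (hN : N = p ^ m) {k : (ZMod N)ˣ} (hk : k ^ p = 1) (hk1 : k ≠ 1) :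
    ∃ n u : ℕ, 1 ≤ n ∧ m = n + 1 ∧ ¬ p ∣ u ∧ (k : ZMod N).val = 1 + p ^ n * u := by
  subst hN
  have hpos : 0 < p ^ m := pow_pos hp.out.pos _
  have : NeZero (p ^ m) := ⟨hpos.ne'⟩
  have hodd : Odd p := hp.out.odd_of_ne_two hp2
  set K := (k : ZMod (p ^ m)).val with hK
  have hKlt : K < p ^ m := ZMod.val_lt _
  have hKk : ((K : ℕ) : ZMod (p ^ m)) = k := ZMod.natCast_zmod_val _
  have hm : m ≠ 0 := by
    rintro rfl
    apply hk1
    ext
    have : Subsingleton (ZMod (p ^ 0)) := by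
      rw [pow_zero]
      infer_instance
    exact Subsingleton.elim _ _
  have hpm : 1 < p ^ m := Nat.one_lt_pow hm hp.out.one_lt
  have hK1 : K ≠ 1 := by
    intro h
    apply hk1
    ext
    rw [← hKk, h, Nat.cast_one, Units.val_one]
  have hcop : K.Coprime (p ^ m) := ZMod.val_coe_unit_coprime k
  have hpK : ¬ p ∣ K := by
    intro h
    have h1 : p ∣ Nat.gcd K (p ^ m) := Nat.dvd_gcd h (dvd_pow_self p hm)
    rw [hcop] at h1
    exact hp.out.one_lt.ne' (Nat.dvd_one.1 h1)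
  have hK0 : K ≠ 0 := fun h => hpK (h ▸ dvd_zero p)
  have hK2 : 1 < K := by omega
  have hKp : p ^ m ∣ K ^ p - 1 := by
    have h1 : ((K ^ p : ℕ) : ZMod (p ^ m)) = ((1 : ℕ) : ZMod (p ^ m)) := by
      rw [Nat.cast_pow, hKk, ← Units.val_pow_eq_pow_val, hk, Units.val_one, Nat.cast_one]
    rw [ZMod.natCast_eq_natCast_iff] at h1
    exact (Nat.modEq_iff_dvd' (Nat.one_le_pow _ _ (by omega))).1 h1.symm
  have hX1 : p ∣ K - 1 := by
    have h3 : p ∣ K ^ p - 1 := (dvd_pow_self p hm).trans hKp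
    have h4 : ((K : ℕ) : ZMod p) = 1 := by
      have h5 : ((K ^ p - 1 : ℕ) : ZMod p) = 0 := (ZMod.natCast_eq_zero_iff _ _).2 h3
      rw [Nat.cast_sub (Nat.one_le_pow _ _ (by omega)), Nat.cast_pow, ZMod.pow_card, Nat.cast_one, sub_eq_zero] at h5
      exact h5
    rw [← ZMod.natCast_eq_zero_iff, Nat.cast_sub (by omega), h4, Nat.cast_one, sub_self]
  have hv3 := padicValNat.pow_sub_pow hodd hK2 hX1 hpK hp.out.ne_zero
  rw [one_pow, padicValNat.self hp.out.one_lt] at hv3
  have hne : K ^ p - 1 ≠ 0 := by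
    have h1 : 1 < K ^ p := Nat.one_lt_pow hp.out.ne_zero hK2
    omega
  have h5 : m ≤ padicValNat p (K ^ p - 1) := (padicValNat_dvd_iff_le hne).1 hKp
  have hXne : K - 1 ≠ 0 := by omega
  have h6 : ¬ m ≤ padicValNat p (K - 1) := by
    intro h
    have h7 := (padicValNat_dvd_iff_le hXne).2 h
    have h8 := Nat.le_of_dvd (by omega) h7
    omega
  have h7 : 1 ≤ padicValNat p (K - 1) := one_le_padicValNat_of_dvd hXne hX1
  have h8 : padicValNat p (K - 1) = m - 1 := by omega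
  obtain ⟨u, hu⟩ : p ^ (m - 1) ∣ K - 1 := (padicValNat_dvd_iff_le hXne).2 h8.ge
  refine ⟨m - 1, u, by omega, by omega, fun h => ?_, by omega⟩
  obtain ⟨v, rfl⟩ := h
  have h9 : p ^ (m - 1 + 1) ∣ K - 1 := ⟨v, by rw [hu]; ring⟩
  have h10 := (padicValNat_dvd_iff_le hXne).1 h9
  omega

/-- the elements congruent to `1` -/
theorem unit_pPrime_eq_one {n : ℕ} (hn : 1 ≤ n) {r : ℕ} (hr : ¬ p ∣ r) {N : ℕ} (hN : N = p ^ (n + 1)) {w : (ZMod N)ˣ}
    (hw : w ^ r = 1) (h : (w : ZMod N).val % p ^ n = 1 % p ^ n) : w = 1 := by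
  subst hN
  have hpos : 0 < p ^ (n + 1) := pow_pos hp.out.pos _
  have : NeZero (p ^ (n + 1)) := ⟨hpos.ne'⟩
  have hn2 : 1 < p ^ n := Nat.one_lt_pow (by omega) hp.out.one_lt
  set K := (w : ZMod (p ^ (n + 1))).val with hK
  have hKk : ((K : ℕ) : ZMod (p ^ (n + 1))) = w := ZMod.natCast_zmod_val _
  have h1 : (p : ℤ) ∣ (K : ℤ) - (1 : ℤ) := by
    have h2 : (K : ℤ) ≡ 1 [ZMOD (p ^ n : ℕ)] := by exact_mod_cast (Int.natCast_modEq_iff.2 (show K ≡ 1 [MOD p ^ n] from h))
    have h3 : ((p ^ n : ℕ) : ℤ) ∣ (K : ℤ) - 1 := h2.symm.dvd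
    exact (Int.natCast_dvd_natCast.2 (dvd_pow_self p (by omega))).trans h3
  have h2 := dvd_sub_pow_of_dvd_sub h1 n
  rw [one_pow] at h2
  have h3 : w ^ p ^ n = 1 := by
    ext
    rw [Units.val_pow_eq_pow_val, Units.val_one, ← hKk]
    have h4 := (ZMod.intCast_zmod_eq_zero_iff_dvd ((K : ℤ) ^ p ^ n - 1) (p ^ (n + 1))).2 (by exact_mod_cast h2)
    push_cast at h4
    rw [sub_eq_zero] at h4
    exact_mod_cast h4
  have h4 := orderOf_dvd_of_pow_eq_one h3
  have h5 := orderOf_dvd_of_pow_eq_one hw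
  have h6 : Nat.Coprime (p ^ n) r := Nat.Coprime.pow_left _ ((Nat.Prime.coprime_iff_not_dvd hp.out).2 hr)
  exact orderOf_eq_one_iff.1 (Nat.eq_one_of_dvd_coprimes h6 h4 h5)

open Finset in
open scoped Classical in
/-- **the test** -/
theorem test (hp2 : p ≠ 2) {N m : ℕ} (hN : N = p ^ m) [NeZero N] {k : (ZMod N)ˣ} (hk : k ^ p = 1) (hk1 : k ≠ 1) {r : ℕ}
    (hr : ¬ p ∣ r) {ζ : ℂ} (hζ : IsPrimitiveRoot ζ N) {z : ℂ} (hz : IsIntegral ℤ z)
    (h : ∑ w ∈ (univ : Finset (ZMod N)ˣ).filter (fun w => w ^ r = 1), ζ ^ (w : ZMod N).val -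
      ∑ w ∈ (univ : Finset (ZMod N)ˣ).filter (fun w => w ^ r = 1), ζ ^ ((k : ZMod N).val * (w : ZMod N).val) = (p : ℂ) * z) :
    False := by
  obtain ⟨n, u, hn, hm, hu, hK⟩ := unit_order_p hp2 hN hk hk1
  rw [hm] at hN
  rw [hK] at h
  have h1 := H234.HT.count_dvd (hN ▸ hζ) hn hu ((univ : Finset (ZMod N)ˣ).filter (fun w => w ^ r = 1))
    (fun w => (w : ZMod N).val) hz h hp2 (r := 1) (fun h => hp.out.one_lt.ne' (Nat.dvd_one.1 h))
  have h2 : (((univ : Finset (ZMod N)ˣ).filter (fun w => w ^ r = 1)).filter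
      fun w : (ZMod N)ˣ => (w : ZMod N).val % p ^ n = 1 % p ^ n) = {1} := by
    ext w
    rw [mem_filter, mem_filter, mem_singleton]
    constructor
    · rintro ⟨⟨-, h3⟩, h4⟩
      exact unit_pPrime_eq_one hn hr hN h3 h4
    · rintro rfl
      refine ⟨⟨mem_univ _, one_pow _⟩, ?_⟩
      have h5 : 1 < N := by
        rw [hN]
        exact Nat.one_lt_pow (by omega) hp.out.one_lt
      have : Fact (1 < N) := ⟨h5⟩
      rw [Units.val_one, ZMod.val_one]
  rw [h2, card_singleton] at h1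
  exact hp.out.one_lt.ne' (Nat.dvd_one.1 h1)

end Cfsg.Agent.H985.HT

private theorem dce_659f31346c10 : _root_.True := by
  try have : _root_.True := by simp only [_root_.IsCyclic.mulAutMulEquiv.congr_simp]
  exact _root_.True.intro
end

-- part: H985/HT/CycPsi
section
set_option linter.all false
open scoped Cfsg.Agent.FastGrp

/-!
# S4933, rows with cyclic Sylow subgroups, the moved character (helper985)

`Q` a cyclic Sylow `p`-subgroup of `D`, `p` odd, `τ` an automorphism of `D` acting on `Q` with order `p`: `τ` moves a character of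
the principal block of degree prime to `p`, nontrivial on `Q`.
-/

set_option autoImplicit false
set_option linter.unusedSectionVars false

open Subgroup Cfsg

namespace Cfsg.Agent.H985.HT

open Cfsg.Agent.Blocks Cfsg.Agent.Characters Cfsg.Agent.Characters.Core

universe u

/-- a faithful linear character of a cyclic group -/
theorem exists_faithful (Q : Type u) [Group Q] [Finite Q] [h : IsCyclic Q] : ∃ l : Q →* ℂˣ, Function.Injective l := by
  have : NeZero (Nat.card Q) := ⟨Nat.card_pos.ne'⟩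
  refine ⟨(((ZMod.stdAddChar (N := Nat.card Q)).toMonoidHom).comp (zmodCyclicMulEquiv h).symm.toMonoidHom).toHomUnits, ?_⟩
  intro a b hab
  have h1 := congrArg (fun z : ℂˣ => (z : ℂ)) hab
  exact (zmodCyclicMulEquiv h).symm.injective (Multiplicative.toAdd.injective (ZMod.injective_stdAddChar h1))

section

variable {Q : Type u} [Group Q] [Finite Q] (l : Q →* ℂˣ)

theorem lpow_card (x : Q) : (l x : ℂ) ^ Nat.card Q = 1 := by
  rw [← Units.val_pow_eq_pow_val, ← map_pow, pow_card_eq_one', map_one, Units.val_one]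

theorem lpow_modEq (x : Q) {a b : ℕ} (h : a ≡ b [MOD Nat.card Q]) : (l x : ℂ) ^ a = (l x : ℂ) ^ b := by
  rw [pow_eq_pow_mod a (lpow_card l x), pow_eq_pow_mod b (lpow_card l x), h]

open scoped Classical in
/-- the sum of the conjugates -/
noncomputable def fl (r : ℕ) [NeZero (Nat.card Q)] (x : Q) : ℂ :=
  ∑ w ∈ (Finset.univ : Finset (ZMod (Nat.card Q))ˣ).filter (fun w => w ^ r = 1), (l x : ℂ) ^ (w : ZMod (Nat.card Q)).val

theorem fl_gen (r : ℕ) [NeZero (Nat.card Q)] : IsGeneralizedCharacter Q (fl l r) := by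
  classical
  have h := Cfsg.Agent.OddOrderCharacters.FeitCoherence.isGen_sum
    ((Finset.univ : Finset (ZMod (Nat.card Q))ˣ).filter (fun w => w ^ r = 1))
    (f := fun w (x : Q) => (l x : ℂ) ^ (w : ZMod (Nat.card Q)).val) (fun w _ => by
      have h1 := CharDeep.LinearChar.isCharacter_of_hom (l ^ (w : ZMod (Nat.card Q)).val)
      have h2 : (fun g : Q => (((l ^ (w : ZMod (Nat.card Q)).val) g : ℂˣ) : ℂ)) =
          fun x : Q => (l x : ℂ) ^ (w : ZMod (Nat.card Q)).val := by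
        funext g
        rw [MonoidHom.pow_apply, Units.val_pow_eq_pow_val]
      rw [h2] at h1
      exact Brauer.isGeneralizedCharacter_of_isCharacter h1)
  convert h using 1
  funext x
  rw [Finset.sum_apply]
  rfl

theorem fl_pow {r : ℕ} [NeZero (Nat.card Q)] (x : Q) {v : (ZMod (Nat.card Q))ˣ} (hv : v ^ r = 1) :
    fl l r (x ^ (v : ZMod (Nat.card Q)).val) = fl l r x := by
  classical
  unfold fl
  refine Finset.sum_bij (fun w _ => v * w) ?_ ?_ ?_ ?_
  · intro w hw
    rw [Finset.mem_filter] at hw ⊢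
    exact ⟨Finset.mem_univ _, by rw [mul_pow, hv, hw.2, one_mul]⟩
  · intro a _ b _ hab
    exact mul_left_cancel hab
  · intro b hb
    rw [Finset.mem_filter] at hb
    refine ⟨v⁻¹ * b, ?_, by rw [mul_inv_cancel_left]⟩
    rw [Finset.mem_filter]
    exact ⟨Finset.mem_univ _, by rw [mul_pow, inv_pow, hv, hb.2, inv_one, one_mul]⟩
  · intro w _
    rw [map_pow, Units.val_pow_eq_pow_val, ← pow_mul]
    refine lpow_modEq l x ?_
    rw [← ZMod.natCast_eq_natCast_iff, Nat.cast_mul, ZMod.natCast_zmod_val, ZMod.natCast_zmod_val, ZMod.natCast_zmod_val,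
      Units.val_mul]

theorem fl_sum (hl : Function.Injective l) {r : ℕ} [NeZero (Nat.card Q)] [Fintype Q] (h1 : 1 < Nat.card Q) :
    ∑ x : Q, fl l r x = 0 := by
  classical
  unfold fl
  rw [Finset.sum_comm]
  refine Finset.sum_eq_zero fun w _ => ?_
  have h2 := sum_hom_units_eq_zero ((Units.coeHom ℂ).comp (l ^ (w : ZMod (Nat.card Q)).val)) (fun h => ?_)
  · refine Eq.trans (Finset.sum_congr rfl fun x _ => ?_) h2
    show (l x : ℂ) ^ (w : ZMod (Nat.card Q)).val = (((l ^ (w : ZMod (Nat.card Q)).val) x : ℂˣ) : ℂ)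
    rw [MonoidHom.pow_apply, Units.val_pow_eq_pow_val]
  · have h3 : ∀ x : Q, x ^ (w : ZMod (Nat.card Q)).val = 1 := by
      intro x
      have h4 := DFunLike.congr_fun h x
      have h5 : (((l ^ (w : ZMod (Nat.card Q)).val) x : ℂˣ) : ℂ) = 1 := h4
      rw [MonoidHom.pow_apply, ← map_pow] at h5
      exact hl (by rw [map_one]; exact Units.ext h5)
    have : Nontrivial Q := Finite.one_lt_card_iff_nontrivial.1 h1
    obtain ⟨x, hx⟩ := exists_ne (1 : Q)
    have h6 := orderOf_dvd_of_pow_eq_one (h3 x)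
    have h7 : orderOf x ∣ Nat.card Q := orderOf_dvd_natCard x
    have h8 : Nat.Coprime (w : ZMod (Nat.card Q)).val (Nat.card Q) := ZMod.val_coe_unit_coprime w
    exact hx (orderOf_eq_one_iff.1 (Nat.eq_one_of_dvd_coprimes h8 h6 h7))

end

/-- **the moved character** -/
theorem exists_psi {p : ℕ} [hp : Fact p.Prime] (hp2 : p ≠ 2) {D : Type u} [Group D] [Finite D] {M : Ideal AlgInt}
    (hM : IsPModular p M) (Q : Sylow p D) [hQ : IsCyclic (Q : Subgroup D)] {r : ℕ} (hr : ¬ p ∣ r)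
    (hact : ∀ g ∈ normalizer ((Q : Subgroup D) : Set D), ∃ w : (ZMod (Nat.card (Q : Subgroup D)))ˣ, w ^ r = 1 ∧
      ∀ x ∈ (Q : Subgroup D), g * x * g⁻¹ = x ^ (w : ZMod (Nat.card (Q : Subgroup D))).val)
    (τ : D ≃* D) {k : (ZMod (Nat.card (Q : Subgroup D)))ˣ} (hk : k ^ p = 1) (hk1 : k ≠ 1)
    (hτ : ∀ x ∈ (Q : Subgroup D), τ x = x ^ (k : ZMod (Nat.card (Q : Subgroup D))).val) :
    ∃ ψ : IrrCharacter D, ψ ∈ principalBlock M D ∧ ¬ p ∣ charDegree (ψ : D → ℂ) ∧
      (∃ x ∈ (Q : Subgroup D), (ψ : D → ℂ) x ≠ (ψ : D → ℂ) 1) ∧ (fun x => (ψ : D → ℂ) (τ x)) ≠ (ψ : D → ℂ) := by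
  classical
  have hne : NeZero (Nat.card (Q : Subgroup D)) := ⟨Nat.card_pos.ne'⟩
  have : Fintype ↥(Q : Subgroup D) := Fintype.ofFinite _
  obtain ⟨m, hm⟩ := IsPGroup.iff_card.1 Q.isPGroup'
  have hcard : 1 < Nat.card (Q : Subgroup D) := by
    by_contra h
    apply hk1
    have h1 : Nat.card (Q : Subgroup D) = 1 := by
      have := Nat.card_pos (α := (Q : Subgroup D))
      omega
    ext
    have : Subsingleton (ZMod (Nat.card (Q : Subgroup D))) := by
      rw [h1]
      infer_instance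
    exact Subsingleton.elim _ _
  obtain ⟨l, hl⟩ := exists_faithful ↥(Q : Subgroup D)
  have hcomm : ∀ x y : ↥(Q : Subgroup D), x * y = y * x := (IsCyclic.commGroup (α := ↥(Q : Subgroup D))).mul_comm
  have hab : ∀ x ∈ (Q : Subgroup D), ∀ y ∈ (Q : Subgroup D), x * y = y * x := fun x hx y hy =>
    congrArg Subtype.val (hcomm ⟨x, hx⟩ ⟨y, hy⟩)
  have hτ' : ∀ x ∈ (Q : Subgroup D), τ x ∈ (Q : Subgroup D) := fun x hx => by
    rw [hτ x hx]
    exact pow_mem hx _
  have hinv : ∀ x y : ↥(Q : Subgroup D), IsConj (x : D) (y : D) → fl l r x = fl l r y := by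
    intro x y h
    obtain ⟨c, hc⟩ := isConj_iff.1 h
    have : IsMulCommutative ↥(Q : Subgroup D) := ⟨⟨hcomm⟩⟩
    obtain ⟨n, hn, h1⟩ := Sylow.conj_eq_normalizer_conj_of_mem Q (x : D) c⁻¹ x.2 (by rw [inv_inv, hc]; exact y.2)
    rw [inv_inv, hc] at h1
    obtain ⟨w, hw, h2⟩ := hact n⁻¹ (inv_mem hn)
    have h3 := h2 x x.2
    rw [inv_inv, ← h1] at h3
    have h4 : y = x ^ (w : ZMod (Nat.card (Q : Subgroup D))).val := Subtype.ext h3
    rw [h4, fl_pow l x hw]
  obtain ⟨y, hy⟩ := IsCyclic.exists_ofOrder_eq_natCard (α := ↥(Q : Subgroup D))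
  have hζ : IsPrimitiveRoot ((l y : ℂˣ) : ℂ) (Nat.card (Q : Subgroup D)) := by
    rw [IsPrimitiveRoot.coe_units_iff, ← hy, ← orderOf_injective l hl y]
    exact IsPrimitiveRoot.orderOf _
  obtain ⟨ψ, h1, h2, h3, h4⟩ := exists_moved hM Q hab τ hτ' (fl l r) (fl_gen l r) hinv y (by
    rintro ⟨z, hz, hz2⟩
    refine test hp2 hm hk hk1 hr hζ hz ?_
    rw [← hz2]
    congr 1
    have h5 : (⟨τ y, hτ' y y.2⟩ : ↥(Q : Subgroup D)) = y ^ (k : ZMod (Nat.card (Q : Subgroup D))).val := Subtype.ext (hτ y y.2)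
    rw [h5]
    unfold fl
    refine Finset.sum_congr rfl fun w _ => ?_
    rw [map_pow, Units.val_pow_eq_pow_val, ← pow_mul])
  refine ⟨ψ, h1, h2, ?_, h4⟩
  by_contra hcon
  push Not at hcon
  apply h3
  rw [classInner_def]
  have h5 : ∀ x : ↥(Q : Subgroup D), fl l r x * (starRingEnd ℂ) ((ψ : D → ℂ) x) =
      fl l r x * (starRingEnd ℂ) ((ψ : D → ℂ) 1) := fun x => by rw [hcon x x.2]
  rw [Finset.sum_congr rfl fun x _ => h5 x, ← Finset.sum_mul, fl_sum l hl hcard, zero_mul, mul_zero]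

/-- the same, for a number `n` -/
theorem exists_psi' {p : ℕ} [hp : Fact p.Prime] (hp2 : p ≠ 2) {D : Type u} [Group D] [Finite D] {M : Ideal AlgInt}
    (hM : IsPModular p M) (Q : Sylow p D) [hQ : IsCyclic (Q : Subgroup D)] {n : ℕ} (hn : Nat.card (Q : Subgroup D) = n)
    {r : ℕ} (hr : ¬ p ∣ r)
    (hact : ∀ g ∈ normalizer ((Q : Subgroup D) : Set D), ∃ w : (ZMod n)ˣ, w ^ r = 1 ∧
      ∀ x ∈ (Q : Subgroup D), g * x * g⁻¹ = x ^ (w : ZMod n).val)
    (τ : D ≃* D) {k : (ZMod n)ˣ} (hk : k ^ p = 1) (hk1 : k ≠ 1)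
    (hτ : ∀ x ∈ (Q : Subgroup D), τ x = x ^ (k : ZMod n).val) :
    ∃ ψ : IrrCharacter D, ψ ∈ principalBlock M D ∧ ¬ p ∣ charDegree (ψ : D → ℂ) ∧
      (∃ x ∈ (Q : Subgroup D), (ψ : D → ℂ) x ≠ (ψ : D → ℂ) 1) ∧ (fun x => (ψ : D → ℂ) (τ x)) ≠ (ψ : D → ℂ) := by
  subst hn
  exact exists_psi hp2 hM Q hr hact τ hk hk1 hτ

end Cfsg.Agent.H985.HT
end

-- part: H985/HT/CycPhi
section
set_option linter.all false
open scoped Cfsg.Agent.FastGrp

/-!
# S4933, rows with cyclic Sylow subgroups, the normal `p`-complement of the outer part (helper985)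

`A` finite, `N` normal, `P` a Sylow `p`-subgroup of `A`, `Z = P ⊓ N` cyclic of order `n`.

* `kap` : the action of the normalizer of `Z` on `Z`, with values in `(ℤ/n)ˣ`;
* `exists_Phi` : `kap ^ r`, `r` the `p'`-part of `|(ℤ/n)ˣ|`, extends to `A`, trivially on `N`.
-/

set_option autoImplicit false

set_option linter.unusedSectionVars false

open Subgroup
open scoped Pointwise

namespace Cfsg.Agent.H985.HT

universe u

section kap

variable {A : Type u} [Group A] [Finite A] (Z : Subgroup A) [hZ : IsCyclic Z]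

/-- the action of the normalizer -/
noncomputable def kap : ↥(normalizer (Z : Set A)) →* (ZMod (Nat.card Z))ˣ :=
  (IsCyclic.mulAutMulEquiv Z).toMonoidHom.comp Z.normalizerMonoidHom

theorem kap_spec (g : ↥(normalizer (Z : Set A))) {x : A} (hx : x ∈ Z) :
    (g : A) * x * (g : A)⁻¹ = x ^ ((kap Z g : (ZMod (Nat.card Z))ˣ) : ZMod (Nat.card Z)).val := by
  have h1 := mulAut_apply Z (Z.normalizerMonoidHom g) ⟨x, hx⟩
  have h2 := congrArg (Subtype.val) h1
  exact h2

theorem kap_eq_one_iff (g : ↥(normalizer (Z : Set A))) : kap Z g = 1 ↔ ∀ x ∈ Z, (g : A) * x = x * (g : A) := by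
  have h1 : kap Z g = 1 ↔ Z.normalizerMonoidHom g = 1 := by
    unfold kap
    rw [MonoidHom.comp_apply]
    exact (IsCyclic.mulAutMulEquiv Z).map_eq_one_iff
  rw [h1]
  constructor
  · intro h x hx
    have h2 := congrArg (fun α : MulAut Z => ((α ⟨x, hx⟩ : Z) : A)) h
    have h3 : (g : A) * x * (g : A)⁻¹ = x := h2
    exact mul_inv_eq_iff_eq_mul.1 h3
  · intro h
    ext x
    have h3 : (g : A) * x * (g : A)⁻¹ = x := mul_inv_eq_iff_eq_mul.2 (h x x.2)
    exact h3

end kap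

section Phi

variable {A : Type u} [Group A] [Finite A] {p : ℕ} [hp : Fact p.Prime] (P : Sylow p A) (N : Subgroup A) [hN : N.Normal]
  (Z : Subgroup A) [hZ : IsCyclic Z] (hZe : Z = (P : Subgroup A) ⊓ N)

include hZe in
theorem le_norm : (P : Subgroup A) ≤ normalizer (Z : Set A) := by
  rw [hZe]
  intro x hx
  rw [Subgroup.mem_normalizer_iff]
  intro y
  constructor
  · rintro ⟨h1, h2⟩
    exact ⟨(P : Subgroup A).mul_mem ((P : Subgroup A).mul_mem hx h1) ((P : Subgroup A).inv_mem hx), hN.conj_mem _ h2 _⟩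
  · rintro ⟨h1, h2⟩
    have h3 := (P : Subgroup A).mul_mem ((P : Subgroup A).mul_mem ((P : Subgroup A).inv_mem hx) h1) hx
    have h4 := hN.conj_mem _ h2 x⁻¹
    rw [inv_inv] at h4
    have e : x⁻¹ * (x * y * x⁻¹) * x = y := by group
    rw [e] at h3 h4
    exact ⟨h3, h4⟩

include hZe in
/-- the elements of `N` act by automorphisms of order prime to `p` -/
theorem exists_pow_kap (g : ↥(normalizer (Z : Set A))) (hg : (g : A) ∈ N) : ∃ c : ℕ, ¬ p ∣ c ∧ kap Z g ^ c = 1 := by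
  set T : Subgroup A := normalizer (Z : Set A) ⊓ N with hT
  have hZN : Z ≤ N := hZe ▸ inf_le_right
  have hZT : Z ≤ T := le_inf le_normalizer hZN
  refine ⟨Z.relIndex T, fun h => ?_, ?_⟩
  · have h1 := Subgroup.relIndex_mul_relIndex Z T N hZT inf_le_right
    have h2 : p ∣ Z.relIndex N := h1 ▸ h.mul_right _
    rw [hZe, Subgroup.inf_relIndex_right] at h2
    exact Lib.SylowNormalInf.not_dvd_relIndex P N h2
  · have hn : (Z.subgroupOf T).Normal := by
      refine ⟨fun x hx y => ?_⟩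
      rw [Subgroup.mem_subgroupOf] at hx ⊢
      exact (Subgroup.mem_normalizer_iff.1 y.2.1 _).1 hx
    have h1 : (⟨g, g.2, hg⟩ : T) ^ (Z.subgroupOf T).index ∈ Z.subgroupOf T := Subgroup.pow_index_mem _ _
    rw [Subgroup.mem_subgroupOf] at h1
    have h2 : (g : A) ^ Z.relIndex T ∈ Z := h1
    rw [← map_pow, kap_eq_one_iff]
    intro x hx
    have h3 := (IsCyclic.commGroup (α := Z)).mul_comm ⟨_, h2⟩ ⟨x, hx⟩
    exact congrArg Subtype.val h3

include hZe in
/-- **the map** -/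
theorem exists_Phi {j r : ℕ} (hjr : Nat.card (ZMod (Nat.card Z))ˣ = p ^ j * r) :
    ∃ Φ : A →* (ZMod (Nat.card Z))ˣ, (∀ g : ↥(normalizer (Z : Set A)), Φ g = kap Z g ^ r) ∧ N ≤ Φ.ker ∧
      ∀ a : A, Φ a ^ p ^ j = 1 := by
  set f : ↥(normalizer (Z : Set A)) →* A ⧸ N := (QuotientGroup.mk' N).comp (normalizer (Z : Set A)).subtype with hf
  have hsup : normalizer (Z : Set A) ⊔ N = ⊤ := by
    rw [hZe]
    exact Lib.SylowNormalInf.normalizer_inf_sup_eq_top P N
  have hsurj : Function.Surjective f := by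
    intro y
    obtain ⟨a, rfl⟩ := QuotientGroup.mk_surjective y
    have ha : a ∈ normalizer (Z : Set A) ⊔ N := hsup ▸ Subgroup.mem_top a
    have ha' : a ∈ ((normalizer (Z : Set A) : Set A) * (N : Set A)) := by
      rw [← Subgroup.mul_normal]
      exact ha
    obtain ⟨g, hg, n, hn, rfl⟩ := Set.mem_mul.1 ha'
    refine ⟨⟨g, hg⟩, ?_⟩
    show (g : A ⧸ N) = ((g * n : A) : A ⧸ N)
    rw [QuotientGroup.eq]
    simpa using hn
  set ρ : ↥(normalizer (Z : Set A)) →* (ZMod (Nat.card Z))ˣ := (powMonoidHom r).comp (kap Z) with hρ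
  have hker : f.ker ≤ ρ.ker := by
    intro g hg
    rw [MonoidHom.mem_ker] at hg ⊢
    have hgN : (g : A) ∈ N := (QuotientGroup.eq_one_iff _).1 hg
    obtain ⟨c, hc, h1⟩ := exists_pow_kap P N Z hZe g hgN
    have h2 : (kap Z g ^ r) ^ c = 1 := by rw [← pow_mul, mul_comm, pow_mul, h1, one_pow]
    have h3 : (kap Z g ^ r) ^ p ^ j = 1 := by rw [← pow_mul, mul_comm, ← hjr, pow_card_eq_one']
    have h4 : Nat.Coprime (p ^ j) c := Nat.Coprime.pow_left _ ((Nat.Prime.coprime_iff_not_dvd hp.out).2 hc)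
    exact orderOf_eq_one_iff.1 (Nat.eq_one_of_dvd_coprimes h4 (orderOf_dvd_of_pow_eq_one h3) (orderOf_dvd_of_pow_eq_one h2))
  have hval : ∀ g : ↥(normalizer (Z : Set A)), f.liftOfSurjective hsurj ⟨ρ, hker⟩ (f g) = kap Z g ^ r := fun g =>
    f.liftOfRightInverse_comp_apply _ (Function.rightInverse_surjInv hsurj) ⟨ρ, hker⟩ g
  refine ⟨(f.liftOfSurjective hsurj ⟨ρ, hker⟩).comp (QuotientGroup.mk' N), fun g => hval g, fun x hx => ?_, fun a => ?_⟩
  · rw [MonoidHom.mem_ker, MonoidHom.comp_apply, QuotientGroup.mk'_apply, (QuotientGroup.eq_one_iff x).2 hx, map_one]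
  · obtain ⟨g, hg⟩ := hsurj (QuotientGroup.mk' N a)
    rw [MonoidHom.comp_apply, ← hg, hval, ← pow_mul, mul_comm, ← hjr, pow_card_eq_one']

end Phi

end Cfsg.Agent.H985.HT
end

-- part: H743/HT/Orb
section
set_option linter.all false
open scoped Cfsg.Agent.FastGrp

/-!
# S4933, theorem M: sums over orbits (helper743)

`sum_mem_orb`  : an invariant weight with values in an additive group `I`, all orbits of size divisible by `N`: the sum is in `N I`.
`sum_mem_conj` : the same for a subgroup `A` acting by conjugation on triples, orbit sizes = indices of centralizers.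
-/

set_option autoImplicit false

open Subgroup

namespace Cfsg.Agent.H743.HT

theorem sum_mem_orb {H X : Type*} [Group H] [MulAction H X] [Fintype X] (I : AddSubgroup ℂ) (w : X → ℂ)
    (hw : ∀ (h : H) (x : X), w (h • x) = w x) (hI : ∀ x, w x ∈ I) (N : ℕ)
    (hN : ∀ x, w x ≠ 0 → N ∣ Nat.card (MulAction.orbit H x)) : ∃ y ∈ I, ∑ x, w x = N * y := by
  classical
  have : Fintype (MulAction.orbitRel.Quotient H X) := Fintype.ofFinite _
  have key : ∀ ω : MulAction.orbitRel.Quotient H X, ∃ y ∈ I,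
      ∑ x ∈ Finset.univ.filter (fun x : X => (Quotient.mk'' x : MulAction.orbitRel.Quotient H X) = ω), w x = N * y := by
    intro ω
    obtain ⟨x0, rfl⟩ := Quotient.exists_rep ω
    have h1 : ∀ x ∈ Finset.univ.filter (fun x : X => (Quotient.mk'' x : MulAction.orbitRel.Quotient H X) =
        Quotient.mk _ x0), w x = w x0 := by
      intro x hx
      rw [Finset.mem_filter] at hx
      have h2 : (MulAction.orbitRel H X) x x0 := Quotient.exact hx.2
      obtain ⟨h, rfl⟩ := h2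
      exact hw h x0
    rw [Finset.sum_congr rfl h1, Finset.sum_const, nsmul_eq_mul]
    have h3 : (Finset.univ.filter (fun x : X => (Quotient.mk'' x : MulAction.orbitRel.Quotient H X) =
        Quotient.mk _ x0)).card = Nat.card (MulAction.orbit H x0) := by
      rw [Nat.card_coe_set_eq, ← Set.ncard_coe_finset]
      congr 1
      ext x
      rw [Finset.mem_coe, Finset.mem_filter]
      simp only [Finset.mem_univ, true_and]
      constructor
      · intro hx
        exact (Quotient.exact hx : (MulAction.orbitRel H X) x x0)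
      · intro hx
        exact Quotient.sound (s := MulAction.orbitRel H X) hx
    rw [h3]
    by_cases h0 : w x0 = 0
    · exact ⟨0, I.zero_mem, by rw [h0, mul_zero, mul_zero]⟩
    · obtain ⟨k, hk⟩ := hN x0 h0
      refine ⟨k * w x0, ?_, by rw [hk]; push_cast; ring⟩
      rw [← nsmul_eq_mul]
      exact I.nsmul_mem (hI x0) k
  choose y hy hy2 using key
  refine ⟨∑ ω, y ω, I.sum_mem fun ω _ => hy ω, ?_⟩
  rw [← Finset.sum_fiberwise (s := Finset.univ)
    (g := fun x : X => (Quotient.mk'' x : MulAction.orbitRel.Quotient H X)) (f := w), Finset.mul_sum]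
  exact Finset.sum_congr rfl fun ω _ => hy2 ω

variable {G : Type*} [Group G]

/-- conjugation of triples -/
def cj (a : G) (t : G × G × G) : G × G × G := (a * t.1 * a⁻¹, a * t.2.1 * a⁻¹, a * t.2.2 * a⁻¹)

/-- the centralizer of a triple -/
def Zt (t : G × G × G) : Subgroup G := centralizer {t.1, t.2.1, t.2.2}

theorem mem_Zt {t : G × G × G} {a : G} : a ∈ Zt t ↔ a * t.1 = t.1 * a ∧ a * t.2.1 = t.2.1 * a ∧ a * t.2.2 = t.2.2 * a := by
  unfold Zt
  rw [mem_centralizer_iff]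
  constructor
  · intro h
    exact ⟨(h _ (by simp)).symm, (h _ (by simp)).symm, (h _ (by simp)).symm⟩
  · rintro ⟨h1, h2, h3⟩ x hx
    simp only [Set.mem_insert_iff, Set.mem_singleton_iff] at hx
    rcases hx with rfl | rfl | rfl
    exacts [h1.symm, h2.symm, h3.symm]

theorem cj_eq_iff {t : G × G × G} {a : G} : cj a t = t ↔ a ∈ Zt t := by
  rw [mem_Zt]
  unfold cj
  rw [Prod.ext_iff, Prod.ext_iff]
  simp only [mul_inv_eq_iff_eq_mul]

/-- a copy of the type of triples (no left multiplication action) -/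
def TT (G : Type*) : Type _ := G × G × G

instance instTT (A : Subgroup G) : MulAction A (TT G) where
  smul a t := cj (a : G) t
  one_smul t := by
    change cj ((1 : A) : G) t = t
    unfold cj
    rw [OneMemClass.coe_one]
    simp only [one_mul, inv_one, mul_one]
    rfl
  mul_smul a b t := by
    change cj ((a * b : A) : G) t = cj (a : G) (cj (b : G) t)
    unfold cj
    refine Prod.ext ?_ (Prod.ext ?_ ?_)
    · simp only [Subgroup.coe_mul]; group
    · simp only [Subgroup.coe_mul]; group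
    · simp only [Subgroup.coe_mul]; group

theorem TT_smul (A : Subgroup G) (a : A) (t : TT G) : a • t = cj (a : G) t := rfl

theorem sum_mem_conj [Fintype G] (A : Subgroup G) (I : AddSubgroup ℂ) (w : G × G × G → ℂ)
    (hw : ∀ a ∈ A, ∀ t, w (cj a t) = w t) (hI : ∀ t, w t ∈ I) (N : ℕ)
    (hN : ∀ t, w t ≠ 0 → N ∣ (Zt t).relIndex A) : ∃ y ∈ I, ∑ t, w t = N * y := by
  classical
  let _ : Fintype (TT G) := inferInstanceAs (Fintype (G × G × G))
  refine sum_mem_orb (H := A) (X := TT G) I w (fun a t => by rw [TT_smul]; exact hw a a.2 t) hI N fun t ht => ?_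
  have h1 : MulAction.stabilizer A t = (Zt t).subgroupOf A := by
    ext a
    rw [MulAction.mem_stabilizer_iff, TT_smul, mem_subgroupOf]
    exact cj_eq_iff
  have h2 := hN t ht
  rw [relIndex, ← h1, MulAction.index_stabilizer] at h2
  rwa [Nat.card_coe_set_eq]

end Cfsg.Agent.H743.HT
end

-- part: H743/HT/Div
section
set_option linter.all false
open scoped Cfsg.Agent.FastGrp

/-!
# S4933, theorem M: the group theory (helper743)

`Hyp P A z` : `P` a `3`-subgroup, `A ≤ P` abelian of index `3` and normal in `P`, `z ∈ A` of order `3`, central in `P`, a cube in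
`A`, every element of order `3` of `P` that is central in `P` is a power of `z`, `27 ∣ |A|`.

* `nine_dvd`   : `z ∉ H` ⟹ `9 ∣ |A : A ∩ H|`;
* `twentyseven_dvd` : `z ∉ H` ⟹ `27 ∣ |P : P ∩ H|`.
-/

set_option autoImplicit false

open Subgroup

namespace Cfsg.Agent.H743.HT

variable {G : Type*} [Group G]

/-- the structure of `P` -/
structure Hyp (P A : Subgroup G) (z : G) : Prop where
  pg : IsPGroup 3 P
  le : A ≤ P
  idx : A.relIndex P = 3
  nor : ∀ x ∈ P, ∀ a ∈ A, x * a * x⁻¹ ∈ A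
  ab : ∀ a ∈ A, ∀ b ∈ A, a * b = b * a
  zA : z ∈ A
  z1 : z ≠ 1
  z3 : z ^ 3 = 1
  zc : ∀ x ∈ P, x * z = z * x
  cube : ∃ a ∈ A, a ^ 3 = z
  cen : ∀ x ∈ P, x ^ 3 = 1 → (∀ y ∈ P, y * x = x * y) → x ∈ zpowers z
  card : 27 ∣ Nat.card A

theorem card_inf_mul (H K : Subgroup G) : Nat.card ↥(H ⊓ K) * H.relIndex K = Nat.card K := by
  have h := relIndex_mul_relIndex (⊥ : Subgroup G) (H ⊓ K) K bot_le inf_le_right
  rw [relIndex_bot_left, relIndex_bot_left, inf_relIndex_right] at h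
  exact h

theorem pow_dvd_of_le {n k : ℕ} (h : 3 ^ k ≤ 3 ^ n) : 3 ^ k ∣ 3 ^ n :=
  pow_dvd_pow 3 ((Nat.pow_le_pow_iff_right (by norm_num)).1 h)

variable [Finite G] {P A : Subgroup G} {z : G}

omit [Finite G] in
theorem Hyp.pA (h : Hyp P A z) : IsPGroup 3 A := h.pg.to_le h.le

theorem relIndex_pow {K : Subgroup G} (hK : IsPGroup 3 K) (H : Subgroup G) : ∃ n, H.relIndex K = 3 ^ n := by
  have : Fact (Nat.Prime 3) := ⟨Nat.prime_three⟩
  exact hK.index _

theorem Hyp.nine_dvd (h : Hyp P A z) {H : Subgroup G} (hz : z ∉ H) : 9 ∣ H.relIndex A := by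
  obtain ⟨n, hn⟩ := relIndex_pow h.pA H
  have hnorm : (H.subgroupOf A).Normal := by
    refine ⟨fun x hx g => ?_⟩
    have h1 : g * x = x * g := Subtype.ext (h.ab g g.2 x x.2)
    rw [h1, mul_inv_cancel_right]
    exact hx
  obtain ⟨a, haA, ha⟩ := h.cube
  have h1 : (⟨a, haA⟩ : A) ^ (H.relIndex A) ∈ H.subgroupOf A := pow_index_mem (H.subgroupOf A) _
  rw [hn] at h1 ⊢
  have hn2 : 2 ≤ n := by
    by_contra hcon
    apply hz
    have h2 : (⟨a, haA⟩ : A) ^ 3 ∈ H.subgroupOf A := by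
      interval_cases n
      · rw [pow_zero, pow_one] at h1
        exact pow_mem h1 3
      · rwa [pow_one] at h1
    rw [mem_subgroupOf] at h2
    have h3 : (((⟨a, haA⟩ : A) ^ 3 : A) : G) = z := by rw [Subgroup.coe_pow]; exact ha
    rwa [h3] at h2
  exact pow_dvd_pow 3 hn2

theorem Hyp.twentyseven_dvd (h : Hyp P A z) {H : Subgroup G} (hz : z ∉ H) : 27 ∣ H.relIndex P := by
  have h3 : Fact (Nat.Prime 3) := ⟨Nat.prime_three⟩
  obtain ⟨n, hn⟩ := relIndex_pow h.pg H
  have hge : 27 ≤ H.relIndex P := by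
    have hPA : 3 * Nat.card A = Nat.card P := by
      have h1 := card_inf_mul A P
      rw [inf_eq_left.2 h.le, h.idx] at h1
      rw [← h1, mul_comm]
    have hP := card_inf_mul H P
    have hA := card_inf_mul H A
    have hA0 : 0 < Nat.card A := Nat.card_pos
    by_cases hle : H ⊓ P ≤ A
    · have h4 : H ⊓ P = H ⊓ A := le_antisymm (le_inf inf_le_left hle) (inf_le_inf_left H h.le)
      have h5 : 0 < H.relIndex A := by
        rcases Nat.eq_zero_or_pos (H.relIndex A) with h0 | h0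
        · rw [h0, mul_zero] at hA; omega
        · exact h0
      have h6 : 9 ≤ H.relIndex A := Nat.le_of_dvd h5 (h.nine_dvd hz)
      rw [h4] at hP
      have h7 : 0 < Nat.card ↥(H ⊓ A) := Nat.card_pos
      have h8 : Nat.card ↥(H ⊓ A) * H.relIndex P = Nat.card ↥(H ⊓ A) * (3 * H.relIndex A) := by
        rw [hP, ← hPA, ← hA]; ring
      have h9 := Nat.eq_of_mul_eq_mul_left h7 h8
      omega
    · obtain ⟨b, hbHP, hbA⟩ := SetLike.not_le_iff_exists.1 hle
      rw [mem_inf] at hbHP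
      -- the intersection with `A` is trivial
      have hK : H ⊓ A = ⊥ := by
        by_contra hne
        have hAP : ∀ x ∈ P, ∃ a ∈ A, ∃ k : ℕ, x = a * b ^ k := by
          intro x hx
          have hAn : (A.subgroupOf P).Normal := ⟨fun n hn g => by
            rw [mem_subgroupOf] at hn ⊢
            exact h.nor g g.2 n hn⟩
          have hcard : Nat.card (P ⧸ A.subgroupOf P) = 3 := h.idx
          have hb1 : ((⟨b, hbHP.2⟩ : P) : P ⧸ A.subgroupOf P) ≠ 1 := by
            rw [Ne, QuotientGroup.eq_one_iff, mem_subgroupOf]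
            exact hbA
          have hgen := zpowers_eq_top_of_prime_card hcard hb1
          have hmem : ((⟨x, hx⟩ : P) : P ⧸ A.subgroupOf P) ∈ zpowers ((⟨b, hbHP.2⟩ : P) : P ⧸ A.subgroupOf P) := by
            rw [hgen]; exact mem_top _
          obtain ⟨k, hk⟩ := mem_powers_iff_mem_zpowers.2 hmem
          simp only at hk
          rw [← QuotientGroup.mk_pow, eq_comm, ← div_eq_one, ← QuotientGroup.mk_div, QuotientGroup.eq_one_iff,
            mem_subgroupOf] at hk
          refine ⟨_, hk, k, ?_⟩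
          rw [Subgroup.coe_div, Subgroup.coe_pow, div_mul_cancel]
        let K : Subgroup P := (H ⊓ A).subgroupOf P
        have hKne : K ≠ ⊥ := by
          intro h0
          apply hne
          have h1 := (subgroupOf_eq_bot.1 h0)
          rw [disjoint_iff, inf_eq_left.2 (inf_le_right.trans h.le)] at h1
          exact h1
        have hKn : K.Normal := by
          refine ⟨fun n hn g => ?_⟩
          rw [mem_subgroupOf, mem_inf] at hn ⊢
          refine ⟨?_, h.nor g g.2 n hn.2⟩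
          obtain ⟨a, ha, k, hk⟩ := hAP g g.2
          have h1 : ((g * n * g⁻¹ : P) : G) = b ^ k * n * (b ^ k)⁻¹ := by
            have h2 : b ^ k * (n : G) * (b ^ k)⁻¹ ∈ A := h.nor _ (pow_mem hbHP.2 k) _ hn.2
            have h4 := h.ab a ha _ h2
            rw [Subgroup.coe_mul, Subgroup.coe_mul, Subgroup.coe_inv, hk]
            calc a * b ^ k * (n : G) * (a * b ^ k)⁻¹ = a * (b ^ k * (n : G) * (b ^ k)⁻¹) * a⁻¹ := by group
              _ = _ := by rw [h4, mul_inv_cancel_right]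
          rw [h1]
          exact H.mul_mem (H.mul_mem (pow_mem hbHP.1 k) hn.1) (H.inv_mem (pow_mem hbHP.1 k))
        obtain ⟨c, hcK, hc1, hcc⟩ := H777.PGrp.inf_center_ne_bot h.pg hKne hKn
        -- an element of order three
        have hord : ∃ m : ℕ, (c ^ m) ^ 3 = 1 ∧ c ^ m ≠ 1 := by
          obtain ⟨m, hm⟩ := IsPGroup.iff_orderOf.1 h.pg c
          have hm0 : m ≠ 0 := by
            rintro rfl
            rw [pow_zero] at hm
            exact hc1 (orderOf_eq_one_iff.1 hm)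
          obtain ⟨l, rfl⟩ := Nat.exists_eq_succ_of_ne_zero hm0
          refine ⟨3 ^ l, ?_, ?_⟩
          · rw [← pow_mul, ← pow_succ, ← hm, pow_orderOf_eq_one]
          · intro h1
            have h2 := orderOf_dvd_of_pow_eq_one h1
            rw [hm] at h2
            have h5 := (Nat.pow_dvd_pow_iff_le_right (by norm_num)).1 h2
            omega
        obtain ⟨m, hm3, hm1⟩ := hord
        have h5 : ((c ^ m : P) : G) ∈ zpowers z := by
          refine h.cen _ (c ^ m).2 ?_ ?_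
          · rw [← Subgroup.coe_pow, hm3, Subgroup.coe_one]
          · intro y hy
            have h6 : (⟨y, hy⟩ : P) * c ^ m = c ^ m * ⟨y, hy⟩ := (Commute.pow_right (hcc ⟨y, hy⟩) m).eq
            exact congrArg Subtype.val h6
        have h6 : ((c ^ m : P) : G) ∈ H := by
          have h7 : c ^ m ∈ K := pow_mem hcK m
          exact (mem_inf.1 (mem_subgroupOf.1 h7)).1
        -- `z` is a power of it
        have h7 : z ∈ zpowers ((c ^ m : P) : G) := by
          have hz3 : orderOf z = 3 := orderOf_eq_prime h.z3 h.z1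
          have h8 : Nat.card (zpowers z) = 3 := by rw [Nat.card_zpowers, hz3]
          have h9 : (⟨((c ^ m : P) : G), h5⟩ : zpowers z) ≠ 1 := by
            intro h10
            apply hm1
            have h13 : ((c ^ m : P) : G) = 1 := congrArg (fun x : zpowers z => (x : G)) h10
            exact Subtype.ext h13
          have h11 := zpowers_eq_top_of_prime_card h8 h9
          have h12 : (⟨z, mem_zpowers z⟩ : zpowers z) ∈ zpowers (⟨((c ^ m : P) : G), h5⟩ : zpowers z) := by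
            rw [h11]; exact mem_top _
          obtain ⟨k, hk⟩ := h12
          exact ⟨k, congrArg Subtype.val hk⟩
        exact hz ((zpowers_le.2 h6) h7)
      have h4 : Nat.card ↥(H ⊓ P) ≤ 3 := by
        have h5 := card_inf_mul A (H ⊓ P)
        have h6 : A ⊓ (H ⊓ P) = ⊥ := by
          rw [eq_bot_iff, ← hK]
          exact le_inf (inf_le_right.trans inf_le_left) inf_le_left
        rw [h6, Subgroup.card_bot, one_mul] at h5
        rw [← h5, ← h.idx]
        refine relIndex_le_of_le_right inf_le_right ?_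
        rw [h.idx]; norm_num
      have h5 : 27 ≤ Nat.card A := Nat.le_of_dvd hA0 h.card
      have h6 : 3 * Nat.card A ≤ 3 * H.relIndex P := by
        rw [hPA, ← hP]
        exact Nat.mul_le_mul_right _ h4
      omega
  rw [hn] at hge ⊢
  exact pow_dvd_of_le (k := 3) hge

end Cfsg.Agent.H743.HT
end

-- part: H743/HT/Left
section
set_option linter.all false
open scoped Cfsg.Agent.FastGrp

/-!
# S4933, theorem M: the left side (helper743)
-/

set_option autoImplicit false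
set_option linter.unusedSectionVars false

open Subgroup Cfsg
open Cfsg.Agent.Blocks.LocalRing

namespace Cfsg.Agent.H743.HT

universe u

variable {G : Type u} [Group G]

open Classical in
/-- a linear character of `C`, extended by zero -/
noncomputable def mu (C : Subgroup G) (lam : C →* ℂˣ) (x : G) : ℂ := if h : x ∈ C then ((lam ⟨x, h⟩ : ℂˣ) : ℂ) else 0

theorem mu_of_mem {C : Subgroup G} (lam : C →* ℂˣ) {x : G} (h : x ∈ C) : mu C lam x = ((lam ⟨x, h⟩ : ℂˣ) : ℂ) := by
  unfold mu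
  rw [dif_pos h]

theorem mu_of_notMem {C : Subgroup G} (lam : C →* ℂˣ) {x : G} (h : x ∉ C) : mu C lam x = 0 := by
  unfold mu
  rw [dif_neg h]

theorem mu_mul {C : Subgroup G} (lam : C →* ℂˣ) (y : G) {x : G} (hx : x ∈ C) :
    mu C lam (y * x) = mu C lam y * ((lam ⟨x, hx⟩ : ℂˣ) : ℂ) := by
  by_cases hy : y ∈ C
  · rw [mu_of_mem lam (C.mul_mem hy hx), mu_of_mem lam hy, ← Units.val_mul, ← map_mul]
    rfl
  · rw [mu_of_notMem lam hy, mu_of_notMem lam (fun h => hy ?_), zero_mul]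
    have := C.mul_mem h (C.inv_mem hx)
    rwa [mul_inv_cancel_right] at this

theorem mu_one_conj {C : Subgroup G} {a : G} (ha : ∀ x, a * x * a⁻¹ ∈ C ↔ x ∈ C) (x : G) :
    mu C 1 (a * x * a⁻¹) = mu C 1 x := by
  by_cases hx : x ∈ C
  · rw [mu_of_mem _ hx, mu_of_mem _ ((ha x).2 hx)]
    rfl
  · rw [mu_of_notMem _ hx, mu_of_notMem _ (fun h => hx ((ha x).1 h))]

theorem mu_conj_of_comm {C : Subgroup G} (lam : C →* ℂˣ) {a : G} (ha : a ∈ C) (hac : ∀ x ∈ C, a * x = x * a) (x : G) :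
    mu C lam (a * x * a⁻¹) = mu C lam x := by
  by_cases hx : x ∈ C
  · rw [hac x hx, mul_inv_cancel_right]
  · rw [mu_of_notMem _ hx, mu_of_notMem]
    intro h
    apply hx
    have := C.mul_mem (C.mul_mem (C.inv_mem ha) h) ha
    rwa [show a⁻¹ * (a * x * a⁻¹) * a = x by group] at this

/-- the weight of a triple -/
noncomputable def wt (c : G → ℂ) (C : Subgroup G) (lam : C →* ℂˣ) (t : G × G × G) : ℂ :=
  c t.1 * (mu C lam (t.1 * t.2.1 * t.2.2) - mu C lam (t.1 * t.2.1) - mu C lam (t.1 * t.2.2) + mu C lam t.1)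

theorem wt_conj (c : G → ℂ) (hc : ∀ x g, c (x * g * x⁻¹) = c g) (C : Subgroup G) (lam : C →* ℂˣ) {a : G}
    (ha : ∀ x, mu C lam (a * x * a⁻¹) = mu C lam x) (t : G × G × G) : wt c C lam (cj a t) = wt c C lam t := by
  unfold wt cj
  simp only
  rw [hc, ← ha (t.1 * t.2.1 * t.2.2), ← ha (t.1 * t.2.1), ← ha (t.1 * t.2.2), ← ha t.1]
  rw [show a * (t.1 * t.2.1 * t.2.2) * a⁻¹ = a * t.1 * a⁻¹ * (a * t.2.1 * a⁻¹) * (a * t.2.2 * a⁻¹) by group,
    show a * (t.1 * t.2.1) * a⁻¹ = a * t.1 * a⁻¹ * (a * t.2.1 * a⁻¹) by group,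
    show a * (t.1 * t.2.2) * a⁻¹ = a * t.1 * a⁻¹ * (a * t.2.2 * a⁻¹) by group]

variable {M : Ideal AlgInt}

/-- the local ideal as an additive group -/
def idl (hM : IsPModular 3 M) : AddSubgroup ℂ where
  carrier := {z | MemLocalIdeal M z}
  add_mem' := memLocalIdeal_add hM
  zero_mem' := memLocalIdeal_zero hM
  neg_mem' := memLocalIdeal_neg

theorem mu_ring (hM : IsPModular 3 M) {C : Subgroup G} (lam : C →* ℂˣ)
    (hl : ∀ x : C, MemLocalIdeal M (((lam x : ℂˣ) : ℂ) - 1)) (x : G) :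
    MemLocalRing M (mu C lam x) ∧ MemLocalIdeal M (mu C lam x - mu C 1 x) := by
  by_cases hx : x ∈ C
  · rw [mu_of_mem _ hx, mu_of_mem _ hx]
    have h1 : (((1 : C →* ℂˣ) ⟨x, hx⟩ : ℂˣ) : ℂ) = 1 := rfl
    rw [h1]
    refine ⟨?_, hl _⟩
    have := memLocalRing_add hM (memLocalIdeal_memLocalRing (hl ⟨x, hx⟩)) (memLocalRing_one hM)
    rwa [sub_add_cancel] at this
  · rw [mu_of_notMem _ hx, mu_of_notMem _ hx, sub_zero]
    exact ⟨memLocalRing_zero hM, memLocalIdeal_zero hM⟩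

theorem wt_ring (hM : IsPModular 3 M) {c : G → ℂ} (hcR : ∀ g, MemLocalRing M (c g)) {C : Subgroup G} (lam : C →* ℂˣ)
    (hl : ∀ x : C, MemLocalIdeal M (((lam x : ℂˣ) : ℂ) - 1)) (t : G × G × G) :
    MemLocalRing M (wt c C lam t) ∧ MemLocalIdeal M (wt c C lam t - wt c C 1 t) := by
  have h1 := mu_ring hM lam hl (t.1 * t.2.1 * t.2.2)
  have h2 := mu_ring hM lam hl (t.1 * t.2.1)
  have h3 := mu_ring hM lam hl (t.1 * t.2.2)
  have h4 := mu_ring hM lam hl t.1
  constructor
  · exact memLocalRing_mul hM (hcR _) (memLocalRing_add hM (memLocalRing_sub hM (memLocalRing_sub hM h1.1 h2.1) h3.1) h4.1)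
  · have h5 := memLocalIdeal_mul_left hM (hcR t.1)
      (memLocalIdeal_add hM (memLocalIdeal_sub hM (memLocalIdeal_sub hM h1.2 h2.2) h3.2) h4.2)
    unfold wt
    convert h5 using 1
    ring

/-- the set of the weights used: the last two entries in `D`, and `Z` -/
noncomputable def ww (c : G → ℂ) (C : Subgroup G) (lam : C →* ℂˣ) (D : Finset G) (Q : G × G × G → Prop) (t : G × G × G) :
    ℂ := by
  classical
  exact if t.2.1 ∈ D ∧ t.2.2 ∈ D ∧ Q t then wt c C lam t else 0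

theorem ww_pos {c : G → ℂ} {C : Subgroup G} {lam : C →* ℂˣ} {D : Finset G} {Q : G × G × G → Prop} {t : G × G × G}
    (h : t.2.1 ∈ D ∧ t.2.2 ∈ D ∧ Q t) : ww c C lam D Q t = wt c C lam t := by
  unfold ww
  rw [if_pos h]

theorem ww_neg {c : G → ℂ} {C : Subgroup G} {lam : C →* ℂˣ} {D : Finset G} {Q : G × G × G → Prop} {t : G × G × G}
    (h : ¬ (t.2.1 ∈ D ∧ t.2.2 ∈ D ∧ Q t)) : ww c C lam D Q t = 0 := by
  unfold ww
  rw [if_neg h]

theorem ww_conj {c : G → ℂ} (hc : ∀ x g, c (x * g * x⁻¹) = c g) {C : Subgroup G} {lam : C →* ℂˣ} {D : Finset G}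
    {Q : G × G × G → Prop} {a : G} (ha : ∀ x, mu C lam (a * x * a⁻¹) = mu C lam x)
    (hD : ∀ d, a * d * a⁻¹ ∈ D ↔ d ∈ D) (hQ : ∀ t, Q (cj a t) ↔ Q t) (t : G × G × G) :
    ww c C lam D Q (cj a t) = ww c C lam D Q t := by
  by_cases h : t.2.1 ∈ D ∧ t.2.2 ∈ D ∧ Q t
  · rw [ww_pos h, ww_pos, wt_conj c hc C lam ha]
    exact ⟨(hD _).2 h.1, (hD _).2 h.2.1, (hQ _).2 h.2.2⟩
  · rw [ww_neg h, ww_neg]
    rintro ⟨h1, h2, h3⟩
    exact h ⟨(hD _).1 h1, (hD _).1 h2, (hQ _).1 h3⟩

/-- **the part outside the centralizer of `z`** -/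
theorem sum_out [Fintype G] (hM : IsPModular 3 M) {P A : Subgroup G} {z : G} (h : Hyp P A z) {c : G → ℂ}
    (hc : ∀ x g, c (x * g * x⁻¹) = c g) (hcR : ∀ g, MemLocalRing M (c g)) (lam : centralizer (A : Set G) →* ℂˣ)
    (hl : ∀ x, MemLocalIdeal M (((lam x : ℂˣ) : ℂ) - 1)) {D : Finset G} (hD : ∀ x ∈ P, ∀ d ∈ D, x * d * x⁻¹ ∈ D) :
    ∃ y, MemLocalIdeal M y ∧ ∑ t, ww c (centralizer (A : Set G)) lam D (fun t => z ∉ Zt t) t = 9 * y := by
  have hDi : ∀ x ∈ P, ∀ d, x * d * x⁻¹ ∈ D ↔ d ∈ D := by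
    intro x hx d
    refine ⟨fun h1 => ?_, hD x hx d⟩
    have := hD x⁻¹ (P.inv_mem hx) _ h1
    rwa [show x⁻¹ * (x * d * x⁻¹) * x⁻¹⁻¹ = d by group] at this
  have hQ : ∀ x ∈ P, ∀ t, z ∉ Zt (cj x t) ↔ z ∉ Zt t := by
    intro x hx t
    have hz : x * z * x⁻¹ = z := by rw [h.zc x hx, mul_inv_cancel_right]
    rw [not_iff_not, ← cj_eq_iff, ← cj_eq_iff]
    have e : cj z (cj x t) = cj x (cj z t) := by
      have h1 : ∀ y, z * (x * y * x⁻¹) * z⁻¹ = x * (z * y * z⁻¹) * x⁻¹ := by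
        intro y
        have h2 := h.zc x hx
        calc z * (x * y * x⁻¹) * z⁻¹ = (z * x) * y * (z * x)⁻¹ := by group
          _ = (x * z) * y * (x * z)⁻¹ := by rw [h2]
          _ = _ := by group
      unfold cj
      simp only [h1]
    rw [e]
    constructor
    · intro h1
      have h2 : cj x⁻¹ (cj x (cj z t)) = cj x⁻¹ (cj x t) := by rw [h1]
      have h3 : ∀ s, cj x⁻¹ (cj x s) = s := by
        intro s
        unfold cj
        simp only
        refine Prod.ext ?_ (Prod.ext ?_ ?_)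
        · simp only; group
        · simp only; group
        · simp only; group
      rwa [h3, h3] at h2
    · intro h1
      rw [h1]
  have hC : ∀ x ∈ P, ∀ y, x * y * x⁻¹ ∈ centralizer (A : Set G) ↔ y ∈ centralizer (A : Set G) := by
    have hh : ∀ x ∈ P, ∀ y ∈ centralizer (A : Set G), x * y * x⁻¹ ∈ centralizer (A : Set G) := by
      intro x hx y hy
      rw [mem_centralizer_iff] at hy ⊢
      intro a ha
      have h1 := h.nor x⁻¹ (P.inv_mem hx) a ha
      rw [inv_inv] at h1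
      have h2 := hy _ h1
      calc a * (x * y * x⁻¹) = x * ((x⁻¹ * a * x) * y) * x⁻¹ := by group
        _ = x * (y * (x⁻¹ * a * x)) * x⁻¹ := by rw [h2]
        _ = _ := by group
    intro x hx y
    refine ⟨fun h1 => ?_, hh x hx y⟩
    have := hh x⁻¹ (P.inv_mem hx) _ h1
    rwa [show x⁻¹ * (x * y * x⁻¹) * x⁻¹⁻¹ = y by group] at this
  have hAC : ∀ a ∈ A, a ∈ centralizer (A : Set G) := by
    intro a ha
    rw [mem_centralizer_iff]
    intro b hb
    exact h.ab b hb a ha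
  have hl1 : ∀ x : centralizer (A : Set G), MemLocalIdeal M ((((1 : centralizer (A : Set G) →* ℂˣ) x : ℂˣ) : ℂ) - 1) := by
    intro x
    rw [MonoidHom.one_apply, Units.val_one, sub_self]
    exact memLocalIdeal_zero hM
  obtain ⟨y1, hy1, e1⟩ := sum_mem_conj A (idl hM)
    (fun t => ww c (centralizer (A : Set G)) lam D (fun t => z ∉ Zt t) t -
      ww c (centralizer (A : Set G)) 1 D (fun t => z ∉ Zt t) t)
    (by
      intro a ha t
      rw [ww_conj hc (mu_conj_of_comm lam (hAC a ha) (fun x hx => (mem_centralizer_iff.1 hx) a ha)) (hDi a (h.le ha))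
        (hQ a (h.le ha)), ww_conj hc (mu_one_conj (hC a (h.le ha))) (hDi a (h.le ha)) (hQ a (h.le ha))])
    (by
      intro t
      by_cases ht : t.2.1 ∈ D ∧ t.2.2 ∈ D ∧ z ∉ Zt t
      · rw [ww_pos ht, ww_pos ht]
        exact (wt_ring hM hcR lam hl t).2
      · rw [ww_neg ht, ww_neg ht, sub_zero]
        exact (idl hM).zero_mem) 9
    (by
      intro t ht
      refine h.nine_dvd fun hz => ht ?_
      have hh : ¬ (t.2.1 ∈ D ∧ t.2.2 ∈ D ∧ z ∉ Zt t) := fun h => h.2.2 hz
      rw [ww_neg hh, ww_neg hh, sub_zero])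
  obtain ⟨y2, hy2, e2⟩ := sum_mem_conj P (locRing hM).toAddSubgroup
    (ww c (centralizer (A : Set G)) 1 D (fun t => z ∉ Zt t))
    (fun a ha t => ww_conj hc (mu_one_conj (hC a ha)) (hDi a ha) (hQ a ha) t)
    (by
      intro t
      by_cases ht : t.2.1 ∈ D ∧ t.2.2 ∈ D ∧ z ∉ Zt t
      · rw [ww_pos ht]
        exact (wt_ring hM hcR 1 hl1 t).1
      · rw [ww_neg ht]
        exact AddSubgroup.zero_mem _) 27
    (by
      intro t ht
      refine h.twentyseven_dvd fun hz => ht ?_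
      have hh : ¬ (t.2.1 ∈ D ∧ t.2.2 ∈ D ∧ z ∉ Zt t) := fun h => h.2.2 hz
      rw [ww_neg hh])
  refine ⟨y1 + 3 * y2, memLocalIdeal_add hM hy1 (memLocalIdeal_mul_right hM ?_ hy2), ?_⟩
  · have := (memLocalIdeal_natCast_iff hM 3).2 dvd_rfl
    simpa using this
  · rw [Finset.sum_sub_distrib, e2] at e1
    rw [sub_eq_iff_eq_add] at e1
    rw [e1]
    push_cast
    ring

end Cfsg.Agent.H743.HT
end

-- part: H743/HT/LeftIn
section
set_option linter.all false
open scoped Cfsg.Agent.FastGrp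

/-!
# S4933, theorem M: the left side, the part inside the centralizer of `z` (helper743)
-/

set_option autoImplicit false
set_option linter.unusedSectionVars false

open Subgroup Cfsg
open Cfsg.Agent.Blocks.LocalRing

namespace Cfsg.Agent.H743.HT

universe u

variable {G : Type u} [Group G]

/-- the elements of `D` commuting with `z` -/
noncomputable def Dz (D : Finset G) (z : G) : Finset G :=
  @Finset.filter G (fun d => z * d = d * z) (Classical.decPred _) D

theorem mem_Dz {D : Finset G} {z d : G} : d ∈ Dz D z ↔ d ∈ D ∧ z * d = d * z := by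
  unfold Dz
  exact @Finset.mem_filter _ _ (Classical.decPred _) _ _

/-- the conditions on `D` -/
structure HypD (D : Finset G) (z : G) : Prop where
  z1 : z ≠ 1
  z3 : z ^ 3 = 1
  one : (1 : G) ∉ D
  zm : z ∈ D
  zi : z⁻¹ ∈ D
  mul : ∀ d ∈ D, z * d = d * z → d ≠ z → d ≠ z⁻¹ → d * z ∈ D

variable {C : Subgroup G} {lam : C →* ℂˣ} {D : Finset G} {z : G}

theorem zz {z : G} (h3 : z ^ 3 = 1) : z * z = z⁻¹ := by
  rw [eq_inv_iff_mul_eq_one, ← h3, pow_succ, pow_two]

theorem HypD.ne (h : HypD D z) : z ≠ z⁻¹ := by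
  intro h1
  apply h.z1
  have h2 := zz h.z3
  rw [← h1] at h2
  exact mul_eq_left.1 h2

/-- the sum over the commuting part of `D` -/
theorem sum_Dz (h : HypD D z) (hz : z ∈ C) (hl3 : ((lam ⟨z, hz⟩ : ℂˣ) : ℂ) ≠ 1) (y : G) :
    ∑ d ∈ Dz D z, mu C lam (y * d) = - mu C lam y := by
  classical
  set l : ℂ := ((lam ⟨z, hz⟩ : ℂˣ) : ℂ) with hl
  have hl33 : l ^ 3 = 1 := by
    have h1 : (⟨z, hz⟩ : C) ^ 3 = 1 := Subtype.ext h.z3
    rw [hl, ← Units.val_pow_eq_pow_val, ← map_pow, h1, map_one, Units.val_one]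
  set D' := (Dz D z).filter fun d => d ≠ z ∧ d ≠ z⁻¹ with hD'
  have hDz : Dz D z = insert z (insert z⁻¹ D') := by
    ext d
    rw [Finset.mem_insert, Finset.mem_insert, hD', Finset.mem_filter, mem_Dz]
    constructor
    · intro h1
      by_cases h2 : d = z
      · exact Or.inl h2
      · by_cases h3 : d = z⁻¹
        · exact Or.inr (Or.inl h3)
        · exact Or.inr (Or.inr ⟨h1, h2, h3⟩)
    · rintro (rfl | rfl | h1)
      · exact ⟨h.zm, rfl⟩
      · exact ⟨h.zi, by group⟩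
      · exact h1.1
  have hz1 : z ∉ insert z⁻¹ D' := by
    rw [Finset.mem_insert, hD', Finset.mem_filter]
    rintro (h1 | h1)
    · exact h.ne h1
    · exact h1.2.1 rfl
  have hz2 : z⁻¹ ∉ D' := by
    rw [hD', Finset.mem_filter]
    exact fun h1 => h1.2.2 rfl
  have hstab : ∀ d ∈ D', d * z ∈ D' := by
    intro d hd
    rw [hD', Finset.mem_filter, mem_Dz] at hd ⊢
    obtain ⟨⟨h1, h2⟩, h3, h4⟩ := hd
    refine ⟨⟨h.mul d h1 h2 h3 h4, by rw [← mul_assoc, h2]⟩, ?_, ?_⟩
    · intro h5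
      exact h.one (by rw [← mul_eq_right.1 h5]; exact h1)
    · intro h5
      rw [← zz h.z3] at h5
      exact h3 (mul_right_cancel h5)
  have hD0 : ∑ d ∈ D', mu C lam (y * d) = 0 := by
    have h1 : ∑ d ∈ D', mu C lam (y * (d * z)) = ∑ d ∈ D', mu C lam (y * d) := by
      have hinj : Set.InjOn (fun d : G => d * z) D' := fun a _ b _ hab => mul_right_cancel hab
      have himg : D'.image (fun d : G => d * z) = D' := by
        refine Finset.eq_of_subset_of_card_le (Finset.image_subset_iff.2 hstab) ?_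
        rw [Finset.card_image_of_injOn hinj]
      rw [← Finset.sum_image (f := fun d => mu C lam (y * d)) hinj, himg]
    have h2 : ∑ d ∈ D', mu C lam (y * (d * z)) = l * ∑ d ∈ D', mu C lam (y * d) := by
      rw [Finset.mul_sum]
      refine Finset.sum_congr rfl fun d _ => ?_
      rw [← mul_assoc, mu_mul lam _ hz, mul_comm]
    rw [h1] at h2
    have h3 : (l - 1) * ∑ d ∈ D', mu C lam (y * d) = 0 := by linear_combination -h2
    rcases mul_eq_zero.1 h3 with h4 | h4
    · exact absurd (sub_eq_zero.1 h4) hl3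
    · exact h4
  have e2 : mu C lam (y * z⁻¹) = mu C lam y * l * l := by
    rw [← zz h.z3, ← mul_assoc, mu_mul lam _ hz, mu_mul lam _ hz]
  rw [hDz, Finset.sum_insert hz1, Finset.sum_insert hz2, hD0, add_zero, e2, mu_mul lam _ hz, ← hl]
  have h5 : l ^ 2 + l + 1 = 0 := by
    have h6 : (l - 1) * (l ^ 2 + l + 1) = 0 := by linear_combination hl33
    rcases mul_eq_zero.1 h6 with h7 | h7
    · exact absurd (sub_eq_zero.1 h7) hl3
    · exact h7
  linear_combination mu C lam y * h5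

/-- **the part inside the centralizer of `z`** -/
theorem sum_in [Fintype G] (h : HypD D z) (hz : z ∈ C) (hl3 : ((lam ⟨z, hz⟩ : ℂˣ) : ℂ) ≠ 1)
    (hzC : ∀ x ∈ C, z * x = x * z) (c : G → ℂ) :
    ∑ t, ww c C lam D (fun t => z ∈ Zt t) t = (1 + ((Dz D z).card : ℂ)) ^ 2 * ∑ g, c g * mu C lam g := by
  classical
  rw [Fintype.sum_prod_type, Finset.mul_sum]
  refine Finset.sum_congr rfl fun g _ => ?_
  rw [Fintype.sum_prod_type]
  by_cases hg : z * g = g * z
  · have h1 : ∀ d e : G, ww c C lam D (fun t => z ∈ Zt t) (g, d, e) =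
        if d ∈ Dz D z then (if e ∈ Dz D z then wt c C lam (g, d, e) else 0) else 0 := by
      intro d e
      by_cases hd : d ∈ Dz D z
      · by_cases he : e ∈ Dz D z
        · rw [if_pos hd, if_pos he, ww_pos]
          rw [mem_Dz] at hd he
          exact ⟨hd.1, he.1, mem_Zt.2 ⟨hg, hd.2, he.2⟩⟩
        · rw [if_pos hd, if_neg he, ww_neg]
          rintro ⟨h2, h3, h4⟩
          exact he (mem_Dz.2 ⟨h3, (mem_Zt.1 h4).2.2⟩)
      · rw [if_neg hd, ww_neg]
        rintro ⟨h2, h3, h4⟩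
        exact hd (mem_Dz.2 ⟨h2, (mem_Zt.1 h4).2.1⟩)
    have h2 : ∀ d : G, ∑ e, ww c C lam D (fun t => z ∈ Zt t) (g, d, e) =
        if d ∈ Dz D z then ∑ e ∈ Dz D z, wt c C lam (g, d, e) else 0 := by
      intro d
      by_cases hd : d ∈ Dz D z
      · simp only [h1, if_pos hd]
        rw [Finset.sum_ite_mem, Finset.univ_inter]
      · simp only [h1, if_neg hd]
        rw [Finset.sum_const_zero]
    simp only [h2]
    rw [Finset.sum_ite_mem, Finset.univ_inter]
    unfold wt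
    simp only [← Finset.mul_sum, Finset.sum_add_distrib, Finset.sum_sub_distrib, sum_Dz h hz hl3, Finset.sum_const,
      Finset.sum_neg_distrib, nsmul_eq_mul]
    ring
  · have h1 : mu C lam g = 0 := mu_of_notMem lam fun h2 => hg (hzC g h2)
    rw [h1, mul_zero, mul_zero]
    refine Finset.sum_eq_zero fun d _ => Finset.sum_eq_zero fun e _ => ?_
    rw [ww_neg]
    rintro ⟨h2, h3, h4⟩
    exact hg (mem_Zt.1 h4).1

/-- `∑ c μ = 1` modulo the ideal -/
theorem kappa [Fintype G] {M : Ideal AlgInt} (hM : IsPModular 3 M) {A : Subgroup G} (hA : IsPGroup 3 A) {c : G → ℂ}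
    (hc : ∀ x g, c (x * g * x⁻¹) = c g) (hcR : ∀ g, MemLocalRing M (c g)) (hc0 : ∀ g, 3 ∣ orderOf g → c g = 0)
    (hs : ∑ g, c g = 1) (lam : centralizer (A : Set G) →* ℂˣ)
    (hl : ∀ x : centralizer (A : Set G), ¬ 3 ∣ orderOf (x : G) → lam x = 1) :
    MemLocalIdeal M (∑ g, c g * mu (centralizer (A : Set G)) lam g - 1) := by
  classical
  have : Fact (Nat.Prime 3) := ⟨Nat.prime_three⟩
  have h1 : ∀ g, c g * mu (centralizer (A : Set G)) lam g = if g ∈ centralizer (A : Set G) then c g else 0 := by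
    intro g
    by_cases hg : g ∈ centralizer (A : Set G)
    · rw [if_pos hg, mu_of_mem lam hg]
      by_cases h3 : 3 ∣ orderOf g
      · rw [hc0 g h3, zero_mul]
      · rw [hl ⟨g, hg⟩ h3, Units.val_one, mul_one]
    · rw [if_neg hg, mu_of_notMem lam hg, mul_zero]
  simp only [h1]
  rw [← Finset.sum_filter]
  let f : G → locRing hM := fun g => ⟨c g, hcR g⟩
  obtain ⟨a, ha⟩ := Cfsg.Agent.Blocks.OrbitSum.sum_eq_sum_centralizer_add_smul A hA f
    (fun u _ x => Subtype.ext (hc u x))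
  have h2 := congrArg (Subtype.val) ha
  rw [AddSubmonoidClass.coe_finsetSum] at h2
  change ∑ x, c x = _ at h2
  rw [hs, Subring.coe_add, AddSubmonoidClass.coe_finsetSum] at h2
  change 1 = ∑ x ∈ _, c x + ((3 • a : locRing hM) : ℂ) at h2
  have h3 : ∑ x ∈ Finset.univ.filter (· ∈ centralizer (A : Set G)), c x - 1 = - ((3 • a : locRing hM) : ℂ) := by
    rw [h2]; ring
  rw [h3]
  refine memLocalIdeal_neg ?_
  rw [nsmul_eq_mul]
  change MemLocalIdeal M (((3 : ℕ) : locRing hM) * a : locRing hM)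
  rw [Subring.coe_mul]
  refine memLocalIdeal_mul_right hM ?_ a.2
  rw [show (((3 : ℕ) : locRing hM) : ℂ) = ((3 : ℕ) : ℂ) from map_natCast (locRing hM).subtype 3]
  exact (memLocalIdeal_natCast_iff hM 3).2 dvd_rfl

/-- the sum of all the weights -/
noncomputable def LL [Fintype G] (c : G → ℂ) (C : Subgroup G) (lam : C →* ℂˣ) (D : Finset G) : ℂ :=
  ∑ t, ww c C lam D (fun _ => True) t

/-- **the left side** -/
theorem left [Fintype G] {M : Ideal AlgInt} (hM : IsPModular 3 M) {P A : Subgroup G} (h : Hyp P A z) (hD : HypD D z)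
    (hDc : ∀ x ∈ P, ∀ d ∈ D, x * d * x⁻¹ ∈ D) {c : G → ℂ} (hc : ∀ x g, c (x * g * x⁻¹) = c g)
    (hcR : ∀ g, MemLocalRing M (c g)) (hc0 : ∀ g, 3 ∣ orderOf g → c g = 0) (hs : ∑ g, c g = 1)
    (lam : centralizer (A : Set G) →* ℂˣ) (hl : ∀ x : centralizer (A : Set G), ¬ 3 ∣ orderOf (x : G) → lam x = 1)
    (hlM : ∀ x, MemLocalIdeal M (((lam x : ℂˣ) : ℂ) - 1)) (hz : z ∈ centralizer (A : Set G))
    (hl3 : lam ⟨z, hz⟩ ≠ 1) {j : ℕ} (hj : 1 + (Dz D z).card = 3 * j) (hj3 : ¬ 3 ∣ j) :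
    ¬ MemLocalIdeal M (LL c (centralizer (A : Set G)) lam D / 9) := by
  classical
  intro hcon
  have h1 : LL c (centralizer (A : Set G)) lam D =
      ∑ t, ww c (centralizer (A : Set G)) lam D (fun t => z ∉ Zt t) t +
        ∑ t, ww c (centralizer (A : Set G)) lam D (fun t => z ∈ Zt t) t := by
    unfold LL
    rw [← Finset.sum_add_distrib]
    refine Finset.sum_congr rfl fun t _ => ?_
    by_cases ht : t.2.1 ∈ D ∧ t.2.2 ∈ D
    · rw [ww_pos (Q := fun _ => True) ⟨ht.1, ht.2, trivial⟩]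
      by_cases hzt : z ∈ Zt t
      · rw [ww_neg (Q := fun t => z ∉ Zt t) (fun h => h.2.2 hzt), ww_pos (Q := fun t => z ∈ Zt t) ⟨ht.1, ht.2, hzt⟩,
          zero_add]
      · rw [ww_pos (Q := fun t => z ∉ Zt t) ⟨ht.1, ht.2, hzt⟩, ww_neg (Q := fun t => z ∈ Zt t) (fun h => hzt h.2.2),
          add_zero]
    · rw [ww_neg (fun h => ht ⟨h.1, h.2.1⟩), ww_neg (fun h => ht ⟨h.1, h.2.1⟩), ww_neg (fun h => ht ⟨h.1, h.2.1⟩),
        add_zero]
  have hzC : ∀ x ∈ centralizer (A : Set G), z * x = x * z := fun x hx => (mem_centralizer_iff.1 hx) z h.zA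
  obtain ⟨y, hy, e⟩ := sum_out hM h hc hcR lam hlM hDc
  have hl3' : ((lam ⟨z, hz⟩ : ℂˣ) : ℂ) ≠ 1 := fun h1 => hl3 (Units.ext h1)
  have hk := kappa hM h.pA hc hcR hc0 hs lam hl
  set κ := ∑ g, c g * mu (centralizer (A : Set G)) lam g with hκ
  have h2 := sum_in hD hz hl3' hzC c
  rw [← hκ] at h2
  rw [e, h2] at h1
  have h3 : (1 + ((Dz D z).card : ℂ)) = 3 * j := by exact_mod_cast hj
  rw [h3] at h1
  have h4 : LL c (centralizer (A : Set G)) lam D / 9 = y + (j : ℂ) ^ 2 * (κ - 1) + (j : ℂ) ^ 2 := by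
    rw [h1]; ring
  rw [h4] at hcon
  have h5 : MemLocalIdeal M (y + (j : ℂ) ^ 2 * (κ - 1)) :=
    memLocalIdeal_add hM hy (memLocalIdeal_mul_left hM (memLocalRing_pow hM (memLocalRing_natCast hM j) 2) hk)
  have h6 := memLocalIdeal_sub hM hcon h5
  rw [add_sub_cancel_left] at h6
  have h7 : ((j : ℂ) ^ 2) = ((j ^ 2 : ℕ) : ℂ) := by push_cast; ring
  rw [h7, memLocalIdeal_natCast_iff hM] at h6
  exact hj3 (Nat.prime_three.dvd_of_dvd_pow h6)

end Cfsg.Agent.H743.HT
end

-- part: H234/HT/ExcDefs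
section
set_option linter.all false

/-!
# S4933, part (O), exceptional groups: the interface (helper234)

`G` a group of matrices over `F`, `q` a power of the characteristic, `p` a prime not dividing `q`, `e` the order of `q` modulo `p`.

* `Cnt p m ex`   : the exponents `ex i` (modulo `p ^ m`) satisfy one of the two criteria of Lemma B (`H234/HT/LemB`);
* `HasElt p G q` : for every `m ≥ 2` with `p ^ m` the exact power of `p` in `q ^ e - 1`, the group `G` contains a matrix `y` with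
  eigenvalues `z ^ ex i`, `z` a primitive `p ^ m`-th root of unity in an extension field, and `Cnt p m ex`.
-/

set_option autoImplicit false

open Polynomial

namespace Cfsg.Agent.H234.HT

/-- the two criteria -/
def Cnt (p m : ℕ) {ι : Type*} [Fintype ι] (ex : ι → ℕ) : Prop :=
  ∃ r : ℕ, ¬ p ∣ r ∧
    (¬ p ∣ (Finset.univ.filter fun i => ex i % p ^ (m - 1) = r % p ^ (m - 1)).card ∨
      (5 ≤ p ∧ ¬ p ∣ ∑ i ∈ Finset.univ.filter (fun i => ex i % p ^ (m - 1) = r % p ^ (m - 1)), ex i / p ^ (m - 1)))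

/-- the eigenvalues of `A` over `k` are the `z ^ ex i` -/
def Eig {ι : Type*} [Fintype ι] [DecidableEq ι] {F : Type*} [Field F] (A : Matrix ι ι F) {k : Type*} [Field k]
    (f : F →+* k) (z : k) (ex : ι → ℕ) : Prop :=
  (A.map f).charpoly = ∏ i, (X - C (z ^ ex i))

/-- **the element** -/
def HasElt (p : ℕ) {ι : Type*} [Fintype ι] [DecidableEq ι] {F : Type*} [Field F] (G : Subgroup (GL ι F)) (q : ℕ) : Prop :=
  ∀ m : ℕ, 2 ≤ m → p ^ m ∣ q ^ orderOf ((q : ℕ) : ZMod p) - 1 → ¬ p ^ (m + 1) ∣ q ^ orderOf ((q : ℕ) : ZMod p) - 1 →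
    ∃ y ∈ G, ∃ (k : Type) (_ : Field k) (f : F →+* k) (z : k) (ex : ι → ℕ),
      IsPrimitiveRoot z (p ^ m) ∧ Eig (y : Matrix ι ι F) f z ex ∧ Cnt p m ex

end Cfsg.Agent.H234.HT
end

-- part: H234/HT/ExcCommon_mg
section
prune_inst 0x2d150774502a2020800002084c1207e1694000080002b84008c00004c00000d0241a0c76005003125480820000004042002100080404000000e24040000050100008804046081009180001800028c610000008000300000000000000000000004004010000
set_option linter.all false
open scoped Cfsg.Agent.FastGrp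

-- part: H234/HT/ExcDefs3
section
/-!
# S4933, part (O), exceptional groups: the interface with the second moment (helper234, helper395)

`Cnt3`, `HasElt3` : `Cnt`, `HasElt` with a third alternative (`E₇`, `e = 4`, `p = 5`).
-/

set_option autoImplicit false

open Polynomial

namespace Cfsg.Agent.H234.HT

/-- the three criteria -/
def Cnt3 (p m : ℕ) {ι : Type*} [Fintype ι] (ex : ι → ℕ) : Prop :=
  Cnt p m ex ∨ ∃ r : ℕ, ¬ p ∣ r ∧ 5 ≤ p ∧
    ¬ p ∣ ∑ i ∈ Finset.univ.filter (fun i => ex i % p ^ (m - 1) = r % p ^ (m - 1)), (ex i / p ^ (m - 1)) ^ 2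

/-- **the element** -/
def HasElt3 (p : ℕ) {ι : Type*} [Fintype ι] [DecidableEq ι] {F : Type*} [Field F] (G : Subgroup (GL ι F)) (q : ℕ) : Prop :=
  ∀ m : ℕ, 2 ≤ m → p ^ m ∣ q ^ orderOf ((q : ℕ) : ZMod p) - 1 → ¬ p ^ (m + 1) ∣ q ^ orderOf ((q : ℕ) : ZMod p) - 1 →
    ∃ y ∈ G, ∃ (k : Type) (_ : Field k) (f : F →+* k) (z : k) (ex : ι → ℕ),
      IsPrimitiveRoot z (p ^ m) ∧ Eig (y : Matrix ι ι F) f z ex ∧ Cnt3 p m ex

theorem HasElt.three {p : ℕ} {ι : Type*} [Fintype ι] [DecidableEq ι] {F : Type*} [Field F] {G : Subgroup (GL ι F)} {q : ℕ}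
    (h : HasElt p G q) : HasElt3 p G q := by
  intro m h1 h2 h3
  obtain ⟨y, hy, k, ik, f, z, ex, h4, h5, h6⟩ := h m h1 h2 h3
  exact ⟨y, hy, k, ik, f, z, ex, h4, h5, Or.inl h6⟩

end Cfsg.Agent.H234.HT
end

-- part: H234/HT/LemB3
section
/-!
# S4933, part (O), Lemma B: the second moment, and `Cnt3` (helper234)
-/

set_option autoImplicit false

namespace Cfsg.Agent.H234.HT

open Polynomial Finset

section

variable {p n : ℕ} [hp : Fact p.Prime] {ζ : ℂ} (hζ : IsPrimitiveRoot ζ (p ^ (n + 1))) (hn : 1 ≤ n) {u : ℕ} (hu : ¬ p ∣ u)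
  {ι : Type*} (s : Finset ι) (k : ι → ℕ) {z : ℂ} (hz : IsIntegral ℤ z)
  (h : ∑ i ∈ s, ζ ^ k i - ∑ i ∈ s, ζ ^ ((1 + p ^ n * u) * k i) = (p : ℂ) * z)

include hζ hn hu hz h in
/-- **the second moment in a class** -/
theorem sq_dvd (hp5 : 5 ≤ p) {r : ℕ} (hr : ¬ p ∣ r) :
    p ∣ ∑ i ∈ s.filter (fun i => k i % p ^ n = r % p ^ n), (k i / p ^ n) ^ 2 := by
  have hq : 0 < p ^ n := pow_pos hp.out.pos _
  have h0 := count_dvd hζ hn hu s k hz h (by omega) hr
  have h00 := sum_dvd hζ hn hu s k hz h hp5 hr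
  have h1 := func_eq hζ (f := fn p (p ^ n) r 3) (fn_sum hq r (by omega)) s s k (fun i => (1 + p ^ n * u) * k i) hz h
  simp only [fn_twist hn] at h1
  simp only [fn] at h1
  rw [← Finset.sum_filter, ← Finset.sum_filter] at h1
  have hexp : ∀ a b : ZMod p, (a + b) ^ 3 = a ^ 3 + (3 * b * a ^ 2 + (3 * b ^ 2 * a + b ^ 3)) := fun a b => by ring
  simp only [hexp] at h1
  rw [Finset.sum_add_distrib, Finset.sum_add_distrib, Finset.sum_add_distrib, left_eq_add, Finset.sum_const, nsmul_eq_mul,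
    (ZMod.natCast_eq_zero_iff _ _).2 h0, zero_mul, add_zero, ← Finset.mul_sum, ← Finset.mul_sum, ← Nat.cast_sum,
    (ZMod.natCast_eq_zero_iff _ _).2 h00, mul_zero, add_zero] at h1
  have hur : ((u * r : ℕ) : ZMod p) ≠ 0 := by
    intro h2
    rw [ZMod.natCast_eq_zero_iff] at h2
    rcases (hp.out.dvd_mul).1 h2 with h3 | h3
    · exact hu h3
    · exact hr h3
  have h3 : (3 : ZMod p) ≠ 0 := by
    intro h4
    have h5 : ((3 : ℕ) : ZMod p) = 0 := by exact_mod_cast h4
    rw [ZMod.natCast_eq_zero_iff] at h5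
    have := Nat.le_of_dvd (by norm_num) h5
    omega
  have h4 := (mul_eq_zero.1 h1).resolve_left (mul_ne_zero h3 hur)
  rw [← ZMod.natCast_eq_zero_iff, Nat.cast_sum, ← h4]
  exact Finset.sum_congr rfl fun i _ => Nat.cast_pow _ _

end

/-- **the congruence is impossible** -/
theorem not_cong {p n : ℕ} [hp : Fact p.Prime] (hp2 : p ≠ 2) (hn : 1 ≤ n) {ι : Type*} [Fintype ι] {ex : ι → ℕ}
    (hc : Cnt3 p (n + 1) ex) {ζ : ℂ} (hζ : IsPrimitiveRoot ζ (p ^ (n + 1))) {u : ℕ} (hu : ¬ p ∣ u) {z : ℂ}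
    (hz : IsIntegral ℤ z) : ∑ i, ζ ^ ex i - ∑ i, ζ ^ ((1 + p ^ n * u) * ex i) ≠ (p : ℂ) * z := by
  intro h
  rcases hc with ⟨r, hr, h1 | ⟨h5, h1⟩⟩ | ⟨r, hr, h5, h1⟩
  · exact h1 (count_dvd hζ hn hu Finset.univ ex hz h hp2 hr)
  · exact h1 (sum_dvd hζ hn hu Finset.univ ex hz h h5 hr)
  · exact h1 (sq_dvd hζ hn hu Finset.univ ex hz h h5 hr)

end Cfsg.Agent.H234.HT
end

-- part: H234/HT/Ed3
section
/-!
# S4933, part (O): `exists_fd` with the three criteria (helper234)

`exists_fd3` : from the eigenvalues (`ED`) and the element (`EYc`) to the class function (`FD`) with `Test`.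
-/

set_option autoImplicit false

open Subgroup

namespace Cfsg.Agent.H234.HT

open Cfsg Cfsg.Agent.H37.HT

universe u v

/-- the element `y` with the three criteria -/
def EYc {p r f : ℕ} {S : Type u} [Group S] {K : Type v} [Field K] (E : ED p r f S K) : Prop :=
  p ∣ f → ∀ (e m : ℕ) (ω : K), 0 < e → orderOf ((r ^ f : ℕ) : ZMod p) = e → 1 ≤ m →
    p ^ (m + 1) ∣ (r ^ f) ^ e - 1 → ¬ p ^ (m + 2) ∣ (r ^ f) ^ e - 1 → IsPrimitiveRoot ω (p ^ (m + 1)) →
    ∃ (y : S) (ι : Type) (_ : Fintype ι) (ex : ι → ℕ) (c : ℕ), IsP p y ∧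
      E.E y = (Finset.univ : Finset ι).val.map (fun i => ω ^ (c * ex i)) ∧ c.Coprime p ∧ Cnt3 p (m + 1) ex

/-- **box O.num, general form** -/
theorem exists_fd3 {p : ℕ} [hp : Fact p.Prime] (hp2 : p ≠ 2) {r f : ℕ} (hr : r.Prime) (hrp : r ≠ p) (hf : 0 < f)
    {S : Type u} [Group S] [Finite S] {K : Type v} [Field K] [CharP K r] [IsAlgClosed K] (E : ED p r f S K) (hy : EYc E) :
    ∃ D : FD p r f S, Test D ∧
      (∀ (x y : S) (k : ℕ), IsP p x → IsP p y → E.E x = ((E.E y).map fun a => a ^ k) → D.F x = D.F (y ^ k)) := by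
  classical
  obtain ⟨e, he⟩ : ∃ e, orderOf ((r ^ f : ℕ) : ZMod p) = e := ⟨_, rfl⟩
  set L := (Nat.card S).factorization p + padicValNat p ((r ^ f) ^ e - 1) with hL
  set N := p ^ L with hNdef
  have hN0 : N ≠ 0 := pow_ne_zero _ hp.out.ne_zero
  have hN : p ^ (Nat.card S).factorization p ∣ N := pow_dvd_pow p (Nat.le_add_right _ _)
  have hNz : NeZero N := ⟨hN0⟩
  have hpK : (p : K) ≠ 0 := by
    intro h
    have h1 := (CharP.cast_eq_zero_iff K r p).1 h
    exact hrp ((Nat.prime_dvd_prime_iff_eq hr hp.out).1 h1)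
  have hNK : NeZero ((N : ℕ) : K) := ⟨by rw [hNdef, Nat.cast_pow]; exact pow_ne_zero _ hpK⟩
  have hNC : NeZero ((N : ℕ) : ℂ) := ⟨Nat.cast_ne_zero.2 hN0⟩
  have θ : rootsOfUnity N K ≃* rootsOfUnity N ℂ := mulEquivOfCyclicCardEq (by
    rw [HasEnoughRootsOfUnity.natCard_rootsOfUnity, HasEnoughRootsOfUnity.natCard_rootsOfUnity])
  refine ⟨fd E hN0 hN θ, ?_, ?_⟩
  · intro hpf
    obtain ⟨g, rfl⟩ := hpf
    have hg : p * g / p = g := Nat.mul_div_cancel_left g hp.out.pos
    rw [hg]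
    have hq : r ^ (p * g) = (r ^ g) ^ p := by rw [← pow_mul, mul_comm]
    have hprg : ¬ p ∣ r ^ g := fun h =>
      hrp ((Nat.prime_dvd_prime_iff_eq hp.out hr).1 (hp.out.dvd_of_dvd_pow h)).symm
    have hg0 : g ≠ 0 := by
      rintro rfl
      simp at hf
    have hunit : ((r ^ (p * g) : ℕ) : ZMod p) ≠ 0 := by
      rw [Ne, ZMod.natCast_eq_zero_iff, hq]
      exact fun h => hprg (hp.out.dvd_of_dvd_pow h)
    have hep : e ∣ p - 1 := by
      rw [← he]
      exact orderOf_dvd_of_pow_eq_one (ZMod.pow_card_sub_one_eq_one hunit)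
    have he0 : 0 < e := Nat.pos_of_ne_zero (by
      rintro rfl
      rw [Nat.zero_dvd] at hep
      have := hp.out.two_le
      omega)
    -- `p` divides `q₁ ^ e - 1`
    have hrg2 : 2 ≤ r ^ g := by
      calc 2 ≤ r := hr.two_le
        _ = r ^ 1 := (pow_one r).symm
        _ ≤ r ^ g := Nat.pow_le_pow_right hr.pos (Nat.pos_of_ne_zero hg0)
    have h1 : p ∣ (r ^ g) ^ e - 1 := by
      have h2 : (((r ^ g) ^ e : ℕ) : ZMod p) = 1 := by
        have h3 := pow_orderOf_eq_one ((r ^ (p * g) : ℕ) : ZMod p)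
        rw [he, hq, Nat.cast_pow, ZMod.pow_card, ← Nat.cast_pow] at h3
        exact h3
      rw [← ZMod.natCast_eq_zero_iff, Nat.cast_sub (Nat.one_le_pow _ _ (by omega)), h2, Nat.cast_one, sub_self]
    have hY : 1 < (r ^ g) ^ e := Nat.one_lt_pow he0.ne' (by omega)
    have h3 := padicValNat.pow_sub_pow (hp.out.odd_of_ne_two hp2) hY h1
      (fun h => hprg (hp.out.dvd_of_dvd_pow h)) hp.out.ne_zero
    rw [one_pow, padicValNat.self hp.out.one_lt] at h3
    have h4 : ((r ^ g) ^ e) ^ p = (r ^ (p * g)) ^ e := by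
      simp only [← pow_mul]
      congr 1
      ring
    rw [h4] at h3
    have h5 : 1 ≤ padicValNat p ((r ^ g) ^ e - 1) := one_le_padicValNat_of_dvd (by omega) h1
    obtain ⟨m, hm⟩ : ∃ m, padicValNat p ((r ^ (p * g)) ^ e - 1) = m + 1 := ⟨padicValNat p ((r ^ g) ^ e - 1), h3⟩
    have hm1 : 1 ≤ m := by omega
    have hne : (r ^ (p * g)) ^ e - 1 ≠ 0 := by
      intro h
      rw [h, padicValNat_zero_right] at hm
      omega
    have hd1 : p ^ (m + 1) ∣ (r ^ (p * g)) ^ e - 1 := (padicValNat_dvd_iff_le hne).2 hm.ge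
    have hd2 : ¬ p ^ (m + 2) ∣ (r ^ (p * g)) ^ e - 1 := fun h => by
      have := (padicValNat_dvd_iff_le hne).1 h
      omega
    have hdN : p ^ (m + 1) ∣ N := by
      rw [hNdef, hL, hm]
      exact pow_dvd_pow p (Nat.le_add_left _ _)
    have hmK : NeZero ((p ^ (m + 1) : ℕ) : K) := ⟨by rw [Nat.cast_pow]; exact pow_ne_zero _ hpK⟩
    have hmz : NeZero (p ^ (m + 1)) := ⟨pow_ne_zero _ hp.out.ne_zero⟩
    obtain ⟨ω, hω⟩ := HasEnoughRootsOfUnity.exists_primitiveRoot K (p ^ (m + 1))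
    obtain ⟨y, ι, _, ex, c, hyP, hyE, hcop, hcnt⟩ := hy ⟨g, rfl⟩ e m ω he0 he hm1 hd1 hd2 hω
    refine ⟨y, hyP, ?_⟩
    set ζ := iota θ ω with hζdef
    have hζ : IsPrimitiveRoot ζ (p ^ (m + 1)) := iota_prim θ hN0 hdN hω
    have hζc : IsPrimitiveRoot (ζ ^ c) (p ^ (m + 1)) := hζ.pow_of_coprime c (hcop.pow_right _)
    have hωN : ω ^ N = 1 := by
      obtain ⟨c, hc⟩ := hdN
      rw [hc, pow_mul, hω.pow_eq_one, one_pow]
    have hF : ∀ k : ℕ, (fd E hN0 hN θ).F (y ^ k) = ∑ i, (ζ ^ c) ^ (k * ex i) := by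
      intro k
      rw [fd_F E hN0 hN θ (IsP.pow hyP k), Fs_pow E hN0 hN θ hyP, hyE, Multiset.map_map]
      refine Finset.sum_congr rfl fun j _ => ?_
      simp only [Function.comp_apply]
      rw [iota_pow θ hN0 hωN, ← pow_mul, ← pow_mul]
      congr 1
      ring
    -- `q` acts trivially
    have hfr : ∀ t : ℕ, (fd E hN0 hN θ).F (y ^ (r ^ g * (r ^ (p * g)) ^ t)) = (fd E hN0 hN θ).F (y ^ r ^ g) := by
      intro t
      induction t with
      | zero => rw [pow_zero, mul_one]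
      | succ t ih => rw [← ih, pow_succ, ← mul_assoc, pow_mul y, (fd E hN0 hN θ).frob _ (IsP.pow hyP _)]
    obtain ⟨u, hu, hκ⟩ := kappa (q1 := r ^ g) (e := e) (m := m) hp2 hprg (by rw [← hq]; exact he) (by rw [← hq]; exact hd1)
      (by rw [← hq]; exact hd2)
    rintro ⟨z, hz, hzz⟩
    rw [← hfr (e - 1), hq, hκ, hF, show y = y ^ 1 from (pow_one y).symm, hF] at hzz
    refine not_cong hp2 hm1 hcnt hζc hu hz.neg ?_
    rw [mul_neg, ← hzz, neg_sub]
    simp only [one_mul]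
  · intro x y k hx hy' hxy
    rw [fd_F E hN0 hN θ hx, fd_F E hN0 hN θ (IsP.pow hy' k), Fs, Fs, hxy, E_pow E hy']

end Cfsg.Agent.H234.HT
end

-- part: H234/HT/EdExc
section
/-!
# S4933, part (O): matrix groups (helper234)

`G` a group of matrices over the finite field `F`, `K` its algebraic closure.

* `ed`  : the eigenvalues of the elements of `G`;
* `transport` : the eigenvalues in an extension field `k` give eigenvalues in `K`;
* `exists_isP` : the element may be chosen of `p`-power order;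
* `exists_fd_mat` : from `HasElt3` to the class function `FD` with `Test`.
-/

set_option autoImplicit false

open Subgroup Polynomial

namespace Cfsg.Agent.H234.HT

open Cfsg Cfsg.Agent.H37.HT

section Roots

variable {K : Type*} [Field K]

theorem roots_prod {ι : Type*} [Fintype ι] (a : ι → K) :
    (∏ i, (X - C (a i)) : K[X]).roots = (Finset.univ : Finset ι).val.map a := by
  have h := roots_multiset_prod_X_sub_C ((Finset.univ : Finset ι).val.map a)
  rw [Multiset.map_map] at h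
  exact h

theorem roots_map_of [IsAlgClosed K] (φ : K →+* K) (P : K[X]) : (P.map φ).roots = P.roots.map φ :=
  (IsAlgClosed.splits P).roots_map φ

end Roots

section Mat

variable {ι : Type} [Fintype ι] [DecidableEq ι] {F : Type} [Field F] {K : Type} [Field K] (g : F →+* K)

/-- the eigenvalues -/
noncomputable def eE (x : GL ι F) : Multiset K :=
  (((x : Matrix ι ι F).charpoly).map g).roots

theorem eE_conj (h x : GL ι F) : eE g (h * x * h⁻¹) = eE g x := by
  rw [eE, eE, Units.val_mul, Units.val_mul, Matrix.coe_units_inv, Matrix.charpoly_units_conj]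

variable (G : Subgroup (GL ι F)) {p r f : ℕ}

/-- the representation over `K` -/
def rh (P : Subgroup G) : P →* Matrix ι ι K where
  toFun x := (((x : G) : GL ι F) : Matrix ι ι F).map g
  map_one' := by
    show (1 : Matrix ι ι F).map g = 1
    exact Matrix.map_one g (map_zero g) (map_one g)
  map_mul' x y := by
    show ((((x : G) : GL ι F) : Matrix ι ι F) * (((y : G) : GL ι F) : Matrix ι ι F)).map g = _
    exact Matrix.map_mul

theorem rh_charpoly (P : Subgroup G) (x : P) :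
    (rh g G P x).charpoly = ((((x : G) : GL ι F) : Matrix ι ι F).charpoly).map g :=
  Matrix.charpoly_map _ g

variable [IsAlgClosed K] [Finite F] [hp : Fact p.Prime]

/-- **the eigenvalue datum** -/
noncomputable def ed [Fact r.Prime] [CharP K r] [CharP F r] (hrp : r ≠ p) (hab : AbSyl p G)
    (hfr : ∀ x ∈ G, (x : Matrix ι ι F).charpoly.map (iterateFrobenius F r f) = (x : Matrix ι ι F).charpoly) :
    ED p r f G K where
  E x := eE g (x : GL ι F)
  conj h x _ := by
    rw [Subgroup.coe_mul, Subgroup.coe_mul, Subgroup.coe_inv]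
    exact eE_conj g _ _
  lin P := by
    have hpK : (p : K) ≠ 0 := by
      intro h
      have h1 := (CharP.cast_eq_zero_iff K r p).1 h
      exact hrp ((Nat.prime_dvd_prime_iff_eq Fact.out hp.out).1 h1)
    obtain ⟨κ, hκ, χ, h⟩ := exists_charpoly (rh g G (P : Subgroup G)) (fun x y => by
      rw [← map_mul, ← map_mul, show x * y = y * x from Subtype.ext (hab P x x.2 y y.2)])
      (N := Nat.card (P : Subgroup G)) (by
        rw [Sylow.card_eq_multiplicity, Nat.cast_pow]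
        exact pow_ne_zero _ hpK) (fun x => pow_card_eq_one')
    refine ⟨Fintype.card κ, fun i => χ ((Fintype.equivFin κ).symm i), fun x => ?_⟩
    rw [eE, ← rh_charpoly, h x, roots_prod]
    rw [← Function.comp_def (fun j => ((χ j x : Kˣ) : K)) (Fintype.equivFin κ).symm,
      ← Multiset.map_map]
    congr 1
    have h1 : (Finset.univ : Finset (Fin (Fintype.card κ))).map (Fintype.equivFin κ).symm.toEmbedding = Finset.univ :=
      Finset.map_univ_equiv _
    exact (congrArg Finset.val h1).symm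
  frob x _ := by
    have h1 : (iterateFrobenius K r f : K → K) = fun a => a ^ r ^ f :=
      funext fun a => iterateFrobenius_def r f a
    rw [← h1, eE, ← roots_map_of, Polynomial.map_map]
    have h2 : (iterateFrobenius K r f).comp g = g.comp (iterateFrobenius F r f) := by
      ext a
      simp only [RingHom.comp_apply, iterateFrobenius_def, map_pow]
    rw [h2, ← Polynomial.map_map, hfr x x.2]

end Mat

/-! ### transport -/

theorem transport {ι : Type} [Fintype ι] {F K k : Type} [Field F] [Field K] [Field k] [Algebra F K]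
    [Algebra.IsAlgebraic F K] (f0 : F →+* k) {N : ℕ} (hN : N ≠ 0) {ω : K} {z : k} (hω : IsPrimitiveRoot ω N)
    (hz : IsPrimitiveRoot z N) {P : F[X]} {ex : ι → ℕ} (h : P.map f0 = ∏ i, (X - C (z ^ ex i))) :
    ∃ c : ℕ, c.Coprime N ∧ P.map (algebraMap F K) = ∏ i, (X - C (ω ^ (c * ex i))) := by
  have hNz : NeZero N := ⟨hN⟩
  let _ : Algebra F (AlgebraicClosure k) := ((algebraMap k (AlgebraicClosure k)).comp f0).toAlgebra
  have τ : K →ₐ[F] AlgebraicClosure k := IsAlgClosed.lift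
  obtain ⟨L, iL, hL⟩ : ∃ (L : Type) (_ : Field L), ∃ (a : k →+* L) (t : K →+* L), t.comp (algebraMap F K) = a.comp f0 :=
    ⟨AlgebraicClosure k, inferInstance, algebraMap k (AlgebraicClosure k), τ.toRingHom, by
      ext x
      exact τ.commutes x⟩
  obtain ⟨a, t, hat⟩ := hL
  have h1 : IsPrimitiveRoot (a z) N := hz.map_of_injective (f := a) a.injective
  have h2 : IsPrimitiveRoot (t ω) N := hω.map_of_injective (f := t) t.injective
  obtain ⟨c, -, hc⟩ := h2.eq_pow_of_pow_eq_one h1.pow_eq_one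
  refine ⟨c, (h2.pow_iff_coprime (Nat.pos_of_ne_zero hN) c).1 (hc ▸ h1), ?_⟩
  apply Polynomial.map_injective t t.injective
  rw [Polynomial.map_map, hat, ← Polynomial.map_map, h, Polynomial.map_prod, Polynomial.map_prod]
  refine Finset.prod_congr rfl fun i _ => ?_
  have e1 : a (z ^ ex i) = t (ω ^ (c * ex i)) := by rw [map_pow, map_pow, ← hc, pow_mul]
  rw [Polynomial.map_sub, Polynomial.map_sub, map_X, map_C, map_C, map_X, e1]

theorem charpoly_pow {ι : Type} [Fintype ι] [DecidableEq ι] {F : Type} [Field F] [Fintype F] (A : Matrix ι ι F) (t : ℕ) :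
    (A ^ Fintype.card F ^ t).charpoly = A.charpoly := by
  induction t with
  | zero => rw [pow_zero, pow_one]
  | succ t ih => rw [pow_succ, pow_mul, FiniteField.Matrix.charpoly_pow_card, ih]

/-- a matrix of order prime to the characteristic whose eigenvalues are `N`-th roots of unity -/
theorem pow_eq_one_of {ι : Type} [Fintype ι] [DecidableEq ι] {K : Type} [Field K] [IsAlgClosed K] {A : Matrix ι ι K}
    {n N : ℕ} (hn : (n : K) ≠ 0) (hN : N ≠ 0) (hA : A ^ n = 1) (h : ∀ a ∈ A.charpoly.roots, a ^ N = 1) : A ^ N = 1 := by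
  have hint : IsIntegral K A := A.isIntegral
  have h0 : minpoly K A ≠ 0 := minpoly.ne_zero hint
  have h1 : minpoly K A ∣ X ^ n - C 1 := minpoly.dvd K A (by rw [map_sub, map_pow, aeval_X, aeval_C, map_one, hA, sub_self])
  have h2 : (minpoly K A).Separable := (separable_X_pow_sub_C (1 : K) hn one_ne_zero).of_dvd h1
  have h3 : (minpoly K A).roots.Nodup := nodup_roots h2
  have h4 : (X ^ N - C 1 : K[X]) ≠ 0 := X_pow_sub_C_ne_zero (Nat.pos_of_ne_zero hN) 1
  have h5 : minpoly K A ∣ X ^ N - C 1 := by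
    rw [(IsAlgClosed.splits (minpoly K A)).eq_prod_roots_of_monic (minpoly.monic hint),
      Multiset.prod_X_sub_C_dvd_iff_le_roots h4, Multiset.le_iff_subset h3]
    intro a ha
    rw [mem_roots h4, IsRoot.def, eval_sub, eval_pow, eval_X, eval_C, sub_eq_zero]
    apply h
    rw [mem_roots A.charpoly_monic.ne_zero]
    exact (mem_roots h0).1 ha |>.dvd (Matrix.minpoly_dvd_charpoly A)
  have h6 := aeval_eq_zero_of_dvd_aeval_eq_zero h5 (minpoly.aeval K A)
  rw [map_sub, map_pow, aeval_X, aeval_C, map_one, sub_eq_zero] at h6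
  exact h6

theorem exists_isP {ι : Type} [Fintype ι] [DecidableEq ι] {F K : Type} [Field F] [Finite F] [Field K] [IsAlgClosed K]
    (g : F →+* K) {G : Subgroup (GL ι F)} {y : GL ι F} (hy : y ∈ G) {N : ℕ} (hN : N ≠ 0) {ω : K} (hω : ω ^ N = 1)
    {a : ι → ℕ} (h : ((y : Matrix ι ι F).charpoly).map g = ∏ i, (X - C (ω ^ a i))) :
    ∃ y' ∈ G, (y' : Matrix ι ι F).charpoly = (y : Matrix ι ι F).charpoly ∧ y' ^ N = 1 := by
  have hF := Fintype.ofFinite F
  obtain ⟨r, hr⟩ := CharP.exists F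
  have hrp : r.Prime := CharP.char_is_prime F r
  have hKr : CharP K r := charP_of_injective_ringHom g.injective r
  have hrQ : r ∣ Fintype.card F := by
    have h1 := FiniteField.cast_card_eq_zero F
    exact (CharP.cast_eq_zero_iff F r _).1 h1
  have hfin : Finite (GL ι F) := inferInstance
  have hn0 : orderOf y ≠ 0 := (orderOf_pos y).ne'
  obtain ⟨t, n', hn', hnn⟩ := Nat.exists_eq_pow_mul_and_not_dvd hn0 r hrp.ne_one
  have hcp : ((y ^ Fintype.card F ^ t : GL ι F) : Matrix ι ι F).charpoly = (y : Matrix ι ι F).charpoly := by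
    rw [Units.val_pow_eq_pow_val, charpoly_pow]
  have hpow : (y ^ Fintype.card F ^ t) ^ n' = 1 := by
    rw [← pow_mul]
    apply orderOf_dvd_iff_pow_eq_one.1
    rw [hnn]
    exact Nat.mul_dvd_mul (pow_dvd_pow_of_dvd hrQ t) dvd_rfl
  refine ⟨y ^ Fintype.card F ^ t, G.pow_mem hy _, hcp, ?_⟩
  have h1 : ((((y ^ Fintype.card F ^ t : GL ι F) : Matrix ι ι F).map g)) ^ N = 1 := by
    have hm : ∀ (z : GL ι F) (j : ℕ), ((z : Matrix ι ι F).map g) ^ j = ((z ^ j : GL ι F) : Matrix ι ι F).map g := by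
      intro z j
      rw [Units.val_pow_eq_pow_val]
      exact ((g.mapMatrix : Matrix ι ι F →+* Matrix ι ι K).map_pow _ _).symm
    refine pow_eq_one_of (n := n') ?_ hN ?_ ?_
    · intro h2
      exact hn' ((CharP.cast_eq_zero_iff K r n').1 h2)
    · rw [hm, hpow]
      show (1 : Matrix ι ι F).map g = 1
      exact Matrix.map_one g (map_zero g) (map_one g)
    · intro b hb
      rw [Matrix.charpoly_map, hcp, h, roots_prod, Multiset.mem_map] at hb
      obtain ⟨i, -, rfl⟩ := hb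
      rw [← pow_mul, mul_comm, pow_mul, hω, one_pow]
  have h2 : (((y ^ Fintype.card F ^ t) ^ N : GL ι F) : Matrix ι ι F).map g = (1 : Matrix ι ι F).map g := by
    rw [Units.val_pow_eq_pow_val, Matrix.map_one g (map_zero g) (map_one g), ← h1]
    exact (g.mapMatrix : Matrix ι ι F →+* Matrix ι ι K).map_pow _ _
  exact Units.ext (Matrix.map_injective g.injective h2)

/-- **the class function** -/
theorem eyc_of {ι : Type} [Fintype ι] [DecidableEq ι] {F : Type} [Field F] [Finite F] {K : Type} [Field K]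
    [IsAlgClosed K] [Algebra F K] [Algebra.IsAlgebraic F K] {G : Subgroup (GL ι F)} {p r f : ℕ} [hp : Fact p.Prime]
    [Fact r.Prime] [CharP K r] [CharP F r] (hrp : r ≠ p) (hab : AbSyl p G)
    (hfr : ∀ x ∈ G, (x : Matrix ι ι F).charpoly.map (iterateFrobenius F r f) = (x : Matrix ι ι F).charpoly)
    (h : HasElt3 p G (r ^ f)) : EYc (ed (algebraMap F K) G hrp hab hfr) := by
  intro hpf e m ω he0 he hm h1 h2 hω
  obtain ⟨y, hy, k, ik, f0, z, ex, hz, hE, hc⟩ := h (m + 1) (by omega) (by rw [he]; exact h1) (by rw [he]; exact h2)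
  have hN : p ^ (m + 1) ≠ 0 := pow_ne_zero _ hp.out.ne_zero
  have hE' : ((y : Matrix ι ι F).charpoly).map f0 = ∏ i, (X - C (z ^ ex i)) := by
    rw [← Matrix.charpoly_map]
    exact hE
  obtain ⟨c, hcc, hE2⟩ := transport f0 hN hω hz hE'
  obtain ⟨y', hy', hcp, hyN⟩ := exists_isP (algebraMap F K) hy hN hω.pow_eq_one hE2
  refine ⟨⟨y', hy'⟩, ι, inferInstance, ex, c, ⟨m + 1, Subtype.ext hyN⟩, ?_, ?_, hc⟩
  · show eE (algebraMap F K) y' = _
    rw [eE, hcp, hE2, roots_prod]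
  · exact (Nat.coprime_pow_right_iff (Nat.succ_pos m) c p).1 hcc

end Cfsg.Agent.H234.HT
end

-- part: H234/HT/OutD
section
/-!
# S4933, part (O), matrix groups: the data about the automorphisms (helper234)

`OutD p r f G` : `G` a group of matrices over the finite field `F` of characteristic `r`, `q = r ^ f`
(`|F| = q` for the untwisted groups and `²F₄(q)`, `q ^ 2` for `²E₆(q)`, `q ^ 3` for `³D₄(q)`):

* `out`  : `|Out G|_p ≤ f_p`;
* `frob` : the characteristic polynomials are invariant under `a ↦ a ^ q`;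
* `phi`  : an automorphism `φ` (the field automorphism `a ↦ a ^ r`) with `charpoly (φ x) = (charpoly x) ^ σ_r`,
  `φ ^ (k f)` inner for a `k` prime to `p`, and `charpoly (g φ g⁻¹ x) = charpoly (φ x)` for all automorphisms `g`.
-/

set_option autoImplicit false

open Polynomial

namespace Cfsg.Agent.H234.HT

open Cfsg

/-- the characteristic polynomial of an element -/
noncomputable def cp {ι : Type} [Fintype ι] [DecidableEq ι] {F : Type} [Field F] {G : Subgroup (GL ι F)} (x : G) : F[X] :=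
  (((x : GL ι F) : Matrix ι ι F)).charpoly

structure OutD (p r f : ℕ) {ι : Type} [Fintype ι] [DecidableEq ι] {F : Type} [Field F] (G : Subgroup (GL ι F)) : Prop where
  out : (Nat.card (Out ↥G)).factorization p ≤ f.factorization p
  frob : ∀ s : F →+* F, (∀ a, s a = a ^ r ^ f) → ∀ x : ↥G, (cp x).map s = cp x
  phi : ∀ s : F →+* F, (∀ a, s a = a ^ r) → ∃ φ : MulAut ↥G, (∀ x : ↥G, cp (φ x) = (cp x).map s) ∧
    (∃ k : ℕ, ¬ p ∣ k ∧ φ ^ (k * f) ∈ Inn ↥G) ∧ ∀ (g : MulAut ↥G) (x : ↥G), cp (g (φ (g⁻¹ x))) = cp (φ x)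

end Cfsg.Agent.H234.HT
end

-- part: H234/HT/ExcRow
section
/-!
# S4933, part (O): the row for a group of matrices (helper234)

`row_mat` : `AbSyl p G`, `OutD p r f G`, `HasElt3 p G (r ^ f)` imply `Row p G`.
-/

set_option autoImplicit false

open Subgroup Polynomial

namespace Cfsg.Agent.H234.HT

open Cfsg Cfsg.Agent.H37.HT Cfsg.Agent.H316.HT

/-- **the row of a matrix group** -/
theorem row_mat {ι : Type} [Fintype ι] [DecidableEq ι] {F : Type} [Field F] [Finite F] {G : Subgroup (GL ι F)}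
    {p r f : ℕ} [hp : Fact p.Prime] (hp2 : p ≠ 2) (hr : r.Prime) [CharP F r] (hrp : r ≠ p) (hf : 0 < f)
    (hab : AbSyl p G) (h : HasElt3 p G (r ^ f)) (hO : OutD p r f G) : Row p G := by
  have hrf : Fact r.Prime := ⟨hr⟩
  have hKr : CharP (AlgebraicClosure F) r := charP_of_injective_algebraMap (algebraMap F (AlgebraicClosure F)).injective r
  have hfr : ∀ x ∈ G, (x : Matrix ι ι F).charpoly.map (iterateFrobenius F r f) = (x : Matrix ι ι F).charpoly :=
    fun x hx => hO.frob (iterateFrobenius F r f) (fun a => iterateFrobenius_def r f a) ⟨x, hx⟩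
  obtain ⟨φ, hφ, hφf, hc⟩ := hO.phi (frobenius F r) (fun a => frobenius_def r a)
  obtain ⟨E, hE, hEd⟩ : ∃ E : ED p r f G (AlgebraicClosure F),
      (∀ x : G, E.E x = ((cp x).map (algebraMap F (AlgebraicClosure F))).roots) ∧ EYc E :=
    ⟨ed (algebraMap F (AlgebraicClosure F)) G hrp hab hfr, fun x => rfl, eyc_of hrp hab hfr h⟩
  refine row_of_ed' hr hrp hf hab hO.out E (exists_fd3 hp2 hr hrp hf E hEd) φ ?_ hφf ?_
  · intro x _
    have h1 : (frobenius (AlgebraicClosure F) r : AlgebraicClosure F → AlgebraicClosure F) = fun a => a ^ r :=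
      funext fun a => frobenius_def r a
    have h2 : (algebraMap F (AlgebraicClosure F)).comp (frobenius F r) =
        (frobenius (AlgebraicClosure F) r).comp (algebraMap F (AlgebraicClosure F)) := by
      ext a
      simp only [RingHom.comp_apply, frobenius_def, map_pow]
    rw [hE, hE, hφ, Polynomial.map_map, h2, ← Polynomial.map_map, roots_map_of, h1]
  · intro g x _
    rw [hE, hE, hc]

end Cfsg.Agent.H234.HT
end

-- part: H234/HT/ExcCommon
section
/-!
# S4933, part (O), exceptional groups: from `row_mat` to the fields of `OAb` (helper234)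

* `row_q`  : the row of a matrix group over `F`, `|F| = q ^ d`;
* `congr`  : rows are invariant under isomorphisms.
-/

set_option autoImplicit false

open Subgroup

namespace Cfsg.Agent.H234.HT

open Cfsg Cfsg.Agent.H37.HT Cfsg.Agent.H316.HT Cfsg.Agent.H892.HT

theorem abSyl_of {p : ℕ} {K : Type} [Group K] (h : Ab p K) : AbSyl p K := fun P x hx y hy =>
  congrArg Subtype.val ((h P).is_comm.comm ⟨x, hx⟩ ⟨y, hy⟩)

theorem row_congr {p : ℕ} {K S : Type} [Group K] [Group S] (e : K ≃* S) (h : Row p S) : Row p K :=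
  fun A _ _ N _ ⟨g⟩ => h A N ⟨g.trans e⟩

theorem ab_congr {p : ℕ} [Fact p.Prime] {K S : Type} [Group K] [Group S] [Finite K] [Finite S] (e : K ≃* S) (h : Ab p K) :
    Ab p S := by
  intro P
  have h1 := h (P.mapSurjective (f := e.symm.toMonoidHom) e.symm.surjective)
  constructor
  constructor
  rintro ⟨a, ha⟩ ⟨b, hb⟩
  apply Subtype.ext
  have h2 := congrArg Subtype.val (h1.is_comm.comm
    (⟨e.symm a, ⟨a, ha, rfl⟩⟩ : (P.mapSurjective (f := e.symm.toMonoidHom) e.symm.surjective : Subgroup K))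
    ⟨e.symm b, ⟨b, hb, rfl⟩⟩)
  have h3 : e.symm a * e.symm b = e.symm b * e.symm a := h2
  show a * b = b * a
  apply e.symm.injective
  rw [map_mul, map_mul, h3]

theorem exists_rf {F : Type} [Field F] [Fintype F] {q d : ℕ} (hq : IsPrimePow q) (hF : Fintype.card F = q ^ d) :
    ∃ r f : ℕ, r.Prime ∧ CharP F r ∧ 0 < f ∧ q = r ^ f := by
  obtain ⟨r, f, hr, hf, rfl⟩ := hq
  have hr' : r.Prime := Nat.prime_iff.2 hr
  refine ⟨r, f, hr', ?_, hf, rfl⟩
  obtain ⟨s, hs⟩ := CharP.exists F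
  have hsp : s.Prime := CharP.char_is_prime F s
  have hfs : Fact s.Prime := ⟨hsp⟩
  obtain ⟨n, -, hn⟩ := FiniteField.card F s
  have h1 : s ∣ (r ^ f) ^ d := by
    rw [← hF, hn]
    exact dvd_pow_self s n.ne_zero
  have h2 : s = r := (Nat.prime_dvd_prime_iff_eq hsp hr').1 (hsp.dvd_of_dvd_pow (hsp.dvd_of_dvd_pow h1))
  rwa [h2] at hs

theorem row_q {ι : Type} [Fintype ι] [DecidableEq ι] {F : Type} [Field F] [Fintype F] {G : Subgroup (GL ι F)}
    {p q d : ℕ} [hp : Fact p.Prime] (hp2 : p ≠ 2) (hq : IsPrimePow q) (hF : Fintype.card F = q ^ d) (hpq : ¬ p ∣ q)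
    (hab : Ab p G) (h : HasElt3 p G q)
    (hO : ∀ r f : ℕ, r.Prime → CharP F r → 0 < f → q = r ^ f → OutD p r f G) : Row p G := by
  obtain ⟨r, f, hr, hc, hf, rfl⟩ := exists_rf hq hF
  have hrp : r ≠ p := by
    rintro rfl
    exact hpq (dvd_pow_self r hf.ne')
  exact row_mat hp2 hr hrp hf (abSyl_of hab) h (hO r f hr hc hf rfl)

end Cfsg.Agent.H234.HT
end

-- part: H73/HT/Cnt
section
/-!
# S4933, part (O), exceptional groups: counting (helper73)

`ex i` the exponents of the eigenvalues of an element of order `p ^ m`.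

* `Cnt.of_mod` : it is enough that for some `t ≠ 0` in `ZMod p` the number of the `i` with `ex i = t` in `ZMod p` is
  prime to `p`;
* `cnt_of_unit` : `g` a unit of `ZMod p` with `#{ex i = g t} = #{ex i = t}`, the number of the `i` with `ex i ≠ 0` is smaller
  than `p * orderOf g`.
-/

set_option autoImplicit false

namespace Cfsg.Agent.H73.HT

open Cfsg.Agent.H234.HT Finset

variable {p m : ℕ} [hp : Fact p.Prime] {ι : Type*} [Fintype ι]

/-- the number of the exponents equal to `t` modulo `p` -/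
def nm (p : ℕ) {ι : Type*} [Fintype ι] (ex : ι → ℕ) (t : ZMod p) : ℕ :=
  (univ.filter fun i => ((ex i : ℕ) : ZMod p) = t).card

/-- counting modulo `p` is enough -/
theorem cnt_of_mod (hm : 2 ≤ m) (ex : ι → ℕ) {t : ZMod p} (ht : t ≠ 0) (h : ¬ p ∣ nm p ex t) : Cnt p m ex := by
  classical
  by_contra hcon
  have hN : 0 < p ^ (m - 1) := pow_pos hp.out.pos _
  have hpN : p ∣ p ^ (m - 1) := dvd_pow_self p (by omega)
  have h1 : ∀ r : ℕ, ¬ p ∣ r → p ∣ (univ.filter fun i => ex i % p ^ (m - 1) = r % p ^ (m - 1)).card := by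
    intro r hr
    by_contra h2
    exact hcon ⟨r, hr, Or.inl h2⟩
  apply h
  have h2 : ∀ i ∈ (univ.filter fun i => ((ex i : ℕ) : ZMod p) = t), ex i % p ^ (m - 1) ∈ range (p ^ (m - 1)) :=
    fun i _ => mem_range.2 (Nat.mod_lt _ hN)
  unfold nm
  rw [card_eq_sum_card_fiberwise h2]
  refine dvd_sum fun c hc => ?_
  by_cases hct : ((c : ℕ) : ZMod p) = t
  · have h3 : ¬ p ∣ c := by
      intro h4
      apply ht
      rw [← hct]
      exact (ZMod.natCast_eq_zero_iff _ _).2 h4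
    have h4 : (filter (fun i => ex i % p ^ (m - 1) = c) (univ.filter fun i => ((ex i : ℕ) : ZMod p) = t)) =
        (univ.filter fun i => ex i % p ^ (m - 1) = c % p ^ (m - 1)) := by
      ext i
      simp only [mem_filter, mem_univ, true_and]
      rw [Nat.mod_eq_of_lt (mem_range.1 hc)]
      constructor
      · exact fun h => h.2
      · intro h
        refine ⟨?_, h⟩
        rw [← hct, ← h, ZMod.natCast_eq_natCast_iff]
        exact ((Nat.mod_modEq (ex i) (p ^ (m - 1))).of_dvd hpN).symm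
    rw [h4]
    exact h1 c h3
  · have h4 : (filter (fun i => ex i % p ^ (m - 1) = c) (univ.filter fun i => ((ex i : ℕ) : ZMod p) = t)) = ∅ := by
      ext i
      simp only [mem_filter, mem_univ, true_and, notMem_empty, iff_false, not_and]
      intro h5 h6
      apply hct
      rw [← h5, ← h6, ZMod.natCast_eq_natCast_iff]
      exact (Nat.mod_modEq (ex i) (p ^ (m - 1))).of_dvd hpN
    rw [h4, card_empty]
    exact dvd_zero _

/-- **the generic bound** -/
theorem cnt_of_unit (hm : 2 ≤ m) (ex : ι → ℕ) (g : (ZMod p)ˣ) (hg : ∀ t : ZMod p, nm p ex (g * t) = nm p ex t) {i₀ : ι}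
    (hi : ¬ p ∣ ex i₀) (hb : (univ.filter fun i => ((ex i : ℕ) : ZMod p) ≠ 0).card < p * orderOf g) : Cnt p m ex := by
  classical
  set t₀ : ZMod p := ((ex i₀ : ℕ) : ZMod p) with ht₀
  have h0 : t₀ ≠ 0 := fun h => hi ((ZMod.natCast_eq_zero_iff _ _).1 h)
  refine cnt_of_mod hm ex h0 fun hdvd => ?_
  have hpos : 0 < nm p ex t₀ := card_pos.2 ⟨i₀, mem_filter.2 ⟨mem_univ _, rfl⟩⟩
  have hle : p ≤ nm p ex t₀ := Nat.le_of_dvd hpos hdvd
  have hpw : ∀ j : ℕ, nm p ex (((g ^ j : (ZMod p)ˣ) : ZMod p) * t₀) = nm p ex t₀ := by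
    intro j
    induction j with
    | zero => rw [pow_zero, Units.val_one, one_mul]
    | succ j ih => rw [pow_succ', Units.val_mul, mul_assoc, hg, ih]
  let T : Finset (ZMod p) := (range (orderOf g)).image fun j => ((g ^ j : (ZMod p)ˣ) : ZMod p) * t₀
  have hT : T.card = orderOf g := by
    rw [card_image_of_injOn, card_range]
    intro i hi' j hj h
    have h1 : ((g ^ i : (ZMod p)ˣ) : ZMod p) = ((g ^ j : (ZMod p)ˣ) : ZMod p) := mul_right_cancel₀ h0 h
    exact pow_injOn_Iio_orderOf (by simpa using hi') (by simpa using hj) (Units.ext h1)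
  have hsub : (T.biUnion fun t => univ.filter fun i => ((ex i : ℕ) : ZMod p) = t) ⊆
      (univ.filter fun i => ((ex i : ℕ) : ZMod p) ≠ 0) := by
    intro i hi'
    rw [mem_biUnion] at hi'
    obtain ⟨t, ht, hit⟩ := hi'
    rw [mem_filter] at hit ⊢
    refine ⟨mem_univ _, ?_⟩
    rw [hit.2]
    obtain ⟨j, -, rfl⟩ := mem_image.1 ht
    exact mul_ne_zero (Units.ne_zero _) h0
  have hcard : (T.biUnion fun t => univ.filter fun i => ((ex i : ℕ) : ZMod p) = t).card = T.card * nm p ex t₀ := by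
    rw [card_biUnion]
    · rw [sum_const_nat (m := nm p ex t₀)]
      intro t ht
      obtain ⟨j, -, rfl⟩ := mem_image.1 ht
      exact hpw j
    · intro a _ b _ hab
      rw [Function.onFun, disjoint_left]
      intro i h1 h2
      rw [mem_filter] at h1 h2
      exact hab (h1.2.symm.trans h2.2)
  have h3 := card_le_card hsub
  rw [hcard, hT] at h3
  have h4 : p * orderOf g ≤ orderOf g * nm p ex t₀ := by
    rw [mul_comm p]
    exact Nat.mul_le_mul_left _ hle
  omega

/-- the unit of the class of `q`, or its negative if the order is odd -/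
theorem exists_unit (hp2 : p ≠ 2) {q : ℕ} (hq : ¬ p ∣ q) : ∃ g : (ZMod p)ˣ,
    ((g : ZMod p) = (q : ZMod p) ∨ (g : ZMod p) = -(q : ZMod p)) ∧
      orderOf g = if Even (orderOf ((q : ℕ) : ZMod p)) then orderOf ((q : ℕ) : ZMod p) else
        2 * orderOf ((q : ℕ) : ZMod p) := by
  have hq0 : ((q : ℕ) : ZMod p) ≠ 0 := fun h => hq ((ZMod.natCast_eq_zero_iff _ _).1 h)
  set u : (ZMod p)ˣ := Units.mk0 _ hq0 with hu
  have huv : (u : ZMod p) = (q : ZMod p) := rfl
  have ho : orderOf u = orderOf ((q : ℕ) : ZMod p) := by rw [← orderOf_units, huv]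
  split_ifs with h
  · exact ⟨u, Or.inl rfl, ho⟩
  · refine ⟨-u, Or.inr (by rw [Units.val_neg, huv]), ?_⟩
    have h1 : orderOf (-1 : (ZMod p)ˣ) = 2 := by
      rw [← orderOf_units, Units.val_neg, Units.val_one, orderOf_neg_one, ZMod.ringChar_zmod_n, if_neg hp2]
    have h2 : -u = (-1 : (ZMod p)ˣ) * u := by rw [neg_one_mul]
    rw [h2, Commute.orderOf_mul_eq_mul_orderOf_of_coprime (Commute.all _ _), h1, ho]
    rw [h1, ho]
    exact (Nat.coprime_two_left).2 (Nat.not_even_iff_odd.1 h)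

/-- powers of a primitive root -/
theorem pow_iff {k : Type*} [Field k] (hm : 1 ≤ m) {z : k} (hz : IsPrimitiveRoot z (p ^ m)) (a b : ℕ) :
    (z ^ a) ^ p ^ (m - 1) = (z ^ b) ^ p ^ (m - 1) ↔ ((a : ℕ) : ZMod p) = (b : ZMod p) := by
  obtain ⟨m, rfl⟩ := Nat.exists_eq_add_of_le' hm
  rw [Nat.add_sub_cancel]
  have hw : IsPrimitiveRoot (z ^ p ^ m) p := by
    refine hz.pow (pow_pos hp.out.pos _) ?_
    rw [pow_succ]
  rw [← pow_mul, ← pow_mul, mul_comm a, mul_comm b, pow_mul, pow_mul, ZMod.natCast_eq_natCast_iff]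
  constructor
  · intro h
    have h1 := congrArg id h
    by_cases hab : a ≤ b
    · obtain ⟨c, rfl⟩ := Nat.exists_eq_add_of_le hab
      have h2 : (z ^ p ^ m) ^ c = 1 := by
        rw [pow_add] at h
        exact (mul_eq_left₀ (pow_ne_zero _ (hw.ne_zero hp.out.ne_zero))).1 h.symm
      have h3 : p ∣ c := (hw.pow_eq_one_iff_dvd c).1 h2
      exact (Nat.modEq_iff_dvd' (Nat.le_add_right _ _)).2 (by rwa [Nat.add_sub_cancel_left])
    · obtain ⟨c, rfl⟩ := Nat.exists_eq_add_of_le (not_le.1 hab).le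
      have h2 : (z ^ p ^ m) ^ c = 1 := by
        rw [pow_add] at h
        exact (mul_eq_left₀ (pow_ne_zero _ (hw.ne_zero hp.out.ne_zero))).1 h
      have h3 : p ∣ c := (hw.pow_eq_one_iff_dvd c).1 h2
      exact ((Nat.modEq_iff_dvd' (Nat.le_add_right _ _)).2 (by rwa [Nat.add_sub_cancel_left])).symm
  · intro h
    have h2 : a % p = b % p := h
    rw [pow_eq_pow_mod a hw.pow_eq_one, pow_eq_pow_mod b hw.pow_eq_one, h2]

/-- **stability of the numbers** under multiplication by `q`, if the characteristic polynomial is fixed by a field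
endomorphism with `z ↦ z ^ q` -/
theorem nm_stable {k : Type*} [Field k] (hm : 1 ≤ m) {z : k} (hz : IsPrimitiveRoot z (p ^ m)) {ex : ι → ℕ} {q : ℕ}
    (hq : ¬ p ∣ q) {φ : k →+* k} (hφ : φ z = z ^ q)
    (h : (∏ i, (Polynomial.X - Polynomial.C (z ^ ex i))).map φ = ∏ i, (Polynomial.X - Polynomial.C (z ^ ex i)))
    (t : ZMod p) : nm p ex ((q : ZMod p) * t) = nm p ex t := by
  classical
  have hq0 : ((q : ℕ) : ZMod p) ≠ 0 := fun h => hq ((ZMod.natCast_eq_zero_iff _ _).1 h)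
  have : NeZero p := ⟨hp.out.ne_zero⟩
  have key : ∀ f : ι → k, (∏ i, (Polynomial.X - Polynomial.C (f i))).roots = Finset.univ.val.map f := by
    intro f
    have := Polynomial.roots_multiset_prod_X_sub_C (Finset.univ.val.map f)
    rw [Multiset.map_map] at this
    exact this
  have h1 : (∏ i, (Polynomial.X - Polynomial.C (z ^ ex i))).map φ =
      ∏ i, (Polynomial.X - Polynomial.C (z ^ (q * ex i))) := by
    rw [Polynomial.map_prod]
    refine Finset.prod_congr rfl fun i _ => ?_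
    rw [Polynomial.map_sub, Polynomial.map_X, Polynomial.map_C, map_pow, hφ, ← pow_mul]
  rw [h1] at h
  have h2 := congrArg Polynomial.roots h
  rw [key, key] at h2
  obtain ⟨c, hc⟩ : ∃ c : ℕ, ((c : ℕ) : ZMod p) = (q : ZMod p) * t := ⟨((q : ZMod p) * t).val, ZMod.natCast_zmod_val _⟩
  have h3 := congrArg (Multiset.countP fun x : k => x ^ p ^ (m - 1) = (z ^ c) ^ p ^ (m - 1)) h2
  rw [Multiset.countP_map, Multiset.countP_map] at h3
  have e1 : ∀ g : ι → ℕ, (Multiset.filter (fun i => (z ^ g i) ^ p ^ (m - 1) = (z ^ c) ^ p ^ (m - 1))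
      (Finset.univ : Finset ι).val).card = (univ.filter fun i => ((g i : ℕ) : ZMod p) = (q : ZMod p) * t).card := by
    intro g
    rw [Finset.card_def, Finset.filter_val]
    congr 1
    refine Multiset.filter_congr fun i _ => ?_
    rw [pow_iff hm hz, hc]
  rw [e1, e1] at h3
  show (univ.filter fun i => ((ex i : ℕ) : ZMod p) = (q : ZMod p) * t).card = _
  rw [← h3]
  unfold nm
  congr 1
  ext i
  simp only [mem_filter, mem_univ, true_and]
  rw [Nat.cast_mul]
  exact mul_right_inj' hq0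

/-- stability under `-1` -/
theorem nm_neg {ex : ι → ℕ} (σ : Equiv.Perm ι) (h : ∀ i, p ∣ ex i + ex (σ i)) (t : ZMod p) :
    nm p ex (-t) = nm p ex t := by
  classical
  unfold nm
  refine card_bij (fun i _ => σ i) ?_ (fun i _ j _ e => σ.injective e) ?_
  · intro i hi
    rw [mem_filter] at hi ⊢
    refine ⟨mem_univ _, ?_⟩
    have h1 := (ZMod.natCast_eq_zero_iff _ _).2 (h i)
    rw [Nat.cast_add, hi.2] at h1
    exact (neg_add_eq_zero.1 h1).symm
  · intro i hi
    rw [mem_filter] at hi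
    refine ⟨σ.symm i, mem_filter.2 ⟨mem_univ _, ?_⟩, σ.apply_symm_apply i⟩
    have h1 := (ZMod.natCast_eq_zero_iff _ _).2 (h (σ.symm i))
    rw [Nat.cast_add, σ.apply_symm_apply, hi.2] at h1
    exact eq_neg_of_add_eq_zero_left h1

/-- **the generic bound**, `L` the order of `⟨q, -1⟩` modulo `p` -/
theorem cnt_of_stable (hm : 2 ≤ m) (hp2 : p ≠ 2) {q : ℕ} (hq : ¬ p ∣ q) (ex : ι → ℕ)
    (h1 : ∀ t : ZMod p, nm p ex ((q : ZMod p) * t) = nm p ex t) (h2 : ∀ t : ZMod p, nm p ex (-t) = nm p ex t) {i₀ : ι}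
    (hi : ¬ p ∣ ex i₀) (hb : (univ.filter fun i => ((ex i : ℕ) : ZMod p) ≠ 0).card <
      p * (if Even (orderOf ((q : ℕ) : ZMod p)) then orderOf ((q : ℕ) : ZMod p) else
        2 * orderOf ((q : ℕ) : ZMod p))) : Cnt p m ex := by
  obtain ⟨g, hg, ho⟩ := exists_unit hp2 hq
  refine cnt_of_unit hm ex g (fun t => ?_) hi (by rwa [ho])
  rcases hg with hg | hg
  · rw [hg, h1]
  · rw [hg, neg_mul, h2, h1]

end Cfsg.Agent.H73.HT
end

-- part: H395/HT/TorY
section
/-!
# Elements of twisted tori with prescribed root values (S4933, part (O), helper395)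

`exists_tor` : `w` in the Weyl group, `c` an integral linear form on the root lattice with
`c (w x) ≡ |F| c x` modulo `N`, `N` prime to `d` (`InvC D l d B`): there is `y` in `D.group F` conjugate over the algebraic
closure to the torus element with the value `ζ ^ c(x)` at `x`.
-/

set_option autoImplicit false
set_option linter.unusedSectionVars false

namespace Cfsg.Agent.H395.HT

open CoxeterSystem Subgroup Cfsg Cfsg.Lie Cfsg.Lie.ChevalleyDatum
open Cfsg.Agent.ChevalleyStructure Cfsg.Agent.ChevalleyStructure.Elts Cfsg.Agent.ChevalleyStructure.CoxeterGeom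
  Cfsg.Agent.ChevalleyStructure.CoxeterGeomTypes Cfsg.Agent.ChevalleyStructure.NPerm
open Cfsg.Agent.Tits.Roots Cfsg.Agent.Tits.Core Cfsg.Agent.Nodes Cfsg.Agent.Nodes.Reps Cfsg.Agent.Nodes.BNOf
  Cfsg.Agent.Nodes.RGDChev Cfsg.Agent.Nodes.Bruhat
open Cfsg.Agent.KFacts.RgdField Cfsg.Agent.KFacts.RgdChevCoord Cfsg.Agent.BpExc.TorCent Cfsg.Agent.BpExc.TorChev
open Cfsg.Agent.BpExc.Tow Cfsg.Agent.BpExc.TowChev Cfsg.Agent.BpExc.Fr
  Cfsg.Agent.BpExc.LangFr Cfsg.Agent.LangThm Cfsg.Agent.BpExc Cfsg.Agent.H129.TorusMain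
open Cfsg.Agent.BpExc.FamExt Cfsg.Agent.BpExc.FamUntw
  Cfsg.Agent.BpExc.FamInst Cfsg.Agent.BpExc.FamField
open Cfsg.Agent.H129.TorusChar (cX_vec cX cX_pow cX_one cX_inj isMC_cX cX_root cX_rp cX_mul ch_sigma exists_cX IsMC)
open Cfsg.Agent.GpExc.Field (glMap emb coe_emb glMap_xG emb_injective coe_glMap)
open Cfsg.Agent.H378.TorFin

universe u v

variable {D : ChevalleyDatum} {l : ℕ} {M : CoxeterMatrix (Fin l)} (hp : IsType D l M) {W : Type*} [Group W]
  (cs : CoxeterSystem M W) {k : Type u} [Field k] [IsAlgClosed k] (hk : LocFin k) (r : ℕ) [Fact r.Prime] [CharP k r]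
  {F : Type u} [Field F] [Finite F] (f : F →+* k) {n : ℕ} (hn0 : 0 < n) (hn : Nat.card F = r ^ n)

/-- a linear form on the root lattice -/
def lf (c : Fin l → ℤ) (x : Fin l → ℤ) : ℤ := ∑ i, x i * c i

theorem lf_zero (c : Fin l → ℤ) : lf c 0 = 0 := by simp [lf]

theorem lf_add (c : Fin l → ℤ) (a b : Fin l → ℤ) : lf c (a + b) = lf c a + lf c b := by
  rw [lf, lf, lf, ← Finset.sum_add_distrib]
  exact Finset.sum_congr rfl fun i _ => by rw [Pi.add_apply]; ring

theorem lf_sr (c : Fin l → ℤ) (i : Fin l) : lf c (sr i) = c i := by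
  rw [lf, Finset.sum_eq_single i]
  · rw [sr_self, one_mul]
  · intro j _ hj
    rw [sr_ne hj, zero_mul]
  · intro h
    exact absurd (Finset.mem_univ i) h

include cs hk in
/-- the torus element is fixed by the twisted Frobenius map -/
theorem twist_fix {N : ℕ} {ζ : k} (hζ : IsPrimitiveRoot ζ N) (hN0 : N ≠ 0) {c : Fin l → ℤ} {t : ↥(D.group k)}
    (ht : t ∈ TT D k) (hc : ∀ x, cX hp t x = ζ ^ lf c x) {w : W}
    (hw : ∀ i, (N : ℤ) ∣ lf c (rep cs hp.isCartan w (sr i)) - (r ^ n : ℕ) * lf c (sr i))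
    {hN : NSys M (TT D k) (nc hp k)} {m : ↥(D.group k)} (hm : Rp cs hN w m) : m * phi D k r n t * m⁻¹ = t := by
  have hζ0 : ζ ≠ 0 := hζ.ne_zero hN0
  have hσf := phi_isFrob (D := D) (k := k) r n
  have hσF := phi_fr hp cs r hk n
  have hzN : ∀ a : ℤ, ζ ^ ((N : ℤ) * a) = 1 := fun a => by
    rw [zpow_mul, zpow_natCast, hζ.pow_eq_one, one_zpow]
  have hσt : phi D k r n t ∈ TT D k := (hσF.tor t).2 ht
  have hmt : m * phi D k r n t * m⁻¹ ∈ TT D k :=
    (Subgroup.mem_normalizer_iff.1 hm.mem_normalizer _).1 hσt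
  have hcσ : ∀ a, cX hp (phi D k r n t) a = cX hp t a ^ r ^ n := by
    have hmc : IsMC fun a => cX hp t a ^ r ^ n := by
      refine ⟨by rw [(isMC_cX hp ht).zero, one_pow], fun a b => ?_⟩
      rw [(isMC_cX hp ht).add, mul_pow]
    refine fun a => (isMC_cX hp hσt).ext hmc (fun i => ?_) a
    have h1 := ch_sigma hp cs hσf hσF (isRoot_sr cs hp.isCartan i) ht
    show cX hp (phi D k r n t) (sr i) = cX hp t (sr i) ^ r ^ n
    rw [cX_root hp cs hσt (isRoot_sr _ hp.isCartan i), cX_root hp cs ht (isRoot_sr _ hp.isCartan i)]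
    exact h1
  have h1 : IsMC fun a => cX hp t (repAut cs hp.isCartan w a) :=
    (isMC_cX hp ht).comp (repAut cs hp.isCartan w).toAddMonoidHom
  have h2 : ∀ a, cX hp (m * phi D k r n t * m⁻¹) (rep cs hp.isCartan w a) = cX hp t a ^ r ^ n := fun a => by
    rw [cX_rp hp cs hk r hm hσt a, hcσ]
  have h3 : ∀ a, cX hp t (rep cs hp.isCartan w a) = cX hp t a ^ r ^ n := by
    have hmc : IsMC fun a => cX hp t a ^ r ^ n := by
      refine ⟨by rw [(isMC_cX hp ht).zero, one_pow], fun a b => ?_⟩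
      rw [(isMC_cX hp ht).add, mul_pow]
    refine fun a => h1.ext hmc (fun i => ?_) a
    show cX hp t (rep cs hp.isCartan w (sr i)) = cX hp t (sr i) ^ r ^ n
    obtain ⟨b, hb⟩ := hw i
    rw [hc, hc, ← zpow_natCast, ← zpow_mul]
    have h4 : lf c (rep cs hp.isCartan w (sr i)) = lf c (sr i) * ((r ^ n : ℕ) : ℤ) + (N : ℤ) * b := by linarith
    rw [h4, zpow_add₀ hζ0, hzN, mul_one]
  refine cX_inj hp hmt ht fun i => ?_
  have h4 := h2 (rep cs hp.isCartan w⁻¹ (sr i))
  have h5 := h3 (rep cs hp.isCartan w⁻¹ (sr i))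
  rw [rep_apply_inv] at h4 h5
  rw [h4, h5]

include cs hk hn0 hn in
/-- **Elements of a twisted torus.** -/
theorem exists_tor {d : ℕ} {B : Fin l → Fin l → ℤ} (hB : InvC D l d B) (hd : d ≠ 0) {N : ℕ} (hN0 : N ≠ 0)
    (hNd : N.Coprime d) {ζ : k} (hζ : IsPrimitiveRoot ζ N) (c : Fin l → ℤ) (w : W)
    (hw : ∀ i, (N : ℤ) ∣ lf c (rep cs hp.isCartan w (sr i)) - (Nat.card F : ℤ) * lf c (sr i)) :
    ∃ (y : ↥(D.group F)) (z t : ↥(D.group k)), emb hp.inList f y = z * t * z⁻¹ ∧ t ∈ TT D k ∧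
      (∀ x, cX hp t x = ζ ^ lf c x) ∧ y ^ N = 1 := by
  have hζ0 : ζ ≠ 0 := hζ.ne_zero hN0
  have hMC : IsMC fun x => ζ ^ lf c x := by
    refine ⟨by rw [lf_zero, zpow_zero], fun a b => ?_⟩
    rw [lf_add, zpow_add₀ hζ0]
  obtain ⟨t, ht, hct⟩ := exists_cX hp hB hd hMC (fun i => IsAlgClosed.exists_pow_nat_eq _ (Nat.pos_of_ne_zero hd))
  obtain ⟨m, hm⟩ := exists_rp cs (H378.TorChar.nsysL hp cs hk r) w
  obtain ⟨z, hz⟩ := lang' hp r hn0 m
  have hfix : m * phi D k r n t * m⁻¹ = t := twist_fix hp cs hk r hζ hN0 ht hct (by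
    intro i
    have := hw i
    rwa [hn] at this) hm
  have hσz : phi D k r n z = z * m := by rw [← hz]; group
  have hfz : phi D k r n (z * t * z⁻¹) = z * t * z⁻¹ := by
    rw [map_mul, map_mul, map_inv, hσz]
    calc z * m * phi D k r n t * (z * m)⁻¹ = z * (m * phi D k r n t * m⁻¹) * z⁻¹ := by group
      _ = _ := by rw [hfix]
  have htN : t ^ N = 1 := by
    refine cX_inj hp (pow_mem ht N) (one_mem _) fun i => ?_
    rw [cX_pow hp ht, cX_one, hct, ← zpow_natCast, ← zpow_mul, mul_comm, zpow_mul, zpow_natCast, hζ.pow_eq_one,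
      one_zpow]
  have hyN : (z * t * z⁻¹) ^ N = 1 := by rw [conj_pow, htN, mul_one, mul_inv_cancel]
  obtain ⟨y0, hy0⟩ := fix_pow_mem hp f r hn hB hd hfz
  -- `d * u = 1` modulo `N`
  obtain ⟨u, hu⟩ : ∃ u : ℕ, ((z * t * z⁻¹) ^ d) ^ u = z * t * z⁻¹ :=
    exists_pow_eq_self_of_coprime (Nat.Coprime.symm (Nat.Coprime.coprime_dvd_left (orderOf_dvd_of_pow_eq_one hyN) hNd))
  refine ⟨y0 ^ u, z, t, ?_, ht, hct, ?_⟩
  · rw [map_pow, hy0, hu]
  · apply emb_injective hp.inList f
    rw [map_pow, map_pow, hy0, hu, hyN, map_one]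

include hp in
/-- a torus element as a diagonal matrix -/
theorem TT_diag {K : Type u} [Field K] {t : ↥(D.group K)} (ht : t ∈ TT D K) :
    (((t : ↥(D.group K)) : GL D.Idx K) : Matrix D.Idx D.Idx K) =
      Matrix.diagonal (Sum.elim (fun _ => (1 : K)) (fun s : Fin D.nroots => cX hp t (vec D l s))) := by
  classical
  let S : Subgroup ↥(D.group K) :=
    { carrier := {t | t ∈ TT D K ∧ (((t : ↥(D.group K)) : GL D.Idx K) : Matrix D.Idx D.Idx K) =
        Matrix.diagonal (Sum.elim (fun _ => (1 : K)) (fun s : Fin D.nroots => cX hp t (vec D l s)))}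
      one_mem' := by
        refine ⟨one_mem _, ?_⟩
        rw [Subgroup.coe_one, Units.val_one, ← Matrix.diagonal_one]
        congr 1
        funext i
        rcases i with i | i
        · simp
        · simp [cX_one]
      mul_mem' := by
        rintro a b ⟨ha, hc⟩ ⟨hb, hd⟩
        refine ⟨mul_mem ha hb, ?_⟩
        rw [Subgroup.coe_mul, Units.val_mul, hc, hd, Matrix.diagonal_mul_diagonal]
        congr 1
        funext i
        rcases i with i | i
        · simp
        · simp only [Sum.elim_inr]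
          rw [cX_mul hp ha hb]
      inv_mem' := by
        rintro a ⟨ha, hc⟩
        refine ⟨inv_mem ha, ?_⟩
        have h1 : (((a : ↥(D.group K)) : GL D.Idx K) : Matrix D.Idx D.Idx K) *
            Matrix.diagonal (Sum.elim (fun _ => (1 : K)) (fun s : Fin D.nroots => cX hp a⁻¹ (vec D l s))) = 1 := by
          rw [hc, Matrix.diagonal_mul_diagonal, ← Matrix.diagonal_one]
          congr 1
          funext i
          rcases i with i | i
          · simp
          · simp only [Sum.elim_inr]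
            rw [← cX_mul hp ha (inv_mem ha), mul_inv_cancel, cX_one]
        rw [Subgroup.coe_inv, Matrix.coe_units_inv]
        exact Matrix.inv_eq_right_inv h1 }
  have h1 : TT D K ≤ S := by
    refine (TT_le hp).trans ?_
    rw [Subgroup.closure_le]
    rintro g ⟨j, a, ha, rfl⟩
    refine ⟨hc_mem hp j ha, ?_⟩
    have h2 : (((hc hp j a : ↥(D.group K)) : GL D.Idx K) : Matrix D.Idx D.Idx K) = D.hMat K (D.simple j) a := by
      show ((hG hp.inList (D.simple j) a : GL D.Idx K) : Matrix D.Idx D.Idx K) = _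
      exact coe_hG hp.inList _ _
    rw [h2, Cfsg.Agent.S1033.result (F := K) D hp.inList j (lt_rank hp j) a ha]
    congr 1
    funext s
    rcases s with s | s
    · simp
    · simp only [Sum.elim_inr]
      rw [cX_vec hp (hc_mem hp j ha) s.2, ch_hc hp j ha s.2]
  exact (h1 ht).2


include cs hk hn0 hn in
/-- **The characteristic polynomial** of the powers of the element of `exists_tor` on the adjoint module. -/
theorem exists_tor_charpoly {d : ℕ} {B : Fin l → Fin l → ℤ} (hB : InvC D l d B) (hd : d ≠ 0) {N : ℕ} (hN0 : N ≠ 0)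
    (hNd : N.Coprime d) {ζ : k} (hζ : IsPrimitiveRoot ζ N) (c : Fin l → ℤ) (w : W)
    (hw : ∀ i, (N : ℤ) ∣ lf c (rep cs hp.isCartan w (sr i)) - (Nat.card F : ℤ) * lf c (sr i)) :
    ∃ y : ↥(D.group F), y ^ N = 1 ∧ (∃ z t : ↥(D.group k), emb hp.inList f y = z * t * z⁻¹ ∧ t ∈ TT D k ∧
        ∀ x, cX hp t x = ζ ^ lf c x) ∧ ∀ j : ℕ,
      ((((y ^ j : ↥(D.group F)) : GL D.Idx F) : Matrix D.Idx D.Idx F).charpoly).map f =
        (Polynomial.X - Polynomial.C 1) ^ D.rank *
          ∏ s : Fin D.nroots, (Polynomial.X - Polynomial.C ((ζ ^ lf c (vec D l s)) ^ j)) := by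
  classical
  obtain ⟨y, z, t, hy, ht, hc, hyN⟩ := exists_tor hp cs hk r f hn0 hn hB hd hN0 hNd hζ c w hw
  refine ⟨y, hyN, ⟨z, t, hy, ht, hc⟩, fun j => ?_⟩
  have h1 : emb hp.inList f (y ^ j) = z * t ^ j * z⁻¹ := by rw [map_pow, hy, conj_pow]
  have h2 : (((y ^ j : ↥(D.group F)) : GL D.Idx F) : Matrix D.Idx D.Idx F).map f =
      (((z * t ^ j * z⁻¹ : ↥(D.group k)) : GL D.Idx k) : Matrix D.Idx D.Idx k) := by
    rw [← h1]
    rfl
  have h3 : ((((y ^ j : ↥(D.group F)) : GL D.Idx F) : Matrix D.Idx D.Idx F).charpoly).map f =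
      ((((y ^ j : ↥(D.group F)) : GL D.Idx F) : Matrix D.Idx D.Idx F).map f).charpoly :=
    (Matrix.charpoly_map _ f).symm
  rw [h3, h2]
  have h4 : (((z * t ^ j * z⁻¹ : ↥(D.group k)) : GL D.Idx k) : Matrix D.Idx D.Idx k) =
      ((z : GL D.Idx k) : Matrix D.Idx D.Idx k) * (((t ^ j : ↥(D.group k)) : GL D.Idx k) : Matrix D.Idx D.Idx k) *
        (((z : GL D.Idx k)⁻¹ : GL D.Idx k) : Matrix D.Idx D.Idx k) := by
    rw [Subgroup.coe_mul, Subgroup.coe_mul, Subgroup.coe_inv, Units.val_mul, Units.val_mul]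
  have h5 : (((z : GL D.Idx k) : Matrix D.Idx D.Idx k) *
      (((t ^ j : ↥(D.group k)) : GL D.Idx k) : Matrix D.Idx D.Idx k) *
        (((z : GL D.Idx k)⁻¹ : GL D.Idx k) : Matrix D.Idx D.Idx k)).charpoly =
      (((t ^ j : ↥(D.group k)) : GL D.Idx k) : Matrix D.Idx D.Idx k).charpoly := by
    have h6 := Matrix.charpoly_units_conj (z : GL D.Idx k) (((t ^ j : ↥(D.group k)) : GL D.Idx k) : Matrix D.Idx D.Idx k)
    rw [← Matrix.coe_units_inv] at h6
    exact h6
  rw [h4, h5, TT_diag hp (pow_mem ht j), Matrix.charpoly_diagonal, Fintype.prod_sum_type]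
  congr 1
  · simp
  · refine Finset.prod_congr rfl fun s _ => ?_
    rw [Sum.elim_inr, cX_pow hp ht, hc]

end Cfsg.Agent.H395.HT
end

private theorem dce_319ebeb52151 : _root_.True := by
  try have : _root_.True := by simp only [_root_.Cfsg.Agent.H129.TorusChar.cX.congr_simp]
  try have : _root_.True := by simp only [_root_.Cfsg.Agent.H395.HT.lf.eq_1]
  try have : _root_.True := by simp only [_root_.Cfsg.Agent.H234.HT.eE.eq_1]
  exact _root_.True.intro
end

-- part: H395/HT/Cells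
section
prune_inst 0x8000300000000000000000000000004010000
set_option linter.all false
open scoped Cfsg.Agent.FastGrp

/-!
# S4933, part (O): the cells (family, e, p) by kernel checks

Root values in `ℤ[ζ_e]`, written in the basis `1, x, x², x³`; `q` modulo `p²` runs through the roots of `Φ_e`.
-/

set_option autoImplicit false
set_option linter.unusedSectionVars false

namespace Cfsg.Agent.H395.HT

open CoxeterSystem Subgroup Cfsg Cfsg.Lie Cfsg.Lie.ChevalleyDatum
open Cfsg.Agent.ChevalleyStructure Cfsg.Agent.ChevalleyStructure.Elts Cfsg.Agent.ChevalleyStructure.CoxeterGeom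
  Cfsg.Agent.ChevalleyStructure.CoxeterGeomTypes Cfsg.Agent.ChevalleyStructure.NPerm
open Cfsg.Agent.Tits.Roots Cfsg.Agent.Tits.Core Cfsg.Agent.Nodes Cfsg.Agent.Nodes.Reps Cfsg.Agent.Nodes.BNOf
  Cfsg.Agent.Nodes.RGDChev Cfsg.Agent.Nodes.Bruhat
open Cfsg.Agent.BpExc.TorCent Cfsg.Agent.BpExc.TorChev Cfsg.Agent.BpExc.Tow Cfsg.Agent.BpExc.TowChev Cfsg.Agent.BpExc.Fr
open Cfsg.Agent.BpExc.LangFr Cfsg.Agent.LangThm Cfsg.Agent.BpExc Cfsg.Agent.BpExc.FamExt Cfsg.Agent.BpExc.FamUntw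
  Cfsg.Agent.BpExc.FamInst Cfsg.Agent.BpExc.FamField
open Cfsg.Agent.GpExc.Field (glMap emb coe_emb glMap_xG emb_injective coe_glMap)
open Cfsg.Agent.H234.HT

/-! ### coordinates -/

abbrev V4 : Type := ℤ × ℤ × ℤ × ℤ

/-- evaluation -/
def ev (q : ℤ) (a : V4) : ℤ := a.1 + q * (a.2.1 + q * (a.2.2.1 + q * a.2.2.2))

theorem ev_zero (q : ℤ) : ev q 0 = 0 := by simp [ev]

theorem ev_add (q : ℤ) (a b : V4) : ev q (a + b) = ev q a + ev q b := by
  simp only [ev, Prod.fst_add, Prod.snd_add]; ring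

theorem ev_smul (q : ℤ) (n : ℤ) (a : V4) : ev q (n • a) = n * ev q a := by
  simp only [ev, Prod.smul_fst, Prod.smul_snd, smul_eq_mul]; ring

theorem ev_sum {ι : Type*} (q : ℤ) (s : Finset ι) (f : ι → V4) : ev q (∑ i ∈ s, f i) = ∑ i ∈ s, ev q (f i) := by
  classical
  induction s using Finset.induction_on with
  | empty => simp [ev_zero]
  | insert a s ha ih => rw [Finset.sum_insert ha, Finset.sum_insert ha, ev_add, ih]

/-- the value of the form at a vector of the root lattice -/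
def lv {l : ℕ} (c : Fin l → V4) (x : Fin l → ℤ) : V4 := ∑ i, x i • c i

theorem ev_lv {l : ℕ} (q : ℤ) (c : Fin l → V4) (x : Fin l → ℤ) : ev q (lv c x) = lf (fun i => ev q (c i)) x := by
  rw [lv, ev_sum, lf]
  exact Finset.sum_congr rfl fun i _ => ev_smul q _ _

/-- the action of a simple reflection on forms -/
def rf {l : ℕ} (A : Fin l → Fin l → ℤ) (i : Fin l) (c : Fin l → V4) : Fin l → V4 := fun j => c j - A i j • c i

/-- the action of a word -/
def rw' {l : ℕ} (A : Fin l → Fin l → ℤ) (L : List (Fin l)) (c : Fin l → V4) : Fin l → V4 :=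
  L.foldl (fun c i => rf A i c) c

section W

variable {l : ℕ} {M : CoxeterMatrix (Fin l)} {W : Type*} [Group W] (cs : CoxeterSystem M W) {A : Fin l → Fin l → ℤ}
  (h : IsCartan M A)

theorem lv_sr (c : Fin l → V4) (i : Fin l) : lv c (sr i) = c i := by
  rw [lv, Finset.sum_eq_single i]
  · rw [sr_self, one_smul]
  · intro j _ hj
    rw [sr_ne hj, zero_smul]
  · intro h
    exact absurd (Finset.mem_univ i) h

theorem lv_sub (c : Fin l → V4) (x y : Fin l → ℤ) : lv c (x - y) = lv c x - lv c y := by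
  rw [lv, lv, lv, ← Finset.sum_sub_distrib]
  exact Finset.sum_congr rfl fun i _ => by rw [Pi.sub_apply, sub_smul]

theorem lv_smul (c : Fin l → V4) (n : ℤ) (x : Fin l → ℤ) : lv c (n • x) = n • lv c x := by
  rw [lv, lv, Finset.smul_sum]
  exact Finset.sum_congr rfl fun i _ => by rw [Pi.smul_apply, smul_eq_mul, mul_smul]

theorem lv_rep_simple (c : Fin l → V4) (i : Fin l) (x : Fin l → ℤ) :
    lv c (rep cs h (cs.simple i) x) = lv (rf A i c) x := by
  rw [rep_simple_eq, lv_sub, lv_smul, lv_sr]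
  unfold lv rf pairing
  simp only [smul_sub, Finset.sum_sub_distrib, Finset.sum_smul]
  congr 1
  refine Finset.sum_congr rfl fun j _ => ?_
  rw [← mul_smul]
  congr 1
  ring

/-- the element of a word -/
theorem lv_rep_word (L : List (Fin l)) (c : Fin l → V4) (x : Fin l → ℤ) :
    lv c (rep cs h (L.map cs.simple).prod x) = lv (rw' A L c) x := by
  induction L generalizing c with
  | nil => simp [rw']
  | cons i L ih =>
    rw [List.map_cons, List.prod_cons, rep_mul_apply, lv_rep_simple, ih]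
    rfl

end W

/-- multiplication by `x` modulo `P` (monic of degree `n ≤ 4`) with quotient `κ` -/
def okEig {l : ℕ} (A : Fin l → Fin l → ℤ) (L : List (Fin l)) (c : Fin l → V4) (P : V4 × ℤ) (κ : Fin l → ℤ) : Prop :=
  ∀ i, let a := rw' A L c i; let b := c i
    a.1 = κ i * P.1.1 ∧ a.2.1 - b.1 = κ i * P.1.2.1 ∧ a.2.2.1 - b.2.1 = κ i * P.1.2.2.1 ∧
      a.2.2.2 - b.2.2.1 = κ i * P.1.2.2.2 ∧ - b.2.2.2 = κ i * P.2

/-- the value of the polynomial -/
def evP (q : ℤ) (P : V4 × ℤ) : ℤ := ev q P.1 + q ^ 4 * P.2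

theorem ev_of_okEig {l : ℕ} {A : Fin l → Fin l → ℤ} {L : List (Fin l)} {c : Fin l → V4} {P : V4 × ℤ} {κ : Fin l → ℤ}
    (h : okEig A L c P κ) (q : ℤ) (i : Fin l) : ev q (rw' A L c i) - q * ev q (c i) = κ i * evP q P := by
  obtain ⟨h0, h1, h2, h3, h4⟩ := h i
  unfold evP ev
  linear_combination h0 + q * h1 + q ^ 2 * h2 + q ^ 3 * h3 + q ^ 4 * h4

/-! ### the counts -/

/-- the table of the root values -/
def tab (D : ChevalleyDatum) (l : ℕ) (c : Fin l → V4) : List V4 :=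
  (List.finRange D.nroots).map fun s : Fin D.nroots => lv c (vec D l (s : ℕ))

/-- the value modulo `p ^ 2` -/
def val (p q0 : ℕ) (a : V4) : ℕ := (ev (q0 : ℤ) a % ((p ^ 2 : ℕ) : ℤ)).toNat

def chkA (p : ℕ) (T : List V4) (q0 r : ℕ) : Bool :=
  decide (r % p ≠ 0) &&
    (decide ((T.map fun a => if val p q0 a % p = r % p then 1 else 0).sum % p ≠ 0) ||
      (decide (5 ≤ p) && decide ((T.map fun a => if val p q0 a % p = r % p then val p q0 a / p else 0).sum % p ≠ 0)))

def chkB (p : ℕ) (T : List V4) (q0 : ℕ) (a0 : V4) : Bool :=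
  decide (val p q0 a0 % p ≠ 0) && decide ((T.map fun a => if a = a0 then 1 else 0).sum % p ≠ 0) &&
    T.all fun a => decide (a = a0) || decide (val p q0 a ≠ val p q0 a0)

def chkAll (p : ℕ) (P : V4 × ℤ) (T : List V4) (cells : List (ℕ × ℕ × V4)) : Bool :=
  ((List.range (p ^ 2)).all fun q0 => decide (evP q0 P % ((p ^ 2 : ℕ) : ℤ) ≠ 0) || cells.any fun x => decide (x.1 = q0)) &&
    cells.all fun x => chkA p T x.1 x.2.1 && chkB p T x.1 x.2.2

theorem chkAll_spec {p : ℕ} {P : V4 × ℤ} {T : List V4} {cells : List (ℕ × ℕ × V4)} (h : chkAll p P T cells = true)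
    {q0 : ℕ} (hq : q0 < p ^ 2) (h0 : evP q0 P % ((p ^ 2 : ℕ) : ℤ) = 0) :
    ∃ (r : ℕ) (a0 : V4), chkA p T q0 r = true ∧ chkB p T q0 a0 = true := by
  unfold chkAll at h
  rw [Bool.and_eq_true, List.all_eq_true, List.all_eq_true] at h
  obtain ⟨h1, h2⟩ := h
  have h3 := h1 q0 (List.mem_range.2 hq)
  rw [Bool.or_eq_true, decide_eq_true_iff, List.any_eq_true] at h3
  rcases h3 with h3 | ⟨x, hx, h3⟩
  · exact absurd h0 h3
  · have h4 := h2 x hx
    rw [decide_eq_true_iff] at h3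
    rw [Bool.and_eq_true, h3] at h4
    exact ⟨_, _, h4.1, h4.2⟩

/-- evaluation modulo `n` -/
theorem ev_modEq {q q' n : ℤ} (h : q ≡ q' [ZMOD n]) (a : V4) : ev q a ≡ ev q' a [ZMOD n] := by
  unfold ev
  exact (Int.ModEq.refl _).add (h.mul ((Int.ModEq.refl _).add (h.mul ((Int.ModEq.refl _).add (h.mul (Int.ModEq.refl _))))))

theorem evP_modEq {q q' n : ℤ} (h : q ≡ q' [ZMOD n]) (P : V4 × ℤ) : evP q P ≡ evP q' P [ZMOD n] := by
  unfold evP
  exact (ev_modEq h _).add ((h.pow 4).mul (Int.ModEq.refl _))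

/-- the exponents -/
def exq (D : ChevalleyDatum) (l : ℕ) (c : Fin l → V4) (q N : ℕ) : D.Idx → ℕ :=
  Sum.elim (fun _ => 0) (fun s : Fin D.nroots => (ev (q : ℤ) (lv c (vec D l s)) % (N : ℤ)).toNat)

theorem card_idx {D : ChevalleyDatum} (ex : D.Idx → ℕ) (Q : ℕ → Prop) [DecidablePred Q]
    (h0 : ∀ i, ¬ Q (ex (Sum.inl i))) : (Finset.univ.filter fun i => Q (ex i)).card =
      ((List.finRange D.nroots).map fun s => if Q (ex (Sum.inr s)) then 1 else 0).sum := by
  rw [Finset.card_filter, Fintype.sum_sum_type, Finset.sum_eq_zero fun i _ => by rw [if_neg (h0 i)], zero_add,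
    Fin.sum_univ_def]

theorem sum_idx {D : ChevalleyDatum} (ex : D.Idx → ℕ) (Q : ℕ → Prop) [DecidablePred Q] (g : ℕ → ℕ)
    (h0 : ∀ i, ¬ Q (ex (Sum.inl i))) : ∑ i ∈ Finset.univ.filter (fun i => Q (ex i)), g (ex i) =
      ((List.finRange D.nroots).map fun s => if Q (ex (Sum.inr s)) then g (ex (Sum.inr s)) else 0).sum := by
  rw [Finset.sum_filter, Fintype.sum_sum_type, Finset.sum_eq_zero fun i _ => by rw [if_neg (h0 i)], zero_add,
    Fin.sum_univ_def]

theorem toNat_emod_emod {a : ℤ} {N p : ℕ} (hN : 0 < N) (hd : p ∣ N) :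
    (((a % (N : ℤ)).toNat % p : ℕ) : ℤ) = a % (p : ℤ) := by
  rw [Int.natCast_mod, Int.toNat_of_nonneg (Int.emod_nonneg _ (by omega)),
    Int.emod_emod_of_dvd _ (Int.natCast_dvd_natCast.2 hd)]

/-- **The count.** -/
theorem cnt_of {D : ChevalleyDatum} {l : ℕ} {c : Fin l → V4} {T : List V4} (hT : tab D l c = T) {p q m q0 r : ℕ}
    (hp : p.Prime) (hm : 2 ≤ m) (hq0 : q % p ^ 2 = q0) {a0 : V4} (hA : chkA p T q0 r = true)
    (hB : chkB p T q0 a0 = true) : Cnt p m (exq D l c q (p ^ m)) := by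
  have hp0 : 0 < p := hp.pos
  have hmod : (q : ℤ) ≡ (q0 : ℤ) [ZMOD ((p ^ 2 : ℕ) : ℤ)] := by
    rw [← hq0, Int.natCast_mod]
    exact (Int.mod_modEq _ _).symm
  have hev : ∀ a : V4, ev (q : ℤ) a % ((p ^ 2 : ℕ) : ℤ) = ev (q0 : ℤ) a % ((p ^ 2 : ℕ) : ℤ) := fun a => ev_modEq hmod a
  have hval : ∀ a : V4, ((val p q0 a : ℕ) : ℤ) = ev (q : ℤ) a % ((p ^ 2 : ℕ) : ℤ) := fun a => by
    unfold val
    rw [Int.toNat_of_nonneg (Int.emod_nonneg _ (by positivity)), hev]
  unfold chkA at hA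
  unfold chkB at hB
  simp only [Bool.and_eq_true, Bool.or_eq_true, decide_eq_true_eq, List.all_eq_true] at hA hB
  obtain ⟨hA1, hA2⟩ := hA
  obtain ⟨⟨hB1, hB2⟩, hB3⟩ := hB
  rcases Nat.eq_or_lt_of_le hm with rfl | hm3
  · -- `m = 2`
    have hex : ∀ s : Fin D.nroots, exq D l c q (p ^ 2) (Sum.inr s) = val p q0 (lv c (vec D l s)) := fun s => by
      show (ev (q : ℤ) (lv c (vec D l s)) % ((p ^ 2 : ℕ) : ℤ)).toNat = _
      rw [hev]
      rfl
    refine ⟨r, fun h => hA1 (Nat.mod_eq_zero_of_dvd h), ?_⟩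
    have h21 : p ^ (2 - 1) = p := by norm_num
    rw [h21]
    have h0 : ∀ i : Fin D.rank, ¬ exq D l c q (p ^ 2) (Sum.inl i) % p = r % p := fun i hi => by
      have h1 : exq D l c q (p ^ 2) (Sum.inl i) = 0 := rfl
      rw [h1, Nat.zero_mod] at hi
      exact hA1 hi.symm
    rcases hA2 with hA2 | ⟨h5, hA2⟩
    · left
      intro h
      apply hA2
      rw [card_idx (exq D l c q (p ^ 2)) (fun x => x % p = r % p) h0] at h
      rw [← hT]
      unfold tab
      rw [List.map_map]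
      simp only [hex] at h
      exact Nat.mod_eq_zero_of_dvd h
    · right
      refine ⟨h5, fun h => ?_⟩
      apply hA2
      rw [sum_idx (exq D l c q (p ^ 2)) (fun x => x % p = r % p) (fun x => x / p) h0] at h
      rw [← hT]
      unfold tab
      rw [List.map_map]
      simp only [hex] at h
      exact Nat.mod_eq_zero_of_dvd h
  · -- `m ≥ 3`
    obtain ⟨r', hr'⟩ : ∃ r' : ℕ, r' = (ev (q : ℤ) a0 % ((p ^ m : ℕ) : ℤ)).toNat := ⟨_, rfl⟩
    have hpm : 0 < p ^ m := by positivity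
    have hpd : p ∣ p ^ m := dvd_pow_self p (by omega)
    have hrp : r' % p ≠ 0 := by
      intro h
      apply hB1
      have h1 := toNat_emod_emod (a := ev (q : ℤ) a0) hpm hpd
      rw [← hr', h] at h1
      have h2 : ((val p q0 a0 % p : ℕ) : ℤ) = 0 := by
        rw [Int.natCast_mod, hval, Int.emod_emod_of_dvd _ (Int.natCast_dvd_natCast.2 (dvd_pow_self p two_ne_zero)), ← h1]
        rfl
      exact_mod_cast h2
    refine ⟨r', fun h => hrp (Nat.mod_eq_zero_of_dvd h), Or.inl ?_⟩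
    have hpp : p ∣ p ^ (m - 1) := dvd_pow_self p (by omega)
    have hpm1 : p ^ (m - 1) ∣ p ^ m := pow_dvd_pow p (by omega)
    have hp2 : p ^ 2 ∣ p ^ (m - 1) := pow_dvd_pow p (by omega)
    have h0 : ∀ i : Fin D.rank, ¬ exq D l c q (p ^ m) (Sum.inl i) % p ^ (m - 1) = r' % p ^ (m - 1) := fun i hi => by
      have h1 : exq D l c q (p ^ m) (Sum.inl i) = 0 := rfl
      rw [h1, Nat.zero_mod] at hi
      apply hrp
      rw [← Nat.mod_mod_of_dvd r' hpp, ← hi, Nat.zero_mod]
    rw [card_idx (exq D l c q (p ^ m)) (fun x => x % p ^ (m - 1) = r' % p ^ (m - 1)) h0]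
    intro h
    apply hB2
    rw [← hT]
    unfold tab
    rw [List.map_map]
    have hiff : ∀ s : Fin D.nroots, (exq D l c q (p ^ m) (Sum.inr s) % p ^ (m - 1) = r' % p ^ (m - 1)) ↔
        lv c (vec D l s) = a0 := by
      intro s
      have e1 : ((exq D l c q (p ^ m) (Sum.inr s) % p ^ (m - 1) : ℕ) : ℤ) =
          ev (q : ℤ) (lv c (vec D l s)) % ((p ^ (m - 1) : ℕ) : ℤ) := toNat_emod_emod hpm hpm1
      have e2 : ((r' % p ^ (m - 1) : ℕ) : ℤ) = ev (q : ℤ) a0 % ((p ^ (m - 1) : ℕ) : ℤ) := by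
        rw [hr']
        exact toNat_emod_emod hpm hpm1
      constructor
      · intro h1
        by_contra h2
        have h3 := hB3 (lv c (vec D l s)) (by
          rw [← hT]
          exact List.mem_map.2 ⟨s, List.mem_finRange s, rfl⟩)
        rcases h3 with h3 | h3
        · exact h2 h3
        · apply h3
          have h4 : ((val p q0 (lv c (vec D l s)) : ℕ) : ℤ) = ((val p q0 a0 : ℕ) : ℤ) := by
            rw [hval, hval]
            rw [← Int.emod_emod_of_dvd (ev (q : ℤ) (lv c (vec D l s))) (Int.natCast_dvd_natCast.2 hp2),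
              ← Int.emod_emod_of_dvd (ev (q : ℤ) a0) (Int.natCast_dvd_natCast.2 hp2), ← e1, ← e2, h1]
          exact_mod_cast h4
      · intro h1
        have h2 : ((exq D l c q (p ^ m) (Sum.inr s) % p ^ (m - 1) : ℕ) : ℤ) = ((r' % p ^ (m - 1) : ℕ) : ℤ) := by
          rw [e1, e2, h1]
        exact_mod_cast h2
    simp only [hiff] at h
    exact Nat.mod_eq_zero_of_dvd h

/-! ### divisibility by `Φ_e(q)` -/

theorem not_dvd_pow_sub {p q e d : ℕ} (he : orderOf ((q : ℕ) : ZMod p) = e) (hd : ¬ e ∣ d) :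
    ¬ (p : ℤ) ∣ (q : ℤ) ^ d - 1 := by
  intro h
  apply hd
  rw [← he, orderOf_dvd_iff_pow_eq_one]
  have h1 := (ZMod.intCast_zmod_eq_zero_iff_dvd ((q : ℤ) ^ d - 1) p).2 h
  push_cast at h1
  exact sub_eq_zero.1 h1

theorem dvd_of_mul {p m : ℕ} (hp : p.Prime) {R Φ : ℤ} (h : ((p ^ m : ℕ) : ℤ) ∣ R * Φ) (hR : ¬ (p : ℤ) ∣ R) :
    ((p ^ m : ℕ) : ℤ) ∣ Φ := by
  have hc : IsCoprime ((p ^ m : ℕ) : ℤ) R := by
    push_cast
    exact IsCoprime.pow_left ((Nat.prime_iff_prime_int.1 hp).coprime_iff_not_dvd.2 hR)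
  exact hc.dvd_of_dvd_mul_left h

/-- the cyclotomic polynomials -/
def Ph : ℕ → V4 × ℤ
  | 3 => ((1, 1, 1, 0), 0)
  | 4 => ((1, 0, 1, 0), 0)
  | 5 => ((1, 1, 1, 1), 1)
  | 6 => ((1, -1, 1, 0), 0)
  | 8 => ((1, 0, 0, 0), 1)
  | 10 => ((1, -1, 1, -1), 1)
  | 12 => ((1, 0, -1, 0), 1)
  | _ => ((0, 0, 0, 0), 0)

theorem dvd_Ph {p q m e : ℕ} (hp : p.Prime) (he : orderOf ((q : ℕ) : ZMod p) = e)
    (hL : e ∈ [3, 4, 5, 6, 8, 10, 12]) (hd : ((p ^ m : ℕ) : ℤ) ∣ (q : ℤ) ^ e - 1) :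
    ((p ^ m : ℕ) : ℤ) ∣ evP q (Ph e) := by
  have hpZ := Nat.prime_iff_prime_int.1 hp
  simp only [List.mem_cons, List.not_mem_nil, or_false] at hL
  rcases hL with rfl | rfl | rfl | rfl | rfl | rfl | rfl
  · refine dvd_of_mul hp (R := (q : ℤ) ^ 1 - 1) ?_ (not_dvd_pow_sub he (by decide))
    convert hd using 1
    simp only [evP, ev, Ph]; ring
  · refine dvd_of_mul hp (R := (q : ℤ) ^ 2 - 1) ?_ (not_dvd_pow_sub he (by decide))
    convert hd using 1
    simp only [evP, ev, Ph]; ring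
  · refine dvd_of_mul hp (R := (q : ℤ) ^ 1 - 1) ?_ (not_dvd_pow_sub he (by decide))
    convert hd using 1
    simp only [evP, ev, Ph]; ring
  · refine dvd_of_mul hp (R := ((q : ℤ) ^ 3 - 1) * ((q : ℤ) + 1)) ?_ ?_
    · convert hd using 1
      simp only [evP, ev, Ph]; ring
    · intro h
      rcases hpZ.dvd_or_dvd h with h | h
      · exact not_dvd_pow_sub he (by decide) h
      · refine not_dvd_pow_sub he (d := 2) (by decide) ?_
        have : (q : ℤ) ^ 2 - 1 = ((q : ℤ) + 1) * (q - 1) := by ring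
        rw [this]
        exact Dvd.dvd.mul_right h _
  · refine dvd_of_mul hp (R := (q : ℤ) ^ 4 - 1) ?_ (not_dvd_pow_sub he (by decide))
    convert hd using 1
    simp only [evP, ev, Ph]; ring
  · refine dvd_of_mul hp (R := ((q : ℤ) ^ 5 - 1) * ((q : ℤ) + 1)) ?_ ?_
    · convert hd using 1
      simp only [evP, ev, Ph]; ring
    · intro h
      rcases hpZ.dvd_or_dvd h with h | h
      · exact not_dvd_pow_sub he (by decide) h
      · refine not_dvd_pow_sub he (d := 2) (by decide) ?_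
        have : (q : ℤ) ^ 2 - 1 = ((q : ℤ) + 1) * (q - 1) := by ring
        rw [this]
        exact Dvd.dvd.mul_right h _
  · refine dvd_of_mul hp (R := ((q : ℤ) ^ 6 - 1) * ((q : ℤ) ^ 2 + 1)) ?_ ?_
    · convert hd using 1
      simp only [evP, ev, Ph]; ring
    · intro h
      rcases hpZ.dvd_or_dvd h with h | h
      · exact not_dvd_pow_sub he (by decide) h
      · refine not_dvd_pow_sub he (d := 4) (by decide) ?_
        have : (q : ℤ) ^ 4 - 1 = ((q : ℤ) ^ 2 + 1) * (q ^ 2 - 1) := by ring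
        rw [this]
        exact Dvd.dvd.mul_right h _

/-! ### the cell -/

/-- **A cell** `(D, e, p)`: the element of the twisted torus of the word `L` with root values `ev q (c ·)`. -/
theorem hasElt_cell {D : ChevalleyDatum} {l : ℕ} {M : CoxeterMatrix (Fin l)} (hp : IsType D l M) (F : Type) [Field F]
    [Fintype F] {p : ℕ} [hpp : Fact p.Prime] (hpF : ¬ p ∣ Fintype.card F) {d : ℕ} {B : Fin l → Fin l → ℤ}
    (hB : InvC D l d B) (hd : d ≠ 0) (hpd : ¬ p ∣ d) {e : ℕ} (he : orderOf ((Fintype.card F : ℕ) : ZMod p) = e)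
    (hL : e ∈ [3, 4, 5, 6, 8, 10, 12]) {c : Fin l → V4} {L : List (Fin l)} {κ : Fin l → ℤ}
    (hE : okEig (cartanOf D l) L c (Ph e) κ) {T : List V4} (hT : tab D l c = T) {cells : List (ℕ × ℕ × V4)}
    (hchk : chkAll p (Ph e) T cells = true) : HasElt p (D.group F) (Fintype.card F) := by
  classical
  intro m hm hdm _
  obtain ⟨r, hr⟩ := CharP.exists F
  have hrp : Fact r.Prime := ⟨CharP.char_is_prime F r⟩
  have hkc : CharP (AlgebraicClosure F) r := charP_of_injective_algebraMap (algebraMap F _).injective r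
  let _ : Algebra (ZMod r) F := ZMod.algebra F r
  have hFa : Algebra.IsAlgebraic (ZMod r) F := Algebra.IsAlgebraic.of_finite (ZMod r) F
  have hka : Algebra.IsAlgebraic (ZMod r) (AlgebraicClosure F) := Algebra.IsAlgebraic.trans (ZMod r) F _
  have hlf : LocFin (AlgebraicClosure F) := locFin_of_isAlgebraic r _
  obtain ⟨n, hn0, hn⟩ := exists_card (F := F) r
  have hq : Nat.card F = Fintype.card F := Nat.card_eq_fintype_card
  set q := Fintype.card F with hqdef
  rw [he] at hdm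
  have hq1 : 1 ≤ q := Fintype.card_pos
  have hdm' : ((p ^ m : ℕ) : ℤ) ∣ (q : ℤ) ^ e - 1 := by
    have h1 := Int.natCast_dvd_natCast.2 hdm
    rw [Nat.cast_sub (Nat.one_le_pow _ _ hq1)] at h1
    push_cast at h1 ⊢
    exact h1
  have hPh := dvd_Ph hpp.out he hL hdm'
  have hpr : ¬ r ∣ p ^ m := by
    intro h
    have h1 := (Nat.prime_dvd_prime_iff_eq hrp.out hpp.out).1 (hrp.out.dvd_of_dvd_pow h)
    apply hpF
    rw [← h1, ← hq, hn]
    exact dvd_pow_self r hn0.ne'
  have hNk : NeZero ((p ^ m : ℕ) : AlgebraicClosure F) := ⟨fun h => hpr ((CharP.cast_eq_zero_iff _ r _).1 h)⟩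
  obtain ⟨ζ, hζ⟩ : ∃ ζ : AlgebraicClosure F, IsPrimitiveRoot ζ (p ^ m) :=
    HasEnoughRootsOfUnity.exists_primitiveRoot _ _
  have hpm0 : p ^ m ≠ 0 := pow_ne_zero _ hpp.out.ne_zero
  have hNd : (p ^ m).Coprime d := Nat.Coprime.pow_left _ ((Nat.Prime.coprime_iff_not_dvd hpp.out).2 hpd)
  obtain ⟨y, hyN, -, hchar⟩ := exists_tor_charpoly hp M.toCoxeterSystem hlf r (algebraMap F (AlgebraicClosure F)) hn0 hn
    hB hd hpm0 hNd hζ (fun i => ev (q : ℤ) (c i)) (L.map M.toCoxeterSystem.simple).prod (by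
      intro i
      rw [← ev_lv, lv_rep_word, lv_sr, lf_sr, hq]
      have h1 := ev_of_okEig hE (q : ℤ) i
      rw [h1]
      exact Dvd.dvd.mul_left hPh _)
  refine ⟨y, y.2, AlgebraicClosure F, inferInstance, algebraMap F (AlgebraicClosure F), ζ, exq D l c q (p ^ m), hζ,
    ?_, ?_⟩
  · unfold Eig
    have h1 := hchar 1
    rw [pow_one] at h1
    rw [Matrix.charpoly_map, h1, Fintype.prod_sum_type]
    congr 1
    · show _ = ∏ _i : Fin D.rank, (Polynomial.X - Polynomial.C (ζ ^ 0))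
      rw [pow_zero, Finset.prod_const, Finset.card_univ, Fintype.card_fin]
    · refine Finset.prod_congr rfl fun s _ => ?_
      congr 2
      rw [pow_one, ← ev_lv]
      show _ = ζ ^ (ev (q : ℤ) (lv c (vec D l s)) % ((p ^ m : ℕ) : ℤ)).toNat
      have h2 : (((ev (q : ℤ) (lv c (vec D l s)) % ((p ^ m : ℕ) : ℤ)).toNat : ℕ) : ℤ) =
          ev (q : ℤ) (lv c (vec D l s)) % ((p ^ m : ℕ) : ℤ) :=
        Int.toNat_of_nonneg (Int.emod_nonneg _ (by exact_mod_cast hpm0))
      rw [← zpow_natCast ζ (Int.toNat _), h2]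
      have hζ0 : ζ ≠ 0 := hζ.ne_zero hpm0
      conv_lhs => rw [← Int.emod_add_mul_ediv (ev (q : ℤ) (lv c (vec D l s))) ((p ^ m : ℕ) : ℤ)]
      rw [zpow_add₀ hζ0, zpow_mul, zpow_natCast ζ (p ^ m), hζ.pow_eq_one, one_zpow, mul_one]
  · have hlt : q % p ^ 2 < p ^ 2 := Nat.mod_lt _ (by have := hpp.out.pos; positivity)
    obtain ⟨r0, a0, hA, hB'⟩ := chkAll_spec hchk hlt (by
      have h1 : ((p ^ 2 : ℕ) : ℤ) ∣ evP q (Ph e) :=
        (Int.natCast_dvd_natCast.2 (pow_dvd_pow p hm)).trans hPh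
      have h2 : (((q % p ^ 2 : ℕ) : ℕ) : ℤ) ≡ (q : ℤ) [ZMOD ((p ^ 2 : ℕ) : ℤ)] := by
        rw [Int.natCast_mod]
        exact Int.mod_modEq _ _
      have h3 := evP_modEq h2 (Ph e)
      rw [Int.ModEq, Int.emod_eq_zero_of_dvd h1] at h3
      exact h3)
    exact cnt_of hT hpp.out hm rfl hA hB'

end Cfsg.Agent.H395.HT

private theorem dce_4e3c0aa74982 : _root_.True := by
  try have : _root_.True := by simp only [_root_.Cfsg.Agent.H395.HT.evP.eq_1]
  try have : _root_.True := by simp only [_root_.Cfsg.Agent.H395.HT.Ph.eq_4]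
  try have : _root_.True := by simp only [_root_.Cfsg.Agent.H395.HT.Ph.eq_8]
  try have : _root_.True := by simp only [_root_.Cfsg.Agent.H395.HT.Ph.eq_1]
  try have : _root_.True := by simp only [_root_.Cfsg.Agent.H395.HT.Ph.eq_2]
  try have : _root_.True := by simp only [_root_.Cfsg.Agent.H395.HT.ev.eq_1]
  try have : _root_.True := by simp only [_root_.Cfsg.Agent.H395.HT.Ph.eq_3]
  try have : _root_.True := by simp only [_root_.Cfsg.Agent.H395.HT.Ph.eq_6]
  try have : _root_.True := by simp only [_root_.Cfsg.Agent.H395.HT.rw'.eq_1]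
  try have : _root_.True := by simp only [_root_.Cfsg.Agent.H395.HT.Ph.eq_5]
  try have : _root_.True := by simp only [_root_.Cfsg.Agent.H395.HT.lv.eq_1]
  try have : _root_.True := by simp only [_root_.Cfsg.Agent.H395.HT.Ph.eq_7]
  exact _root_.True.intro
end

-- part: H395/HT/RowsF4
section
set_option linter.all false

/-!
# S4933, part (O): the cells of F4 (kernel checks)
-/

set_option autoImplicit false
set_option maxRecDepth 100000

namespace Cfsg.Agent.H395.HT.F4

open Cfsg Cfsg.Lie Cfsg.Agent.ChevalleyStructure Cfsg.Agent.ChevalleyStructure.CoxeterGeomTypes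
open Cfsg.Agent.BpExc.FamInst Cfsg.Agent.BpExc.RowsUntw Cfsg.Agent.H234.HT Cfsg.Agent.H395.HT

/-- the form for `e = 3` -/
def c3 : Fin 4 → V4 := ![(-1, -2, 0, 0), (2, 1, 0, 0), (-2, 0, 0, 0), (0, 0, 0, 0)]

/-- the table of the root values -/
def T3 : List V4 := [
  (0, 0, 0, 0), (0, 0, 0, 0), (-2, 0, 0, 0), (0, 1, 0, 0), (2, 2, 0, 0), (0, 2, 0, 0), (0, 2, 0, 0),
  (-1, -1, 0, 0), (1, 0, 0, 0), (-1, 0, 0, 0), (-1, 0, 0, 0), (1, 1, 0, 0), (1, 1, 0, 0), (-1, 1, 0, 0),
  (1, 2, 0, 0), (0, -2, 0, 0), (-2, -2, 0, 0), (-2, -2, 0, 0), (0, -1, 0, 0), (0, -1, 0, 0), (-2, -1, 0, 0),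
  (2, 0, 0, 0), (2, 0, 0, 0), (0, 0, 0, 0), (0, 0, 0, 0), (-2, 0, 0, 0), (-2, 0, 0, 0), (2, 1, 0, 0), (0, 1, 0, 0),
  (0, 1, 0, 0), (2, 2, 0, 0), (2, 2, 0, 0), (0, 2, 0, 0), (-1, -2, 0, 0), (1, -1, 0, 0), (-1, -1, 0, 0),
  (-1, -1, 0, 0), (1, 0, 0, 0), (1, 0, 0, 0), (-1, 0, 0, 0), (1, 1, 0, 0), (0, -2, 0, 0), (0, -2, 0, 0),
  (-2, -2, 0, 0), (0, -1, 0, 0), (2, 0, 0, 0), (0, 0, 0, 0), (0, 0, 0, 0)]

theorem tab3 : tab chevF4 4 c3 = T3 := by decide +kernel

theorem eig3 : okEig (cartanOf chevF4 4) [0, 1] c3 (Ph 3) ![2, -1, 0, 0] := by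
  unfold okEig
  decide +kernel

theorem chk3_7 : chkAll 7 (Ph 3) T3 [(18, 5, (-2, 0, 0, 0)), (30, 5, (-2, 0, 0, 0))] = true := by
  decide +kernel

/-- `F4`, `e = 3`, `p = 7` -/
theorem hasElt3_7 (F : Type) [Field F] [Fintype F] (hF : ¬ 7 ∣ Fintype.card F)
    (he : orderOf ((Fintype.card F : ℕ) : ZMod 7) = 3) : HasElt 7 (chevF4.group F) (Fintype.card F) := by
  have : Fact (Nat.Prime 7) := ⟨by norm_num⟩
  exact hasElt_cell f4T F hF inv_F4 (by norm_num) (by norm_num) he (by simp) eig3 tab3 chk3_7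

/-- the form for `e = 6` -/
def c6 : Fin 4 → V4 := ![(-1, 1, 0, 0), (0, -1, 0, 0), (1, 0, 0, 0), (0, 1, 0, 0)]

/-- the table of the root values -/
def T6 : List V4 := [
  (-1, 0, 0, 0), (-1, 1, 0, 0), (0, 1, 0, 0), (0, 0, 0, 0), (0, -1, 0, 0), (1, -1, 0, 0), (1, 0, 0, 0),
  (-1, 1, 0, 0), (-1, 0, 0, 0), (0, 0, 0, 0), (0, 1, 0, 0), (0, -1, 0, 0), (0, 0, 0, 0), (1, 0, 0, 0),
  (1, -1, 0, 0), (-2, 1, 0, 0), (-1, 1, 0, 0), (-1, 2, 0, 0), (-1, 0, 0, 0), (-1, 1, 0, 0), (0, 1, 0, 0),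
  (-1, -1, 0, 0), (-1, 0, 0, 0), (0, -1, 0, 0), (0, 1, 0, 0), (1, 0, 0, 0), (1, 1, 0, 0), (0, -1, 0, 0),
  (1, -1, 0, 0), (1, 0, 0, 0), (1, -2, 0, 0), (1, -1, 0, 0), (2, -1, 0, 0), (-1, 1, 0, 0), (-1, 0, 0, 0),
  (0, 0, 0, 0), (0, 1, 0, 0), (0, -1, 0, 0), (0, 0, 0, 0), (1, 0, 0, 0), (1, -1, 0, 0), (-1, 0, 0, 0),
  (-1, 1, 0, 0), (0, 1, 0, 0), (0, 0, 0, 0), (0, -1, 0, 0), (1, -1, 0, 0), (1, 0, 0, 0)]

theorem tab6 : tab chevF4 4 c6 = T6 := by decide +kernel

theorem eig6 : okEig (cartanOf chevF4 4) [1, 2, 3] c6 (Ph 6) ![-1, 1, 0, -1] := by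
  unfold okEig
  decide +kernel

theorem chk6_7 : chkAll 7 (Ph 6) T6 [(19, 6, (-1, 0, 0, 0)), (31, 6, (-1, 0, 0, 0))] = true := by
  decide +kernel

/-- `F4`, `e = 6`, `p = 7` -/
theorem hasElt6_7 (F : Type) [Field F] [Fintype F] (hF : ¬ 7 ∣ Fintype.card F)
    (he : orderOf ((Fintype.card F : ℕ) : ZMod 7) = 6) : HasElt 7 (chevF4.group F) (Fintype.card F) := by
  have : Fact (Nat.Prime 7) := ⟨by norm_num⟩
  exact hasElt_cell f4T F hF inv_F4 (by norm_num) (by norm_num) he (by simp) eig6 tab6 chk6_7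

/-- the form for `e = 4` -/
def c4 : Fin 4 → V4 := ![(-1, 0, 0, 0), (1, -1, 0, 0), (0, 2, 0, 0), (-1, -1, 0, 0)]

/-- the table of the root values -/
def T4 : List V4 := [
  (0, 0, 0, 0), (-1, -1, 0, 0), (-1, 1, 0, 0), (0, 0, 0, 0), (1, -1, 0, 0), (1, 1, 0, 0), (0, 0, 0, 0),
  (-1, 0, 0, 0), (0, -1, 0, 0), (0, 1, 0, 0), (-1, 0, 0, 0), (1, 0, 0, 0), (0, -1, 0, 0), (0, 1, 0, 0),
  (1, 0, 0, 0), (-1, -1, 0, 0), (-1, 1, 0, 0), (-2, 0, 0, 0), (0, 0, 0, 0), (-1, -1, 0, 0), (-1, 1, 0, 0),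
  (1, -1, 0, 0), (0, -2, 0, 0), (1, 1, 0, 0), (-1, -1, 0, 0), (0, 2, 0, 0), (-1, 1, 0, 0), (1, -1, 0, 0),
  (1, 1, 0, 0), (0, 0, 0, 0), (2, 0, 0, 0), (1, -1, 0, 0), (1, 1, 0, 0), (-1, 0, 0, 0), (0, -1, 0, 0),
  (0, 1, 0, 0), (-1, 0, 0, 0), (1, 0, 0, 0), (0, -1, 0, 0), (0, 1, 0, 0), (1, 0, 0, 0), (0, 0, 0, 0),
  (-1, -1, 0, 0), (-1, 1, 0, 0), (0, 0, 0, 0), (1, -1, 0, 0), (1, 1, 0, 0), (0, 0, 0, 0)]

theorem tab4 : tab chevF4 4 c4 = T4 := by decide +kernel

theorem eig4 : okEig (cartanOf chevF4 4) [1, 2] c4 (Ph 4) ![0, 1, -2, 1] := by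
  unfold okEig
  decide +kernel

theorem chk4_5 : chkAll 5 (Ph 4) T4 [(7, 2, (-1, 0, 0, 0)), (18, 1, (-1, 0, 0, 0))] = true := by
  decide +kernel

/-- `F4`, `e = 4`, `p = 5` -/
theorem hasElt4_5 (F : Type) [Field F] [Fintype F] (hF : ¬ 5 ∣ Fintype.card F)
    (he : orderOf ((Fintype.card F : ℕ) : ZMod 5) = 4) : HasElt 5 (chevF4.group F) (Fintype.card F) := by
  have : Fact (Nat.Prime 5) := ⟨by norm_num⟩
  exact hasElt_cell f4T F hF inv_F4 (by norm_num) (by norm_num) he (by simp) eig4 tab4 chk4_5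

end Cfsg.Agent.H395.HT.F4
end

-- part: H395/HT/RowsE6
section
prune_inst 0x8000300000000000000000000000004010000
set_option linter.all false

/-!
# S4933, part (O): the cells of E6 (kernel checks)
-/

set_option autoImplicit false
set_option maxRecDepth 100000

namespace Cfsg.Agent.H395.HT.E6

open Cfsg Cfsg.Lie Cfsg.Agent.ChevalleyStructure Cfsg.Agent.ChevalleyStructure.CoxeterGeomTypes
open Cfsg.Agent.BpExc.FamInst Cfsg.Agent.BpExc.RowsUntw Cfsg.Agent.H234.HT Cfsg.Agent.H395.HT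

/-- the form for `e = 3` -/
def c3 : Fin 6 → V4 := ![(-1, -2, 0, 0), (0, 0, 0, 0), (2, 1, 0, 0), (-1, 0, 0, 0), (0, 0, 0, 0), (0, 0, 0, 0)]

/-- the table of the root values -/
def T3 : List V4 := [
  (0, 0, 0, 0), (0, 0, 0, 0), (-1, 0, 0, 0), (-1, 0, 0, 0), (-1, 0, 0, 0), (1, 1, 0, 0), (1, 1, 0, 0),
  (1, 1, 0, 0), (0, 1, 0, 0), (0, 1, 0, 0), (0, 1, 0, 0), (0, 1, 0, 0), (0, 1, 0, 0), (0, 1, 0, 0), (-1, 1, 0, 0),
  (1, 2, 0, 0), (0, -1, 0, 0), (0, -1, 0, 0), (0, -1, 0, 0), (-1, -1, 0, 0), (-1, -1, 0, 0), (-1, -1, 0, 0),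
  (1, 0, 0, 0), (1, 0, 0, 0), (1, 0, 0, 0), (0, 0, 0, 0), (-1, -1, 0, 0), (-1, -1, 0, 0), (-1, -1, 0, 0),
  (-2, -1, 0, 0), (1, 0, 0, 0), (1, 0, 0, 0), (1, 0, 0, 0), (0, 0, 0, 0), (0, 0, 0, 0), (0, 0, 0, 0), (0, 0, 0, 0),
  (0, 0, 0, 0), (0, 0, 0, 0), (-1, 0, 0, 0), (-1, 0, 0, 0), (-1, 0, 0, 0), (2, 1, 0, 0), (1, 1, 0, 0),
  (1, 1, 0, 0), (1, 1, 0, 0), (0, 0, 0, 0), (-1, 0, 0, 0), (-1, 0, 0, 0), (-1, 0, 0, 0), (1, 1, 0, 0),
  (1, 1, 0, 0), (1, 1, 0, 0), (0, 1, 0, 0), (0, 1, 0, 0), (0, 1, 0, 0), (-1, -2, 0, 0), (1, -1, 0, 0),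
  (0, -1, 0, 0), (0, -1, 0, 0), (0, -1, 0, 0), (0, -1, 0, 0), (0, -1, 0, 0), (0, -1, 0, 0), (-1, -1, 0, 0),
  (-1, -1, 0, 0), (-1, -1, 0, 0), (1, 0, 0, 0), (1, 0, 0, 0), (1, 0, 0, 0), (0, 0, 0, 0), (0, 0, 0, 0)]

theorem tab3 : tab chevE6 6 c3 = T3 := by decide +kernel

theorem eig3 : okEig (cartanOf chevE6 6) [0, 2] c3 (Ph 3) ![2, 0, -1, 0, 0, 0] := by
  unfold okEig
  decide +kernel

theorem chk3_7 : chkAll 7 (Ph 3) T3 [(18, 6, (-1, 0, 0, 0)), (30, 6, (-1, 0, 0, 0))] = true := by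
  decide +kernel

/-- `E6`, `e = 3`, `p = 7` -/
theorem hasElt3_7 (F : Type) [Field F] [Fintype F] (hF : ¬ 7 ∣ Fintype.card F)
    (he : orderOf ((Fintype.card F : ℕ) : ZMod 7) = 3) : HasElt 7 (chevE6.group F) (Fintype.card F) := by
  have : Fact (Nat.Prime 7) := ⟨by norm_num⟩
  exact hasElt_cell e6T F hF inv_E6 (by norm_num) (by norm_num) he (by simp) eig3 tab3 chk3_7

/-- the form for `e = 6` -/
def c6 : Fin 6 → V4 := ![(-1, 1, 0, 0), (0, -1, 0, 0), (0, -1, 0, 0), (1, 0, 0, 0), (0, 1, 0, 0), (-1, 0, 0, 0)]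

/-- the table of the root values -/
def T6 : List V4 := [
  (-1, 1, 0, 0), (-1, 0, 0, 0), (0, 0, 0, 0), (0, 1, 0, 0), (-1, 1, 0, 0), (0, -1, 0, 0), (0, 0, 0, 0),
  (-1, 0, 0, 0), (1, 0, 0, 0), (0, 0, 0, 0), (0, 1, 0, 0), (1, -1, 0, 0), (0, -1, 0, 0), (0, 0, 0, 0),
  (1, 0, 0, 0), (1, -1, 0, 0), (-1, 0, 0, 0), (-1, 1, 0, 0), (-2, 1, 0, 0), (0, 1, 0, 0), (-1, 1, 0, 0),
  (-1, 2, 0, 0), (0, 0, 0, 0), (-1, 0, 0, 0), (-1, 1, 0, 0), (0, 1, 0, 0), (0, 0, 0, 0), (-1, 0, 0, 0),
  (-1, 1, 0, 0), (0, 1, 0, 0), (0, -1, 0, 0), (-1, -1, 0, 0), (-1, 0, 0, 0), (1, -1, 0, 0), (0, -1, 0, 0),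
  (1, 0, 0, 0), (-1, 0, 0, 0), (0, 1, 0, 0), (-1, 1, 0, 0), (1, 0, 0, 0), (1, 1, 0, 0), (0, 1, 0, 0),
  (0, -1, 0, 0), (1, -1, 0, 0), (1, 0, 0, 0), (0, 0, 0, 0), (0, -1, 0, 0), (1, -1, 0, 0), (1, 0, 0, 0),
  (0, 0, 0, 0), (1, -2, 0, 0), (1, -1, 0, 0), (0, -1, 0, 0), (2, -1, 0, 0), (1, -1, 0, 0), (1, 0, 0, 0),
  (-1, 1, 0, 0), (-1, 0, 0, 0), (0, 0, 0, 0), (0, 1, 0, 0), (-1, 1, 0, 0), (0, -1, 0, 0), (0, 0, 0, 0),
  (-1, 0, 0, 0), (1, 0, 0, 0), (0, 0, 0, 0), (0, 1, 0, 0), (1, -1, 0, 0), (0, -1, 0, 0), (0, 0, 0, 0),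
  (1, 0, 0, 0), (1, -1, 0, 0)]

theorem tab6 : tab chevE6 6 c6 = T6 := by decide +kernel

theorem eig6 : okEig (cartanOf chevE6 6) [1, 2, 3, 4] c6 (Ph 6) ![-1, 1, 1, 0, -1, 0] := by
  unfold okEig
  decide +kernel

theorem chk6_7 : chkAll 7 (Ph 6) T6 [(19, 4, (-1, 1, 0, 0)), (31, 2, (-1, 1, 0, 0))] = true := by
  decide +kernel

/-- `E6`, `e = 6`, `p = 7` -/
theorem hasElt6_7 (F : Type) [Field F] [Fintype F] (hF : ¬ 7 ∣ Fintype.card F)
    (he : orderOf ((Fintype.card F : ℕ) : ZMod 7) = 6) : HasElt 7 (chevE6.group F) (Fintype.card F) := by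
  have : Fact (Nat.Prime 7) := ⟨by norm_num⟩
  exact hasElt_cell e6T F hF inv_E6 (by norm_num) (by norm_num) he (by simp) eig6 tab6 chk6_7

/-- the form for `e = 4` -/
def c4 : Fin 6 → V4 := ![(-1, -1, 0, 0), (-1, 0, 0, 0), (1, -1, 0, 0), (1, 1, 0, 0), (-1, 0, 0, 0), (0, 0, 0, 0)]

/-- the table of the root values -/
def T4 : List V4 := [
  (0, 0, 0, 0), (-1, 0, 0, 0), (0, 1, 0, 0), (-1, 1, 0, 0), (-1, 1, 0, 0), (1, 0, 0, 0), (0, 0, 0, 0),
  (0, 0, 0, 0), (1, 1, 0, 0), (1, 1, 0, 0), (0, 1, 0, 0), (0, 1, 0, 0), (0, 1, 0, 0), (-1, 1, 0, 0), (0, 2, 0, 0),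
  (1, 1, 0, 0), (0, -1, 0, 0), (-1, -1, 0, 0), (-1, -1, 0, 0), (0, 0, 0, 0), (0, 0, 0, 0), (-1, 0, 0, 0),
  (1, -1, 0, 0), (1, -1, 0, 0), (0, -1, 0, 0), (1, 0, 0, 0), (-1, 0, 0, 0), (-1, 0, 0, 0), (-2, 0, 0, 0),
  (-1, 1, 0, 0), (0, -1, 0, 0), (0, -1, 0, 0), (-1, -1, 0, 0), (1, 0, 0, 0), (1, 0, 0, 0), (0, 0, 0, 0),
  (0, 0, 0, 0), (-1, 0, 0, 0), (-1, 0, 0, 0), (1, 1, 0, 0), (0, 1, 0, 0), (0, 1, 0, 0), (1, -1, 0, 0),
  (2, 0, 0, 0), (1, 0, 0, 0), (1, 0, 0, 0), (-1, 0, 0, 0), (0, 1, 0, 0), (-1, 1, 0, 0), (-1, 1, 0, 0),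
  (1, 0, 0, 0), (0, 0, 0, 0), (0, 0, 0, 0), (1, 1, 0, 0), (1, 1, 0, 0), (0, 1, 0, 0), (-1, -1, 0, 0),
  (0, -2, 0, 0), (1, -1, 0, 0), (0, -1, 0, 0), (0, -1, 0, 0), (0, -1, 0, 0), (-1, -1, 0, 0), (-1, -1, 0, 0),
  (0, 0, 0, 0), (0, 0, 0, 0), (-1, 0, 0, 0), (1, -1, 0, 0), (1, -1, 0, 0), (0, -1, 0, 0), (1, 0, 0, 0), (0, 0, 0, 0)]

theorem tab4 : tab chevE6 6 c4 = T4 := by decide +kernel

theorem eig4 : okEig (cartanOf chevE6 6) [0, 2, 3] c4 (Ph 4) ![1, 0, 1, -1, 0, 0] := by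
  unfold okEig
  decide +kernel

theorem chk4_5 : chkAll 5 (Ph 4) T4 [(7, 4, (-1, 0, 0, 0)), (18, 4, (-1, 0, 0, 0))] = true := by
  decide +kernel

/-- `E6`, `e = 4`, `p = 5` -/
theorem hasElt4_5 (F : Type) [Field F] [Fintype F] (hF : ¬ 5 ∣ Fintype.card F)
    (he : orderOf ((Fintype.card F : ℕ) : ZMod 5) = 4) : HasElt 5 (chevE6.group F) (Fintype.card F) := by
  have : Fact (Nat.Prime 5) := ⟨by norm_num⟩
  exact hasElt_cell e6T F hF inv_E6 (by norm_num) (by norm_num) he (by simp) eig4 tab4 chk4_5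

theorem chk4_13 : chkAll 13 (Ph 4) T4 [(70, 12, (-1, 0, 0, 0)), (99, 12, (-1, 0, 0, 0))] = true := by
  decide +kernel

/-- `E6`, `e = 4`, `p = 13` -/
theorem hasElt4_13 (F : Type) [Field F] [Fintype F] (hF : ¬ 13 ∣ Fintype.card F)
    (he : orderOf ((Fintype.card F : ℕ) : ZMod 13) = 4) : HasElt 13 (chevE6.group F) (Fintype.card F) := by
  have : Fact (Nat.Prime 13) := ⟨by norm_num⟩
  exact hasElt_cell e6T F hF inv_E6 (by norm_num) (by norm_num) he (by simp) eig4 tab4 chk4_13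

theorem chk4_17 : chkAll 17 (Ph 4) T4 [(38, 16, (-1, 0, 0, 0)), (251, 16, (-1, 0, 0, 0))] = true := by
  decide +kernel

/-- `E6`, `e = 4`, `p = 17` -/
theorem hasElt4_17 (F : Type) [Field F] [Fintype F] (hF : ¬ 17 ∣ Fintype.card F)
    (he : orderOf ((Fintype.card F : ℕ) : ZMod 17) = 4) : HasElt 17 (chevE6.group F) (Fintype.card F) := by
  have : Fact (Nat.Prime 17) := ⟨by norm_num⟩
  exact hasElt_cell e6T F hF inv_E6 (by norm_num) (by norm_num) he (by simp) eig4 tab4 chk4_17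

end Cfsg.Agent.H395.HT.E6
end

-- part: H395/HT/RowsE7
section
prune_inst 0x2f570774577e20208081ca096f3207ef7f70005b2006b8401fde60f4e0f8fdf63e9e7ef60fff03f37dbecbef5787fc468131001f9427800002e24be00411f01a084af5e66f7bdbf9dfe009fc0928f790c00008000300000000000000000041004004010000
set_option linter.all false

/-!
# S4933, part (O): the cells of E7 (kernel checks)
-/

set_option autoImplicit false
set_option maxRecDepth 100000

namespace Cfsg.Agent.H395.HT.E7

open Cfsg Cfsg.Lie Cfsg.Agent.ChevalleyStructure Cfsg.Agent.ChevalleyStructure.CoxeterGeomTypes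
open Cfsg.Agent.BpExc.FamInst Cfsg.Agent.BpExc.RowsUntw Cfsg.Agent.H234.HT Cfsg.Agent.H395.HT

/-- the form for `e = 3` -/
def c3 : Fin 7 → V4 := ![(-1, -2, 0, 0), (0, 0, 0, 0), (2, 1, 0, 0), (-1, 0, 0, 0), (0, 0, 0, 0), (0, 0, 0, 0), (0, 0, 0, 0)]

/-- the table of the root values -/
def T3 : List V4 := [
  ((0, 1, 0, 0) : V4), ((-1, -1, 0, 0) : V4), ((1, 0, 0, 0) : V4), ((0, 0, 0, 0) : V4), ((0, 0, 0, 0) : V4), ((0, 0, 0, 0) : V4), ((0, 0, 0, 0) : V4), ((0, 0, 0, 0) : V4),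
  ((0, 0, 0, 0) : V4), ((0, 0, 0, 0) : V4), ((0, 0, 0, 0) : V4), ((-1, 0, 0, 0) : V4), ((-1, 0, 0, 0) : V4), ((-1, 0, 0, 0) : V4), ((-1, 0, 0, 0) : V4),
  ((-1, 0, 0, 0) : V4), ((-1, 0, 0, 0) : V4), ((1, 1, 0, 0) : V4), ((1, 1, 0, 0) : V4), ((1, 1, 0, 0) : V4), ((1, 1, 0, 0) : V4), ((1, 1, 0, 0) : V4), ((1, 1, 0, 0) : V4),
  ((0, 1, 0, 0) : V4), ((0, 1, 0, 0) : V4), ((0, 1, 0, 0) : V4), ((0, 1, 0, 0) : V4), ((0, 1, 0, 0) : V4), ((0, 1, 0, 0) : V4), ((0, 1, 0, 0) : V4), ((0, 1, 0, 0) : V4),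
  ((-1, 1, 0, 0) : V4), ((1, 2, 0, 0) : V4), ((0, -1, 0, 0) : V4), ((0, -1, 0, 0) : V4), ((0, -1, 0, 0) : V4), ((0, -1, 0, 0) : V4), ((0, -1, 0, 0) : V4),
  ((0, -1, 0, 0) : V4), ((-1, -1, 0, 0) : V4), ((-1, -1, 0, 0) : V4), ((-1, -1, 0, 0) : V4), ((-1, -1, 0, 0) : V4), ((1, 0, 0, 0) : V4), ((1, 0, 0, 0) : V4),
  ((1, 0, 0, 0) : V4), ((1, 0, 0, 0) : V4), ((0, 0, 0, 0) : V4), ((-1, -1, 0, 0) : V4), ((-1, -1, 0, 0) : V4), ((-1, -1, 0, 0) : V4), ((-1, -1, 0, 0) : V4),
  ((-2, -1, 0, 0) : V4), ((1, 0, 0, 0) : V4), ((1, 0, 0, 0) : V4), ((1, 0, 0, 0) : V4), ((1, 0, 0, 0) : V4), ((0, 0, 0, 0) : V4), ((0, 0, 0, 0) : V4), ((0, 0, 0, 0) : V4),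
  ((0, 0, 0, 0) : V4), ((0, 0, 0, 0) : V4), ((0, 0, 0, 0) : V4), ((0, 0, 0, 0) : V4), ((0, 0, 0, 0) : V4), ((0, 0, 0, 0) : V4), ((0, 0, 0, 0) : V4), ((0, 0, 0, 0) : V4),
  ((0, 0, 0, 0) : V4), ((-1, 0, 0, 0) : V4), ((-1, 0, 0, 0) : V4), ((-1, 0, 0, 0) : V4), ((-1, 0, 0, 0) : V4), ((2, 1, 0, 0) : V4), ((1, 1, 0, 0) : V4),
  ((1, 1, 0, 0) : V4), ((1, 1, 0, 0) : V4), ((1, 1, 0, 0) : V4), ((0, 0, 0, 0) : V4), ((-1, 0, 0, 0) : V4), ((-1, 0, 0, 0) : V4), ((-1, 0, 0, 0) : V4),
  ((-1, 0, 0, 0) : V4), ((1, 1, 0, 0) : V4), ((1, 1, 0, 0) : V4), ((1, 1, 0, 0) : V4), ((1, 1, 0, 0) : V4), ((0, 1, 0, 0) : V4), ((0, 1, 0, 0) : V4), ((0, 1, 0, 0) : V4),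
  ((0, 1, 0, 0) : V4), ((0, 1, 0, 0) : V4), ((0, 1, 0, 0) : V4), ((-1, -2, 0, 0) : V4), ((1, -1, 0, 0) : V4), ((0, -1, 0, 0) : V4), ((0, -1, 0, 0) : V4),
  ((0, -1, 0, 0) : V4), ((0, -1, 0, 0) : V4), ((0, -1, 0, 0) : V4), ((0, -1, 0, 0) : V4), ((0, -1, 0, 0) : V4), ((0, -1, 0, 0) : V4), ((-1, -1, 0, 0) : V4),
  ((-1, -1, 0, 0) : V4), ((-1, -1, 0, 0) : V4), ((-1, -1, 0, 0) : V4), ((-1, -1, 0, 0) : V4), ((-1, -1, 0, 0) : V4), ((1, 0, 0, 0) : V4), ((1, 0, 0, 0) : V4),
  ((1, 0, 0, 0) : V4), ((1, 0, 0, 0) : V4), ((1, 0, 0, 0) : V4), ((1, 0, 0, 0) : V4), ((0, 0, 0, 0) : V4), ((0, 0, 0, 0) : V4), ((0, 0, 0, 0) : V4), ((0, 0, 0, 0) : V4),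
  ((0, 0, 0, 0) : V4), ((0, 0, 0, 0) : V4), ((0, 0, 0, 0) : V4), ((0, 0, 0, 0) : V4), ((-1, 0, 0, 0) : V4), ((1, 1, 0, 0) : V4), ((0, -1, 0, 0) : V4)]

theorem tab3 : tab chevE7 7 c3 = T3 := by decide +kernel

theorem eig3 : okEig (cartanOf chevE7 7) [0, 2] c3 (Ph 3) ![2, 0, -1, 0, 0, 0, 0] := by
  unfold okEig
  decide +kernel

theorem chk3_7 : chkAll 7 (Ph 3) T3 [(18, 4, (0, 1, 0, 0)), (30, 2, (0, 1, 0, 0))] = true := by
  decide +kernel

/-- `E7`, `e = 3`, `p = 7` -/
theorem hasElt3_7 (F : Type) [Field F] [Fintype F] (hF : ¬ 7 ∣ Fintype.card F)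
    (he : orderOf ((Fintype.card F : ℕ) : ZMod 7) = 3) : HasElt 7 (chevE7.group F) (Fintype.card F) := by
  have : Fact (Nat.Prime 7) := ⟨by norm_num⟩
  exact hasElt_cell e7T F hF inv_E7 (by norm_num) (by norm_num) he (by simp) eig3 tab3 chk3_7

theorem chk3_13 : chkAll 13 (Ph 3) T3 [(22, 9, (0, 1, 0, 0)), (146, 3, (0, 1, 0, 0))] = true := by
  decide +kernel

/-- `E7`, `e = 3`, `p = 13` -/
theorem hasElt3_13 (F : Type) [Field F] [Fintype F] (hF : ¬ 13 ∣ Fintype.card F)
    (he : orderOf ((Fintype.card F : ℕ) : ZMod 13) = 3) : HasElt 13 (chevE7.group F) (Fintype.card F) := by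
  have : Fact (Nat.Prime 13) := ⟨by norm_num⟩
  exact hasElt_cell e7T F hF inv_E7 (by norm_num) (by norm_num) he (by simp) eig3 tab3 chk3_13

theorem chk3_19 : chkAll 19 (Ph 3) T3 [(68, 11, (0, 1, 0, 0)), (292, 7, (0, 1, 0, 0))] = true := by
  decide +kernel

/-- `E7`, `e = 3`, `p = 19` -/
theorem hasElt3_19 (F : Type) [Field F] [Fintype F] (hF : ¬ 19 ∣ Fintype.card F)
    (he : orderOf ((Fintype.card F : ℕ) : ZMod 19) = 3) : HasElt 19 (chevE7.group F) (Fintype.card F) := by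
  have : Fact (Nat.Prime 19) := ⟨by norm_num⟩
  exact hasElt_cell e7T F hF inv_E7 (by norm_num) (by norm_num) he (by simp) eig3 tab3 chk3_19

/-- the form for `e = 6` -/
def c6 : Fin 7 → V4 := ![(-1, 1, 0, 0), (0, -1, 0, 0), (0, -1, 0, 0), (1, 0, 0, 0), (0, 1, 0, 0), (-1, 0, 0, 0), (0, 0, 0, 0)]

/-- the table of the root values -/
def T6 : List V4 := [
  ((0, 0, 0, 0) : V4), ((-1, 1, 0, 0) : V4), ((-1, 0, 0, 0) : V4), ((0, 0, 0, 0) : V4), ((0, 1, 0, 0) : V4), ((-1, 1, 0, 0) : V4), ((-1, 1, 0, 0) : V4),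
  ((0, -1, 0, 0) : V4), ((0, 0, 0, 0) : V4), ((-1, 0, 0, 0) : V4), ((-1, 0, 0, 0) : V4), ((1, 0, 0, 0) : V4), ((0, 0, 0, 0) : V4), ((0, 0, 0, 0) : V4),
  ((0, 1, 0, 0) : V4), ((0, 1, 0, 0) : V4), ((-1, 1, 0, 0) : V4), ((1, -1, 0, 0) : V4), ((0, -1, 0, 0) : V4), ((0, -1, 0, 0) : V4), ((0, 0, 0, 0) : V4),
  ((0, 0, 0, 0) : V4), ((-1, 0, 0, 0) : V4), ((1, 0, 0, 0) : V4), ((1, 0, 0, 0) : V4), ((0, 0, 0, 0) : V4), ((0, 1, 0, 0) : V4), ((1, -1, 0, 0) : V4),
  ((1, -1, 0, 0) : V4), ((0, -1, 0, 0) : V4), ((0, 0, 0, 0) : V4), ((1, 0, 0, 0) : V4), ((1, -1, 0, 0) : V4), ((0, 0, 0, 0) : V4), ((-1, 0, 0, 0) : V4),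
  ((-1, 0, 0, 0) : V4), ((-1, 1, 0, 0) : V4), ((-1, 1, 0, 0) : V4), ((-2, 1, 0, 0) : V4), ((0, 1, 0, 0) : V4), ((0, 1, 0, 0) : V4), ((-1, 1, 0, 0) : V4),
  ((-1, 2, 0, 0) : V4), ((0, 0, 0, 0) : V4), ((0, 0, 0, 0) : V4), ((-1, 0, 0, 0) : V4), ((-1, 1, 0, 0) : V4), ((0, 1, 0, 0) : V4), ((0, 0, 0, 0) : V4),
  ((0, 0, 0, 0) : V4), ((-1, 0, 0, 0) : V4), ((-1, 1, 0, 0) : V4), ((0, 1, 0, 0) : V4), ((0, -1, 0, 0) : V4), ((0, -1, 0, 0) : V4), ((-1, -1, 0, 0) : V4),
  ((-1, 0, 0, 0) : V4), ((1, -1, 0, 0) : V4), ((1, -1, 0, 0) : V4), ((0, -1, 0, 0) : V4), ((1, 0, 0, 0) : V4), ((1, 0, 0, 0) : V4), ((0, 0, 0, 0) : V4),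
  ((0, 0, 0, 0) : V4), ((-1, 0, 0, 0) : V4), ((-1, 0, 0, 0) : V4), ((0, 1, 0, 0) : V4), ((-1, 1, 0, 0) : V4), ((-1, 1, 0, 0) : V4), ((1, 0, 0, 0) : V4),
  ((1, 1, 0, 0) : V4), ((0, 1, 0, 0) : V4), ((0, 1, 0, 0) : V4), ((0, -1, 0, 0) : V4), ((1, -1, 0, 0) : V4), ((1, 0, 0, 0) : V4), ((0, 0, 0, 0) : V4), ((0, 0, 0, 0) : V4),
  ((0, -1, 0, 0) : V4), ((1, -1, 0, 0) : V4), ((1, 0, 0, 0) : V4), ((0, 0, 0, 0) : V4), ((0, 0, 0, 0) : V4), ((1, -2, 0, 0) : V4), ((1, -1, 0, 0) : V4),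
  ((0, -1, 0, 0) : V4), ((0, -1, 0, 0) : V4), ((2, -1, 0, 0) : V4), ((1, -1, 0, 0) : V4), ((1, -1, 0, 0) : V4), ((1, 0, 0, 0) : V4), ((1, 0, 0, 0) : V4),
  ((0, 0, 0, 0) : V4), ((-1, 1, 0, 0) : V4), ((-1, 0, 0, 0) : V4), ((0, 0, 0, 0) : V4), ((0, 1, 0, 0) : V4), ((-1, 1, 0, 0) : V4), ((-1, 1, 0, 0) : V4),
  ((0, -1, 0, 0) : V4), ((0, 0, 0, 0) : V4), ((-1, 0, 0, 0) : V4), ((-1, 0, 0, 0) : V4), ((1, 0, 0, 0) : V4), ((0, 0, 0, 0) : V4), ((0, 0, 0, 0) : V4),
  ((0, 1, 0, 0) : V4), ((0, 1, 0, 0) : V4), ((-1, 1, 0, 0) : V4), ((1, -1, 0, 0) : V4), ((0, -1, 0, 0) : V4), ((0, -1, 0, 0) : V4), ((0, 0, 0, 0) : V4),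
  ((0, 0, 0, 0) : V4), ((-1, 0, 0, 0) : V4), ((1, 0, 0, 0) : V4), ((1, 0, 0, 0) : V4), ((0, 0, 0, 0) : V4), ((0, 1, 0, 0) : V4), ((1, -1, 0, 0) : V4),
  ((1, -1, 0, 0) : V4), ((0, -1, 0, 0) : V4), ((0, 0, 0, 0) : V4), ((1, 0, 0, 0) : V4), ((1, -1, 0, 0) : V4), ((0, 0, 0, 0) : V4)]

theorem tab6 : tab chevE7 7 c6 = T6 := by decide +kernel

theorem eig6 : okEig (cartanOf chevE7 7) [1, 2, 3, 4] c6 (Ph 6) ![-1, 1, 1, 0, -1, 0, 0] := by
  unfold okEig
  decide +kernel

theorem chk6_7 : chkAll 7 (Ph 6) T6 [(19, 4, (-1, 1, 0, 0)), (31, 2, (-1, 1, 0, 0))] = true := by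
  decide +kernel

/-- `E7`, `e = 6`, `p = 7` -/
theorem hasElt6_7 (F : Type) [Field F] [Fintype F] (hF : ¬ 7 ∣ Fintype.card F)
    (he : orderOf ((Fintype.card F : ℕ) : ZMod 7) = 6) : HasElt 7 (chevE7.group F) (Fintype.card F) := by
  have : Fact (Nat.Prime 7) := ⟨by norm_num⟩
  exact hasElt_cell e7T F hF inv_E7 (by norm_num) (by norm_num) he (by simp) eig6 tab6 chk6_7

theorem chk6_13 : chkAll 13 (Ph 6) T6 [(23, 9, (-1, 1, 0, 0)), (147, 3, (-1, 1, 0, 0))] = true := by
  decide +kernel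

/-- `E7`, `e = 6`, `p = 13` -/
theorem hasElt6_13 (F : Type) [Field F] [Fintype F] (hF : ¬ 13 ∣ Fintype.card F)
    (he : orderOf ((Fintype.card F : ℕ) : ZMod 13) = 6) : HasElt 13 (chevE7.group F) (Fintype.card F) := by
  have : Fact (Nat.Prime 13) := ⟨by norm_num⟩
  exact hasElt_cell e7T F hF inv_E7 (by norm_num) (by norm_num) he (by simp) eig6 tab6 chk6_13

theorem chk6_19 : chkAll 19 (Ph 6) T6 [(69, 11, (-1, 1, 0, 0)), (293, 7, (-1, 1, 0, 0))] = true := by
  decide +kernel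

/-- `E7`, `e = 6`, `p = 19` -/
theorem hasElt6_19 (F : Type) [Field F] [Fintype F] (hF : ¬ 19 ∣ Fintype.card F)
    (he : orderOf ((Fintype.card F : ℕ) : ZMod 19) = 6) : HasElt 19 (chevE7.group F) (Fintype.card F) := by
  have : Fact (Nat.Prime 19) := ⟨by norm_num⟩
  exact hasElt_cell e7T F hF inv_E7 (by norm_num) (by norm_num) he (by simp) eig6 tab6 chk6_19

/-- the form for `e = 4` -/
def c4 : Fin 7 → V4 := ![(-1, -1, 0, 0), (-1, 0, 0, 0), (1, -1, 0, 0), (1, 1, 0, 0), (-1, 0, 0, 0), (0, 0, 0, 0), (0, 0, 0, 0)]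

/-- the table of the root values -/
def T4 : List V4 := [
  ((0, 1, 0, 0) : V4), ((-1, 0, 0, 0) : V4), ((0, -1, 0, 0) : V4), ((1, 0, 0, 0) : V4), ((0, 0, 0, 0) : V4), ((0, 0, 0, 0) : V4), ((0, 0, 0, 0) : V4), ((0, 0, 0, 0) : V4),
  ((-1, 0, 0, 0) : V4), ((-1, 0, 0, 0) : V4), ((-1, 0, 0, 0) : V4), ((0, 1, 0, 0) : V4), ((0, 1, 0, 0) : V4), ((0, 1, 0, 0) : V4), ((-1, 1, 0, 0) : V4),
  ((-1, 1, 0, 0) : V4), ((-1, 1, 0, 0) : V4), ((1, 0, 0, 0) : V4), ((1, 0, 0, 0) : V4), ((1, 0, 0, 0) : V4), ((0, 0, 0, 0) : V4), ((0, 0, 0, 0) : V4), ((0, 0, 0, 0) : V4),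
  ((1, 1, 0, 0) : V4), ((1, 1, 0, 0) : V4), ((1, 1, 0, 0) : V4), ((0, 1, 0, 0) : V4), ((0, 1, 0, 0) : V4), ((0, 1, 0, 0) : V4), ((0, 1, 0, 0) : V4), ((-1, 1, 0, 0) : V4),
  ((0, 2, 0, 0) : V4), ((1, 1, 0, 0) : V4), ((0, -1, 0, 0) : V4), ((0, -1, 0, 0) : V4), ((0, -1, 0, 0) : V4), ((-1, -1, 0, 0) : V4), ((-1, -1, 0, 0) : V4),
  ((-1, -1, 0, 0) : V4), ((0, 0, 0, 0) : V4), ((0, 0, 0, 0) : V4), ((0, 0, 0, 0) : V4), ((-1, 0, 0, 0) : V4), ((1, -1, 0, 0) : V4), ((1, -1, 0, 0) : V4),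
  ((1, -1, 0, 0) : V4), ((0, -1, 0, 0) : V4), ((1, 0, 0, 0) : V4), ((-1, 0, 0, 0) : V4), ((-1, 0, 0, 0) : V4), ((-1, 0, 0, 0) : V4), ((-2, 0, 0, 0) : V4),
  ((-1, 1, 0, 0) : V4), ((0, -1, 0, 0) : V4), ((0, -1, 0, 0) : V4), ((0, -1, 0, 0) : V4), ((-1, -1, 0, 0) : V4), ((1, 0, 0, 0) : V4), ((1, 0, 0, 0) : V4),
  ((1, 0, 0, 0) : V4), ((0, 0, 0, 0) : V4), ((0, 0, 0, 0) : V4), ((0, 0, 0, 0) : V4), ((0, 0, 0, 0) : V4), ((0, 0, 0, 0) : V4), ((0, 0, 0, 0) : V4), ((-1, 0, 0, 0) : V4),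
  ((-1, 0, 0, 0) : V4), ((-1, 0, 0, 0) : V4), ((1, 1, 0, 0) : V4), ((0, 1, 0, 0) : V4), ((0, 1, 0, 0) : V4), ((0, 1, 0, 0) : V4), ((1, -1, 0, 0) : V4),
  ((2, 0, 0, 0) : V4), ((1, 0, 0, 0) : V4), ((1, 0, 0, 0) : V4), ((1, 0, 0, 0) : V4), ((-1, 0, 0, 0) : V4), ((0, 1, 0, 0) : V4), ((-1, 1, 0, 0) : V4),
  ((-1, 1, 0, 0) : V4), ((-1, 1, 0, 0) : V4), ((1, 0, 0, 0) : V4), ((0, 0, 0, 0) : V4), ((0, 0, 0, 0) : V4), ((0, 0, 0, 0) : V4), ((1, 1, 0, 0) : V4), ((1, 1, 0, 0) : V4),
  ((1, 1, 0, 0) : V4), ((0, 1, 0, 0) : V4), ((0, 1, 0, 0) : V4), ((0, 1, 0, 0) : V4), ((-1, -1, 0, 0) : V4), ((0, -2, 0, 0) : V4), ((1, -1, 0, 0) : V4),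
  ((0, -1, 0, 0) : V4), ((0, -1, 0, 0) : V4), ((0, -1, 0, 0) : V4), ((0, -1, 0, 0) : V4), ((-1, -1, 0, 0) : V4), ((-1, -1, 0, 0) : V4), ((-1, -1, 0, 0) : V4),
  ((0, 0, 0, 0) : V4), ((0, 0, 0, 0) : V4), ((0, 0, 0, 0) : V4), ((-1, 0, 0, 0) : V4), ((-1, 0, 0, 0) : V4), ((-1, 0, 0, 0) : V4), ((1, -1, 0, 0) : V4),
  ((1, -1, 0, 0) : V4), ((1, -1, 0, 0) : V4), ((0, -1, 0, 0) : V4), ((0, -1, 0, 0) : V4), ((0, -1, 0, 0) : V4), ((1, 0, 0, 0) : V4), ((1, 0, 0, 0) : V4),
  ((1, 0, 0, 0) : V4), ((0, 0, 0, 0) : V4), ((0, 0, 0, 0) : V4), ((0, 0, 0, 0) : V4), ((0, 0, 0, 0) : V4), ((-1, 0, 0, 0) : V4), ((0, 1, 0, 0) : V4), ((1, 0, 0, 0) : V4),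
  ((0, -1, 0, 0) : V4)]

theorem tab4 : tab chevE7 7 c4 = T4 := by decide +kernel

theorem eig4 : okEig (cartanOf chevE7 7) [0, 2, 3] c4 (Ph 4) ![1, 0, 1, -1, 0, 0, 0] := by
  unfold okEig
  decide +kernel

theorem chk4_13 : chkAll 13 (Ph 4) T4 [(70, 5, (0, 1, 0, 0)), (99, 8, (0, 1, 0, 0))] = true := by
  decide +kernel

/-- `E7`, `e = 4`, `p = 13` -/
theorem hasElt4_13 (F : Type) [Field F] [Fintype F] (hF : ¬ 13 ∣ Fintype.card F)
    (he : orderOf ((Fintype.card F : ℕ) : ZMod 13) = 4) : HasElt 13 (chevE7.group F) (Fintype.card F) := by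
  have : Fact (Nat.Prime 13) := ⟨by norm_num⟩
  exact hasElt_cell e7T F hF inv_E7 (by norm_num) (by norm_num) he (by simp) eig4 tab4 chk4_13

theorem chk4_17 : chkAll 17 (Ph 4) T4 [(38, 4, (0, 1, 0, 0)), (251, 13, (0, 1, 0, 0))] = true := by
  decide +kernel

/-- `E7`, `e = 4`, `p = 17` -/
theorem hasElt4_17 (F : Type) [Field F] [Fintype F] (hF : ¬ 17 ∣ Fintype.card F)
    (he : orderOf ((Fintype.card F : ℕ) : ZMod 17) = 4) : HasElt 17 (chevE7.group F) (Fintype.card F) := by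
  have : Fact (Nat.Prime 17) := ⟨by norm_num⟩
  exact hasElt_cell e7T F hF inv_E7 (by norm_num) (by norm_num) he (by simp) eig4 tab4 chk4_17

theorem chk4_29 : chkAll 29 (Ph 4) T4 [(41, 12, (0, 1, 0, 0)), (800, 17, (0, 1, 0, 0))] = true := by
  decide +kernel

/-- `E7`, `e = 4`, `p = 29` -/
theorem hasElt4_29 (F : Type) [Field F] [Fintype F] (hF : ¬ 29 ∣ Fintype.card F)
    (he : orderOf ((Fintype.card F : ℕ) : ZMod 29) = 4) : HasElt 29 (chevE7.group F) (Fintype.card F) := by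
  have : Fact (Nat.Prime 29) := ⟨by norm_num⟩
  exact hasElt_cell e7T F hF inv_E7 (by norm_num) (by norm_num) he (by simp) eig4 tab4 chk4_29

/-- the form for `e = 5` -/
def c5 : Fin 7 → V4 := ![(0, -1, 1, 0), (0, 1, 1, 1), (0, 0, -1, 1), (-1, -1, -1, -2), (2, 1, 1, 1), (-1, 0, 0, 0), (0, 0, 0, 0)]

/-- the table of the root values -/
def T5 : List V4 := [
  ((0, 1, 0, 0) : V4), ((0, 0, 1, 0) : V4), ((0, 0, 0, 1) : V4), ((-1, -1, -1, -1) : V4), ((1, 0, 0, 0) : V4), ((0, 0, 0, 0) : V4), ((0, 0, 0, 0) : V4),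
  ((-1, 0, 0, 0) : V4), ((1, 1, 1, 1) : V4), ((0, 1, 1, 1) : V4), ((0, 1, 1, 1) : V4), ((0, 0, 0, -1) : V4), ((-1, 0, 0, -1) : V4), ((-1, 0, 0, -1) : V4),
  ((1, 1, 1, 0) : V4), ((1, 1, 1, 0) : V4), ((0, 1, 1, 0) : V4), ((0, 0, -1, 0) : V4), ((-1, 0, -1, 0) : V4), ((-1, 0, -1, 0) : V4), ((1, 1, 0, 1) : V4),
  ((1, 1, 0, 1) : V4), ((0, 1, 0, 1) : V4), ((0, 0, -1, -1) : V4), ((0, 0, -1, -1) : V4), ((-1, 0, -1, -1) : V4), ((1, 1, 0, 0) : V4), ((0, 1, 0, 0) : V4),
  ((0, 1, 0, 0) : V4), ((-1, 1, 0, 0) : V4), ((1, 2, 1, 1) : V4), ((0, 1, 0, -1) : V4), ((0, 1, -1, 0) : V4), ((0, -1, 0, 0) : V4), ((-1, -1, 0, 0) : V4),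
  ((-1, -1, 0, 0) : V4), ((1, 0, 1, 1) : V4), ((1, 0, 1, 1) : V4), ((0, 0, 1, 1) : V4), ((0, -1, 0, -1) : V4), ((0, -1, 0, -1) : V4), ((-1, -1, 0, -1) : V4),
  ((1, 0, 1, 0) : V4), ((0, -1, -1, 0) : V4), ((0, -1, -1, 0) : V4), ((-1, -1, -1, 0) : V4), ((1, 0, 0, 1) : V4), ((0, -1, -1, -1) : V4), ((0, 0, 1, 0) : V4),
  ((0, 0, 1, 0) : V4), ((-1, 0, 1, 0) : V4), ((1, 1, 2, 1) : V4), ((0, 0, 1, -1) : V4), ((0, 0, 0, 1) : V4), ((0, 0, 0, 1) : V4), ((-1, 0, 0, 1) : V4),
  ((1, 1, 1, 2) : V4), ((-1, -1, -1, -1) : V4), ((-1, -1, -1, -1) : V4), ((-2, -1, -1, -1) : V4), ((1, 0, 0, 0) : V4), ((1, 0, 0, 0) : V4), ((0, 0, 0, 0) : V4),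
  ((0, 0, 0, 0) : V4), ((-1, 0, 0, 0) : V4), ((-1, 0, 0, 0) : V4), ((2, 1, 1, 1) : V4), ((1, 1, 1, 1) : V4), ((1, 1, 1, 1) : V4), ((-1, -1, -1, -2) : V4),
  ((1, 0, 0, -1) : V4), ((0, 0, 0, -1) : V4), ((0, 0, 0, -1) : V4), ((0, 0, -1, 1) : V4), ((-1, -1, -2, -1) : V4), ((1, 0, -1, 0) : V4), ((0, 0, -1, 0) : V4),
  ((0, 0, -1, 0) : V4), ((0, 1, 1, 1) : V4), ((-1, 0, 0, -1) : V4), ((1, 1, 1, 0) : V4), ((0, 1, 1, 0) : V4), ((0, 1, 1, 0) : V4), ((-1, 0, -1, 0) : V4),
  ((1, 1, 0, 1) : V4), ((0, 1, 0, 1) : V4), ((0, 1, 0, 1) : V4), ((0, 0, -1, -1) : V4), ((-1, 0, -1, -1) : V4), ((-1, 0, -1, -1) : V4), ((1, 1, 0, 0) : V4),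
  ((1, 1, 0, 0) : V4), ((0, 1, 0, 0) : V4), ((0, -1, 1, 0) : V4), ((0, -1, 0, 1) : V4), ((-1, -2, -1, -1) : V4), ((1, -1, 0, 0) : V4), ((0, -1, 0, 0) : V4),
  ((0, -1, 0, 0) : V4), ((-1, -1, 0, 0) : V4), ((1, 0, 1, 1) : V4), ((0, 0, 1, 1) : V4), ((0, 0, 1, 1) : V4), ((0, -1, 0, -1) : V4), ((-1, -1, 0, -1) : V4),
  ((-1, -1, 0, -1) : V4), ((1, 0, 1, 0) : V4), ((1, 0, 1, 0) : V4), ((0, 0, 1, 0) : V4), ((0, -1, -1, 0) : V4), ((-1, -1, -1, 0) : V4), ((-1, -1, -1, 0) : V4),
  ((1, 0, 0, 1) : V4), ((1, 0, 0, 1) : V4), ((0, 0, 0, 1) : V4), ((0, -1, -1, -1) : V4), ((0, -1, -1, -1) : V4), ((-1, -1, -1, -1) : V4), ((1, 0, 0, 0) : V4),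
  ((0, 0, 0, 0) : V4), ((0, 0, 0, 0) : V4), ((-1, 0, 0, 0) : V4), ((1, 1, 1, 1) : V4), ((0, 0, 0, -1) : V4), ((0, 0, -1, 0) : V4), ((0, -1, 0, 0) : V4)]

theorem tab5 : tab chevE7 7 c5 = T5 := by decide +kernel

theorem eig5 : okEig (cartanOf chevE7 7) [0, 2, 3, 4] c5 (Ph 5) ![0, -1, -1, 2, -1, 0, 0] := by
  unfold okEig
  decide +kernel

theorem chk5_11 : chkAll 11 (Ph 5) T5 [(3, 3, (0, 1, 0, 0)), (9, 9, (0, 1, 0, 0)), (27, 5, (0, 1, 0, 0)), (81, 4, (0, 1, 0, 0))] = true := by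
  decide +kernel

/-- `E7`, `e = 5`, `p = 11` -/
theorem hasElt5_11 (F : Type) [Field F] [Fintype F] (hF : ¬ 11 ∣ Fintype.card F)
    (he : orderOf ((Fintype.card F : ℕ) : ZMod 11) = 5) : HasElt 11 (chevE7.group F) (Fintype.card F) := by
  have : Fact (Nat.Prime 11) := ⟨by norm_num⟩
  exact hasElt_cell e7T F hF inv_E7 (by norm_num) (by norm_num) he (by simp) eig5 tab5 chk5_11

/-- the form for `e = 10` -/
def c10 : Fin 7 → V4 := ![(-1, 1, 0, 1), (0, -1, 0, 0), (0, -1, 0, 0), (0, 1, -1, 0), (0, 0, 1, -1), (1, -1, 1, 0), (0, 1, -1, 1)]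

/-- the table of the root values -/
def T10 : List V4 := [
  ((0, 0, 0, 0) : V4), ((-1, 1, 0, 1) : V4), ((-1, 0, 0, 1) : V4), ((-1, 1, -1, 1) : V4), ((-1, 1, 0, 0) : V4), ((0, 0, 1, 0) : V4), ((0, 1, 0, 1) : V4),
  ((-1, 0, -1, 1) : V4), ((-1, 0, 0, 0) : V4), ((0, -1, 1, 0) : V4), ((0, 0, 0, 1) : V4), ((-1, 1, -1, 0) : V4), ((0, 0, 0, 0) : V4), ((0, 1, -1, 1) : V4),
  ((0, 0, 1, -1) : V4), ((0, 1, 0, 0) : V4), ((1, 0, 1, 0) : V4), ((-1, 0, -1, 0) : V4), ((0, -1, 0, 0) : V4), ((0, 0, -1, 1) : V4), ((0, -1, 1, -1) : V4),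
  ((0, 0, 0, 0) : V4), ((1, -1, 1, 0) : V4), ((0, 0, 0, -1) : V4), ((0, 1, -1, 0) : V4), ((1, 0, 0, 0) : V4), ((1, 0, 1, -1) : V4), ((0, -1, 0, -1) : V4),
  ((0, 0, -1, 0) : V4), ((1, -1, 0, 0) : V4), ((1, -1, 1, -1) : V4), ((1, 0, 0, -1) : V4), ((1, -1, 0, -1) : V4), ((-2, 1, -1, 1) : V4), ((-1, 0, 0, 1) : V4),
  ((-1, 1, -1, 2) : V4), ((-1, 0, 1, 0) : V4), ((-1, 1, 0, 1) : V4), ((0, 0, 1, 1) : V4), ((-1, 1, 0, 0) : V4), ((-1, 2, -1, 1) : V4), ((0, 1, 0, 1) : V4),
  ((0, 1, 1, 0) : V4), ((-1, 0, 0, 0) : V4), ((-1, 1, -1, 1) : V4), ((0, 0, 0, 1) : V4), ((0, 0, 1, 0) : V4), ((0, 1, 0, 0) : V4), ((-1, 0, 0, 0) : V4),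
  ((-1, 1, -1, 1) : V4), ((0, 0, 0, 1) : V4), ((0, 0, 1, 0) : V4), ((0, 1, 0, 0) : V4), ((-1, -1, 0, 0) : V4), ((-1, 0, -1, 1) : V4), ((0, -1, 0, 1) : V4),
  ((0, -1, 1, 0) : V4), ((-1, 0, -1, 0) : V4), ((-1, 1, -2, 1) : V4), ((0, 0, -1, 1) : V4), ((-1, 0, 0, -1) : V4), ((-1, 1, -1, 0) : V4), ((0, -1, 1, -1) : V4),
  ((0, 1, -1, 1) : V4), ((1, -1, 1, 0) : V4), ((1, 0, 0, 1) : V4), ((0, 0, 1, -1) : V4), ((1, -1, 2, -1) : V4), ((1, 0, 1, 0) : V4), ((0, 1, -1, 0) : V4),
  ((0, 1, 0, -1) : V4), ((1, 0, 1, -1) : V4), ((1, 1, 0, 0) : V4), ((0, -1, 0, 0) : V4), ((0, 0, -1, 0) : V4), ((0, 0, 0, -1) : V4), ((1, -1, 1, -1) : V4),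
  ((1, 0, 0, 0) : V4), ((0, -1, 0, 0) : V4), ((0, 0, -1, 0) : V4), ((0, 0, 0, -1) : V4), ((1, -1, 1, -1) : V4), ((1, 0, 0, 0) : V4), ((0, -1, -1, 0) : V4),
  ((0, -1, 0, -1) : V4), ((1, -2, 1, -1) : V4), ((1, -1, 0, 0) : V4), ((0, 0, -1, -1) : V4), ((1, -1, 0, -1) : V4), ((1, 0, -1, 0) : V4), ((1, -1, 1, -2) : V4),
  ((1, 0, 0, -1) : V4), ((2, -1, 1, -1) : V4), ((-1, 1, 0, 1) : V4), ((-1, 0, 0, 1) : V4), ((-1, 1, -1, 1) : V4), ((-1, 1, 0, 0) : V4), ((0, 0, 1, 0) : V4),
  ((0, 1, 0, 1) : V4), ((-1, 0, -1, 1) : V4), ((-1, 0, 0, 0) : V4), ((0, -1, 1, 0) : V4), ((0, 0, 0, 1) : V4), ((-1, 1, -1, 0) : V4), ((0, 0, 0, 0) : V4),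
  ((0, 1, -1, 1) : V4), ((0, 0, 1, -1) : V4), ((0, 1, 0, 0) : V4), ((1, 0, 1, 0) : V4), ((-1, 0, -1, 0) : V4), ((0, -1, 0, 0) : V4), ((0, 0, -1, 1) : V4),
  ((0, -1, 1, -1) : V4), ((0, 0, 0, 0) : V4), ((1, -1, 1, 0) : V4), ((0, 0, 0, -1) : V4), ((0, 1, -1, 0) : V4), ((1, 0, 0, 0) : V4), ((1, 0, 1, -1) : V4),
  ((0, -1, 0, -1) : V4), ((0, 0, -1, 0) : V4), ((1, -1, 0, 0) : V4), ((1, -1, 1, -1) : V4), ((1, 0, 0, -1) : V4), ((1, -1, 0, -1) : V4), ((0, 0, 0, 0) : V4)]

theorem tab10 : tab chevE7 7 c10 = T10 := by decide +kernel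

theorem eig10 : okEig (cartanOf chevE7 7) [1, 2, 3, 4, 5, 6] c10 (Ph 10) ![-1, 0, 0, 0, 1, 0, -1] := by
  unfold okEig
  decide +kernel

theorem chk10_11 : chkAll 11 (Ph 10) T10 [(40, 8, (-1, 1, 0, 1)), (94, 1, (-1, 1, 0, 1)), (112, 9, (-1, 1, 0, 1)), (118, 2, (-1, 1, 0, 1))] = true := by
  decide +kernel

/-- `E7`, `e = 10`, `p = 11` -/
theorem hasElt10_11 (F : Type) [Field F] [Fintype F] (hF : ¬ 11 ∣ Fintype.card F)
    (he : orderOf ((Fintype.card F : ℕ) : ZMod 11) = 10) : HasElt 11 (chevE7.group F) (Fintype.card F) := by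
  have : Fact (Nat.Prime 11) := ⟨by norm_num⟩
  exact hasElt_cell e7T F hF inv_E7 (by norm_num) (by norm_num) he (by simp) eig10 tab10 chk10_11

end Cfsg.Agent.H395.HT.E7
end

-- part: H395/HT/RowsE8
section
prune_inst 0x2f570774577e20208081ca096f3207ef7f70005b2006b8401fde60f4e0f8fdf63e9e7ef60fff03f37dbecbef5787fc468131001f9427800002e24be00411f01a084af5e66f7bdbf9dfe009fc0928f790c00008000300000000000000000041004004010000
set_option linter.all false

/-- decoders of the packed data (elaboration time only) -/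
private noncomputable def pk61d (b S i : Nat) : Nat := Nat.mod (Nat.shiftRight S (Nat.mul b i)) (Nat.shiftLeft (nat_lit 1) b)
private noncomputable def pk61c {α : Type} (t : Nat) (a : α) (f : Nat → α) : α := Nat.rec a (fun k _ => f k) t
private noncomputable def pk61f {α : Type} (t : Nat) (f : Nat → α) : α := Nat.rec (f Nat.zero) (fun k _ => f (Nat.succ k)) t
private noncomputable def pk61z (t : Nat) : Int := pk61f t fun t =>
  pk61c (Nat.mod t (nat_lit 2)) (Int.ofNat (Nat.div t (nat_lit 2))) fun _ => Int.negSucc (Nat.div t (nat_lit 2))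
private noncomputable def pk61l {α : Type} (f : Nat → α) (s e : Nat) (tl : List α) : List α :=
  pk61f e fun e => Nat.rec tl (fun k ih => List.cons (pk61f (Nat.sub e (Nat.succ k)) f) ih) (Nat.sub e s)

/-!
# S4933, part (O): the cells of E8 (kernel checks)
-/

set_option autoImplicit false
set_option maxRecDepth 100000
set_option maxHeartbeats 4000000

namespace Cfsg.Agent.H395.HT.E8

open Cfsg Cfsg.Lie Cfsg.Agent.ChevalleyStructure Cfsg.Agent.ChevalleyStructure.CoxeterGeomTypes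
open Cfsg.Agent.BpExc.FamInst Cfsg.Agent.BpExc.RowsUntw Cfsg.Agent.H234.HT Cfsg.Agent.H395.HT

/-- the form for `e = 3` -/
def c3 : Fin 8 → V4 := ![(-1, -2, 0, 0), (0, 0, 0, 0), (2, 1, 0, 0), (-1, 0, 0, 0), (0, 0, 0, 0), (0, 0, 0, 0), (0, 0, 0, 0), (0, 0, 0, 0)]

/-- the table of the root values -/
noncomputable def T3 : List V4 :=
  (by
  refine (?fq9001 : ((pk61l (fun i1 => (_root_.Prod.mk (pk61z (pk61d (nat_lit 3) 
    (nat_lit 0x8a200000492449240000000000000012492492249249240000000440000000492449242492849240000000000000012493249212491249000000011000000012492492249249240000000000000012491249000002288000) i1)) (_root_.Prod.mk (pk61z (pk61d (nat_lit 3) 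
    (nat_lit 0x82492524924000000000000000000000000002492492492492492d2492492492400002492400000000000000000000001249200001249249249262492492492492492000000000000000000000000001249252492080000) i1)) (_root_.Prod.mk (pk61z (nat_lit 0)) (pk61z (nat_lit 0)))))) (nat_lit 0) (nat_lit 240) List.nil) : List V4)
    = ?xq9001 → (List V4)) ?hq9001; (case hq9001 => (set_option maxRecDepth 1000000 in conv => lhs; reduce)); intro _; exact ?xq9001 : List V4)

theorem tab3 : tab chevE8 8 c3 = T3 := by decide +kernel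

theorem eig3 : okEig (cartanOf chevE8 8) [0, 2] c3 (Ph 3) ![2, 0, -1, 0, 0, 0, 0, 0] := by
  unfold okEig
  decide +kernel

theorem chk3_7 : chkAll 7 (Ph 3) T3 [(18, 6, (-1, 0, 0, 0)), (30, 6, (-1, 0, 0, 0))] = true := by
  decide +kernel

/-- `E8`, `e = 3`, `p = 7` -/
theorem hasElt3_7 (F : Type) [Field F] [Fintype F] (hF : ¬ 7 ∣ Fintype.card F)
    (he : orderOf ((Fintype.card F : ℕ) : ZMod 7) = 3) : HasElt 7 (chevE8.group F) (Fintype.card F) := by
  have : Fact (Nat.Prime 7) := ⟨by norm_num⟩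
  exact hasElt_cell e8T F hF inv_E8 (by norm_num) (by norm_num) he (by simp) eig3 tab3 chk3_7

theorem chk3_13 : chkAll 13 (Ph 3) T3 [(22, 12, (-1, 0, 0, 0)), (146, 12, (-1, 0, 0, 0))] = true := by
  decide +kernel

/-- `E8`, `e = 3`, `p = 13` -/
theorem hasElt3_13 (F : Type) [Field F] [Fintype F] (hF : ¬ 13 ∣ Fintype.card F)
    (he : orderOf ((Fintype.card F : ℕ) : ZMod 13) = 3) : HasElt 13 (chevE8.group F) (Fintype.card F) := by
  have : Fact (Nat.Prime 13) := ⟨by norm_num⟩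
  exact hasElt_cell e8T F hF inv_E8 (by norm_num) (by norm_num) he (by simp) eig3 tab3 chk3_13

theorem chk3_19 : chkAll 19 (Ph 3) T3 [(68, 18, (-1, 0, 0, 0)), (292, 18, (-1, 0, 0, 0))] = true := by
  decide +kernel

/-- `E8`, `e = 3`, `p = 19` -/
theorem hasElt3_19 (F : Type) [Field F] [Fintype F] (hF : ¬ 19 ∣ Fintype.card F)
    (he : orderOf ((Fintype.card F : ℕ) : ZMod 19) = 3) : HasElt 19 (chevE8.group F) (Fintype.card F) := by
  have : Fact (Nat.Prime 19) := ⟨by norm_num⟩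
  exact hasElt_cell e8T F hF inv_E8 (by norm_num) (by norm_num) he (by simp) eig3 tab3 chk3_19

theorem chk3_31 : chkAll 31 (Ph 3) T3 [(439, 30, (-1, 0, 0, 0)), (521, 30, (-1, 0, 0, 0))] = true := by
  decide +kernel

/-- `E8`, `e = 3`, `p = 31` -/
theorem hasElt3_31 (F : Type) [Field F] [Fintype F] (hF : ¬ 31 ∣ Fintype.card F)
    (he : orderOf ((Fintype.card F : ℕ) : ZMod 31) = 3) : HasElt 31 (chevE8.group F) (Fintype.card F) := by
  have : Fact (Nat.Prime 31) := ⟨by norm_num⟩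
  exact hasElt_cell e8T F hF inv_E8 (by norm_num) (by norm_num) he (by simp) eig3 tab3 chk3_31

theorem chk3_37 : chkAll 37 (Ph 3) T3 [(581, 36, (-1, 0, 0, 0)), (787, 36, (-1, 0, 0, 0))] = true := by
  decide +kernel

/-- `E8`, `e = 3`, `p = 37` -/
theorem hasElt3_37 (F : Type) [Field F] [Fintype F] (hF : ¬ 37 ∣ Fintype.card F)
    (he : orderOf ((Fintype.card F : ℕ) : ZMod 37) = 3) : HasElt 37 (chevE8.group F) (Fintype.card F) := by
  have : Fact (Nat.Prime 37) := ⟨by norm_num⟩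
  exact hasElt_cell e8T F hF inv_E8 (by norm_num) (by norm_num) he (by simp) eig3 tab3 chk3_37

/-- the form for `e = 6` -/
def c6 : Fin 8 → V4 := ![(-1, 1, 0, 0), (0, -1, 0, 0), (0, -1, 0, 0), (1, 0, 0, 0), (0, 1, 0, 0), (-1, 0, 0, 0), (0, 0, 0, 0), (0, 0, 0, 0)]

/-- the table of the root values -/
noncomputable def T6 : List V4 :=
  (by
  refine (?fq9002 : ((pk61l (fun i1 => (_root_.Prod.mk (pk61z (pk61d (nat_lit 3) 
    (nat_lit 0x2400048012012402488000092200002489200002248000089201240240092494002400480012000489209200002482489000240009001200649248012012402488000092200002489200002248000089201240240090001200) i1)) (_root_.Prod.mk (pk61z (pk61d (nat_lit 3) 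
    (nat_lit 0x24048000804928000000924949200000000024949248000000a49008000024924960004800129241248000000000924124a40009000449249200000804928000000924949200000000024949248000000a490080009012000) i1)) (_root_.Prod.mk (pk61z (nat_lit 0)) (pk61z (nat_lit 0)))))) (nat_lit 0) (nat_lit 240) List.nil) : List V4)
    = ?xq9002 → (List V4)) ?hq9002; (case hq9002 => (set_option maxRecDepth 1000000 in conv => lhs; reduce)); intro _; exact ?xq9002 : List V4)

theorem tab6 : tab chevE8 8 c6 = T6 := by decide +kernel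

theorem eig6 : okEig (cartanOf chevE8 8) [1, 2, 3, 4] c6 (Ph 6) ![-1, 1, 1, 0, -1, 0, 0, 0] := by
  unfold okEig
  decide +kernel

theorem chk6_7 : chkAll 7 (Ph 6) T6 [(19, 6, (-1, 0, 0, 0)), (31, 6, (-1, 0, 0, 0))] = true := by
  decide +kernel

/-- `E8`, `e = 6`, `p = 7` -/
theorem hasElt6_7 (F : Type) [Field F] [Fintype F] (hF : ¬ 7 ∣ Fintype.card F)
    (he : orderOf ((Fintype.card F : ℕ) : ZMod 7) = 6) : HasElt 7 (chevE8.group F) (Fintype.card F) := by
  have : Fact (Nat.Prime 7) := ⟨by norm_num⟩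
  exact hasElt_cell e8T F hF inv_E8 (by norm_num) (by norm_num) he (by simp) eig6 tab6 chk6_7

theorem chk6_13 : chkAll 13 (Ph 6) T6 [(23, 12, (-1, 0, 0, 0)), (147, 12, (-1, 0, 0, 0))] = true := by
  decide +kernel

/-- `E8`, `e = 6`, `p = 13` -/
theorem hasElt6_13 (F : Type) [Field F] [Fintype F] (hF : ¬ 13 ∣ Fintype.card F)
    (he : orderOf ((Fintype.card F : ℕ) : ZMod 13) = 6) : HasElt 13 (chevE8.group F) (Fintype.card F) := by
  have : Fact (Nat.Prime 13) := ⟨by norm_num⟩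
  exact hasElt_cell e8T F hF inv_E8 (by norm_num) (by norm_num) he (by simp) eig6 tab6 chk6_13

theorem chk6_19 : chkAll 19 (Ph 6) T6 [(69, 18, (-1, 0, 0, 0)), (293, 18, (-1, 0, 0, 0))] = true := by
  decide +kernel

/-- `E8`, `e = 6`, `p = 19` -/
theorem hasElt6_19 (F : Type) [Field F] [Fintype F] (hF : ¬ 19 ∣ Fintype.card F)
    (he : orderOf ((Fintype.card F : ℕ) : ZMod 19) = 6) : HasElt 19 (chevE8.group F) (Fintype.card F) := by
  have : Fact (Nat.Prime 19) := ⟨by norm_num⟩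
  exact hasElt_cell e8T F hF inv_E8 (by norm_num) (by norm_num) he (by simp) eig6 tab6 chk6_19

theorem chk6_31 : chkAll 31 (Ph 6) T6 [(440, 30, (-1, 0, 0, 0)), (522, 30, (-1, 0, 0, 0))] = true := by
  decide +kernel

/-- `E8`, `e = 6`, `p = 31` -/
theorem hasElt6_31 (F : Type) [Field F] [Fintype F] (hF : ¬ 31 ∣ Fintype.card F)
    (he : orderOf ((Fintype.card F : ℕ) : ZMod 31) = 6) : HasElt 31 (chevE8.group F) (Fintype.card F) := by
  have : Fact (Nat.Prime 31) := ⟨by norm_num⟩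
  exact hasElt_cell e8T F hF inv_E8 (by norm_num) (by norm_num) he (by simp) eig6 tab6 chk6_31

theorem chk6_37 : chkAll 37 (Ph 6) T6 [(582, 36, (-1, 0, 0, 0)), (788, 36, (-1, 0, 0, 0))] = true := by
  decide +kernel

/-- `E8`, `e = 6`, `p = 37` -/
theorem hasElt6_37 (F : Type) [Field F] [Fintype F] (hF : ¬ 37 ∣ Fintype.card F)
    (he : orderOf ((Fintype.card F : ℕ) : ZMod 37) = 6) : HasElt 37 (chevE8.group F) (Fintype.card F) := by
  have : Fact (Nat.Prime 37) := ⟨by norm_num⟩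
  exact hasElt_cell e8T F hF inv_E8 (by norm_num) (by norm_num) he (by simp) eig6 tab6 chk6_37

/-- the form for `e = 4` -/
def c4 : Fin 8 → V4 := ![(-1, -1, 0, 0), (-1, 0, 0, 0), (1, -1, 0, 0), (1, 1, 0, 0), (-1, 0, 0, 0), (0, 0, 0, 0), (0, 0, 0, 0), (0, 0, 0, 0)]

/-- the table of the root values -/
noncomputable def T4 : List V4 :=
  (by
  refine (?fq9003 : ((pk61l (fun i1 => (_root_.Prod.mk (pk61z (pk61d (nat_lit 3) 
    (nat_lit 0x40a04000209244000924000000049248000049224924000924000204000049200044920a494400089240000000012488001649282491000249000010200012480012492249000009249000000012480011248200010281000) i1)) (_root_.Prod.mk (pk61z (pk61d (nat_lit 3) 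
    (nat_lit 0x4104925200009248000000000000000924924900000000924924965249249200009248000029248000000000000000924a000009248000249249254492492480000000492492480000000000000009248000252490410000) i1)) (_root_.Prod.mk (pk61z (nat_lit 0)) (pk61z (nat_lit 0)))))) (nat_lit 0) (nat_lit 240) List.nil) : List V4)
    = ?xq9003 → (List V4)) ?hq9003; (case hq9003 => (set_option maxRecDepth 1000000 in conv => lhs; reduce)); intro _; exact ?xq9003 : List V4)

theorem tab4 : tab chevE8 8 c4 = T4 := by decide +kernel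

theorem eig4 : okEig (cartanOf chevE8 8) [0, 2, 3] c4 (Ph 4) ![1, 0, 1, -1, 0, 0, 0, 0] := by
  unfold okEig
  decide +kernel

theorem chk4_13 : chkAll 13 (Ph 4) T4 [(70, 12, (-1, 0, 0, 0)), (99, 12, (-1, 0, 0, 0))] = true := by
  decide +kernel

/-- `E8`, `e = 4`, `p = 13` -/
theorem hasElt4_13 (F : Type) [Field F] [Fintype F] (hF : ¬ 13 ∣ Fintype.card F)
    (he : orderOf ((Fintype.card F : ℕ) : ZMod 13) = 4) : HasElt 13 (chevE8.group F) (Fintype.card F) := by
  have : Fact (Nat.Prime 13) := ⟨by norm_num⟩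
  exact hasElt_cell e8T F hF inv_E8 (by norm_num) (by norm_num) he (by simp) eig4 tab4 chk4_13

theorem chk4_17 : chkAll 17 (Ph 4) T4 [(38, 16, (-1, 0, 0, 0)), (251, 16, (-1, 0, 0, 0))] = true := by
  decide +kernel

/-- `E8`, `e = 4`, `p = 17` -/
theorem hasElt4_17 (F : Type) [Field F] [Fintype F] (hF : ¬ 17 ∣ Fintype.card F)
    (he : orderOf ((Fintype.card F : ℕ) : ZMod 17) = 4) : HasElt 17 (chevE8.group F) (Fintype.card F) := by
  have : Fact (Nat.Prime 17) := ⟨by norm_num⟩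
  exact hasElt_cell e8T F hF inv_E8 (by norm_num) (by norm_num) he (by simp) eig4 tab4 chk4_17

theorem chk4_29 : chkAll 29 (Ph 4) T4 [(41, 28, (-1, 0, 0, 0)), (800, 28, (-1, 0, 0, 0))] = true := by
  decide +kernel

/-- `E8`, `e = 4`, `p = 29` -/
theorem hasElt4_29 (F : Type) [Field F] [Fintype F] (hF : ¬ 29 ∣ Fintype.card F)
    (he : orderOf ((Fintype.card F : ℕ) : ZMod 29) = 4) : HasElt 29 (chevE8.group F) (Fintype.card F) := by
  have : Fact (Nat.Prime 29) := ⟨by norm_num⟩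
  exact hasElt_cell e8T F hF inv_E8 (by norm_num) (by norm_num) he (by simp) eig4 tab4 chk4_29

theorem chk4_37 : chkAll 37 (Ph 4) T4 [(117, 36, (-1, 0, 0, 0)), (1252, 36, (-1, 0, 0, 0))] = true := by
  decide +kernel

/-- `E8`, `e = 4`, `p = 37` -/
theorem hasElt4_37 (F : Type) [Field F] [Fintype F] (hF : ¬ 37 ∣ Fintype.card F)
    (he : orderOf ((Fintype.card F : ℕ) : ZMod 37) = 4) : HasElt 37 (chevE8.group F) (Fintype.card F) := by
  have : Fact (Nat.Prime 37) := ⟨by norm_num⟩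
  exact hasElt_cell e8T F hF inv_E8 (by norm_num) (by norm_num) he (by simp) eig4 tab4 chk4_37

theorem chk4_41 : chkAll 41 (Ph 4) T4 [(378, 40, (-1, 0, 0, 0)), (1303, 40, (-1, 0, 0, 0))] = true := by
  decide +kernel

/-- `E8`, `e = 4`, `p = 41` -/
theorem hasElt4_41 (F : Type) [Field F] [Fintype F] (hF : ¬ 41 ∣ Fintype.card F)
    (he : orderOf ((Fintype.card F : ℕ) : ZMod 41) = 4) : HasElt 41 (chevE8.group F) (Fintype.card F) := by
  have : Fact (Nat.Prime 41) := ⟨by norm_num⟩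
  exact hasElt_cell e8T F hF inv_E8 (by norm_num) (by norm_num) he (by simp) eig4 tab4 chk4_41

theorem chk4_53 : chkAll 53 (Ph 4) T4 [(500, 52, (-1, 0, 0, 0)), (2309, 52, (-1, 0, 0, 0))] = true := by
  decide +kernel

/-- `E8`, `e = 4`, `p = 53` -/
theorem hasElt4_53 (F : Type) [Field F] [Fintype F] (hF : ¬ 53 ∣ Fintype.card F)
    (he : orderOf ((Fintype.card F : ℕ) : ZMod 53) = 4) : HasElt 53 (chevE8.group F) (Fintype.card F) := by
  have : Fact (Nat.Prime 53) := ⟨by norm_num⟩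
  exact hasElt_cell e8T F hF inv_E8 (by norm_num) (by norm_num) he (by simp) eig4 tab4 chk4_53

/-- the form for `e = 5` -/
def c5 : Fin 8 → V4 := ![(0, -1, 1, 0), (0, 1, 1, 1), (0, 0, -1, 1), (-1, -1, -1, -2), (2, 1, 1, 1), (-1, 0, 0, 0), (0, 0, 0, 0), (0, 0, 0, 0)]

/-- the table of the root values -/
noncomputable def T5 : List V4 :=
  (by
  refine (?fq9004 : ((pk61l (fun i1 => (_root_.Prod.mk (pk61z (pk61d (nat_lit 3) 
    (nat_lit 0x2200088000440088002489200092248000092248002489200088011000092248002200440011000452509200002499251000440011002200092248000440088002489200092248000092248002489200088011000088002200) i1)) (_root_.Prod.mk (pk61z (pk61d (nat_lit 3) 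
    (nat_lit 0x20120925040008001248000000024924000024900000924000924b252492000492092410001000052480000000009250000400041248249000249252892480012480000492000012492000000009240008001052482402000) i1)) (_root_.Prod.mk (pk61z (pk61d (nat_lit 3) 
    (nat_lit 0x21108000104928001248000000024924000024949248001248000108000024900029241124b20005248000000000925000289244124a00049200000840000924000924949200001249200000000924000a490400008442000) i1)) (pk61z (pk61d (nat_lit 3) 
    (nat_lit 0x2802800014000092524800000002492524920000000092524800014000002494920000500014492d248000000000926249140005000024949200000140000925248000000024925249200000000925248000140000a00a000) i1)))))) (nat_lit 0) (nat_lit 240) List.nil) : List V4)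
    = ?xq9004 → (List V4)) ?hq9004; (case hq9004 => (set_option maxRecDepth 1000000 in conv => lhs; reduce)); intro _; exact ?xq9004 : List V4)

theorem tab5 : tab chevE8 8 c5 = T5 := by decide +kernel

theorem eig5 : okEig (cartanOf chevE8 8) [0, 2, 3, 4] c5 (Ph 5) ![0, -1, -1, 2, -1, 0, 0, 0] := by
  unfold okEig
  decide +kernel

theorem chk5_11 : chkAll 11 (Ph 5) T5 [(3, 10, (-1, 0, 0, 0)), (9, 10, (-1, 0, 0, 0)), (27, 10, (-1, 0, 0, 0)), (81, 10, (-1, 0, 0, 0))] = true := by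
  decide +kernel

/-- `E8`, `e = 5`, `p = 11` -/
theorem hasElt5_11 (F : Type) [Field F] [Fintype F] (hF : ¬ 11 ∣ Fintype.card F)
    (he : orderOf ((Fintype.card F : ℕ) : ZMod 11) = 5) : HasElt 11 (chevE8.group F) (Fintype.card F) := by
  have : Fact (Nat.Prime 11) := ⟨by norm_num⟩
  exact hasElt_cell e8T F hF inv_E8 (by norm_num) (by norm_num) he (by simp) eig5 tab5 chk5_11

/-- the form for `e = 10` -/
def c10 : Fin 8 → V4 := ![(-1, 1, 0, 1), (0, -1, 0, 0), (0, -1, 0, 0), (0, 1, -1, 0), (0, 0, 1, -1), (1, -1, 1, 0), (0, 1, -1, 1), (-1, 0, 0, 0)]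

/-- the table of the root values -/
noncomputable def T10 : List V4 :=
  (by
  refine (?fq9005 : ((pk61l (fun i1 => (_root_.Prod.mk (pk61z (pk61d (nat_lit 3) 
    (nat_lit 0x90000001212480490090080440402011000440201011008048049009252812090090012000480012002402441411201200240009000240048048243252480490090080440402011000440201011008048049009242400000048) i1)) (_root_.Prod.mk (pk61z (pk61d (nat_lit 3) 
    (nat_lit 0x804040200824120200824120108040240120100840241208020241208120100825920100804029048020029004a00200904a010080402512080402408241202008241201080402401201008402412080202412080201010080) i1)) (_root_.Prod.mk (pk61z (pk61d (nat_lit 3) 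
    (nat_lit 0x1020008100040808101048804841220120240224109008904040808100240224101020204008100205288044809100b250200408010202040412201200408081010488048412201202402241090089040408081000408002040) i1)) (pk61z (pk61d (nat_lit 3) 
    (nat_lit 0x900001200920124024025000100940005000148040005201201240248124b009009001200048001200252090048252002400090002400480480892409201240240250001009400050001480400052012012402480240000480) i1)))))) (nat_lit 0) (nat_lit 240) List.nil) : List V4)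
    = ?xq9005 → (List V4)) ?hq9005; (case hq9005 => (set_option maxRecDepth 1000000 in conv => lhs; reduce)); intro _; exact ?xq9005 : List V4)

theorem tab10 : tab chevE8 8 c10 = T10 := by decide +kernel

theorem eig10 : okEig (cartanOf chevE8 8) [1, 2, 3, 4, 5, 6] c10 (Ph 10) ![-1, 0, 0, 0, 1, 0, -1, 0] := by
  unfold okEig
  decide +kernel

theorem chk10_11 : chkAll 11 (Ph 10) T10 [(40, 10, (-1, 0, 0, 0)), (94, 10, (-1, 0, 0, 0)), (112, 10, (-1, 0, 0, 0)), (118, 10, (-1, 0, 0, 0))] = true := by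
  decide +kernel

/-- `E8`, `e = 10`, `p = 11` -/
theorem hasElt10_11 (F : Type) [Field F] [Fintype F] (hF : ¬ 11 ∣ Fintype.card F)
    (he : orderOf ((Fintype.card F : ℕ) : ZMod 11) = 10) : HasElt 11 (chevE8.group F) (Fintype.card F) := by
  have : Fact (Nat.Prime 11) := ⟨by norm_num⟩
  exact hasElt_cell e8T F hF inv_E8 (by norm_num) (by norm_num) he (by simp) eig10 tab10 chk10_11

/-- the form for `e = 8` -/
def c8 : Fin 8 → V4 := ![(0, -1, 0, -1), (0, 0, -1, -1), (1, 0, -1, 0), (0, 1, 1, 0), (0, 0, 1, 1), (-1, -1, -1, 0), (0, 0, 0, 0), (0, 0, 0, 0)]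

/-- the table of the root values -/
noncomputable def T8 : List V4 :=
  (by
  refine (?fq9006 : ((pk61l (fun i1 => (_root_.Prod.mk (pk61z (pk61d (nat_lit 3) 
    (nat_lit 0x2482002480012448008000092200002480092494248000080090012409200002002449000012449009209200002482480491240000491200200002481240048008000092649248009200002248000080091240009200209200) i1)) (_root_.Prod.mk (pk61z (pk61d (nat_lit 3) 
    (nat_lit 0x2400048012012402488000092200002489200002248000089201240240092494002400480012000489209200002482489000240009001200649248012012402488000092200002489200002248000089201240240090001200) i1)) (_root_.Prod.mk (pk61z (pk61d (nat_lit 3) 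
    (nat_lit 0x204040800204008248800920009200248920024800248008920801020009200224820040801029288008920000248800b24a040081002092200248002040082488009200092002489200248002480089208010200081010200) i1)) (pk61z (pk61d (nat_lit 3) 
    (nat_lit 0x24800924240008000000924949200000000024900000924925800125249200000020004a490092412480000000009241248049290002000000249252400112492480000492000000000249492480000008001212480092000) i1)))))) (nat_lit 0) (nat_lit 240) List.nil) : List V4)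
    = ?xq9006 → (List V4)) ?hq9006; (case hq9006 => (set_option maxRecDepth 1000000 in conv => lhs; reduce)); intro _; exact ?xq9006 : List V4)

theorem tab8 : tab chevE8 8 c8 = T8 := by decide +kernel

theorem eig8 : okEig (cartanOf chevE8 8) [0, 1, 2, 3, 4] c8 (Ph 8) ![1, 1, 0, 0, -1, 0, 0, 0] := by
  unfold okEig
  decide +kernel

theorem chk8_17 : chkAll 17 (Ph 8) T8 [(110, 12, (-1, -1, -1, 0)), (134, 14, (-1, -1, -1, 0)), (155, 8, (-1, -1, -1, 0)), (179, 15, (-1, -1, -1, 0))] = true := by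
  decide +kernel

/-- `E8`, `e = 8`, `p = 17` -/
theorem hasElt8_17 (F : Type) [Field F] [Fintype F] (hF : ¬ 17 ∣ Fintype.card F)
    (he : orderOf ((Fintype.card F : ℕ) : ZMod 17) = 8) : HasElt 17 (chevE8.group F) (Fintype.card F) := by
  have : Fact (Nat.Prime 17) := ⟨by norm_num⟩
  exact hasElt_cell e8T F hF inv_E8 (by norm_num) (by norm_num) he (by simp) eig8 tab8 chk8_17

/-- the form for `e = 12` -/
def c12 : Fin 8 → V4 := ![(1, 0, -2, 0), (2, -1, -1, -1), (0, 1, 0, -2), (0, 1, 0, 1), (-1, 0, 2, 0), (0, -1, 0, 2), (-1, -1, -1, -1), (0, 0, 0, 0)]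

/-- the table of the root values -/
noncomputable def T12 : List V4 :=
  (by
  refine (?fq9007 : ((pk61l (fun i1 => (_root_.Prod.mk (pk61z (pk61d (nat_lit 3) 
    (nat_lit 0x129200129112024404804949266c92000880024a42000929129312024992480120128025236480d921b2490480904929025200948d920324024009250920255b25b2480026c92000880024a4adb64900901120245b2400db240) i1)) (_root_.Prod.mk (pk61z (pk61d (nat_lit 3) 
    (nat_lit 0x148844029020148484990080942120949880944a66480805090900a44192020142424d90080a444849b21b2480929029090916c80805212126402025016c8048499008094ac96480ab64824264808050909364021b20160b640) i1)) (_root_.Prod.mk (pk61z (pk61d (nat_lit 3) 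
    (nat_lit 0x1224801b2548025004804992484a42000880026c920009b25b2692036d492601201220244a52009481290904809049b2436480d9291202240240adb6648025929129080024a42000880026c9092509009019203652900092240) i1)) (pk61z (pk61d (nat_lit 3) 
    (nat_lit 0x112c14032420193204910080d98120912080d96cd5200804490d8089614802011243694008089726492812848093243249adc48808064c8124402036444881204910080d9ca45200824482435200804490da500212801422440) i1)))))) (nat_lit 0) (nat_lit 240) List.nil) : List V4)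
    = ?xq9007 → (List V4)) ?hq9007; (case hq9007 => (set_option maxRecDepth 1000000 in conv => lhs; reduce)); intro _; exact ?xq9007 : List V4)

theorem tab12 : tab chevE8 8 c12 = T12 := by decide +kernel

theorem eig12 : okEig (cartanOf chevE8 8) [0, 1, 2, 3, 4, 5] c12 (Ph 12) ![0, 1, 2, -1, 0, -2, 1, 0] := by
  unfold okEig
  decide +kernel

theorem chk12_13 : chkAll 13 (Ph 12) T12 [(19, 1, (-1, -1, -1, -1)), (80, 11, (-1, -1, -1, -1)), (89, 5, (-1, -1, -1, -1)), (150, 3, (-1, -1, -1, -1))] = true := by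
  decide +kernel

/-- `E8`, `e = 12`, `p = 13` -/
theorem hasElt12_13 (F : Type) [Field F] [Fintype F] (hF : ¬ 13 ∣ Fintype.card F)
    (he : orderOf ((Fintype.card F : ℕ) : ZMod 13) = 12) : HasElt 13 (chevE8.group F) (Fintype.card F) := by
  have : Fact (Nat.Prime 13) := ⟨by norm_num⟩
  exact hasElt_cell e8T F hF inv_E8 (by norm_num) (by norm_num) he (by simp) eig12 tab12 chk12_13

end Cfsg.Agent.H395.HT.E8
end

-- part: H395/HT/Cells3
section
set_option linter.all false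
open scoped Cfsg.Agent.FastGrp

/-!
# S4933, part (O): the cells with the second moment (for `E₇`, `e = 4`, `p = 5`)

Root values in `ℤ[ζ_e]`, written in the basis `1, x, x², x³`; `q` modulo `p²` runs through the roots of `Φ_e`.
-/

set_option autoImplicit false
set_option linter.unusedSectionVars false

namespace Cfsg.Agent.H395.HT

open CoxeterSystem Subgroup Cfsg Cfsg.Lie Cfsg.Lie.ChevalleyDatum
open Cfsg.Agent.ChevalleyStructure Cfsg.Agent.ChevalleyStructure.Elts Cfsg.Agent.ChevalleyStructure.CoxeterGeom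
  Cfsg.Agent.ChevalleyStructure.CoxeterGeomTypes Cfsg.Agent.ChevalleyStructure.NPerm
open Cfsg.Agent.Tits.Roots Cfsg.Agent.Tits.Core Cfsg.Agent.Nodes Cfsg.Agent.Nodes.Reps Cfsg.Agent.Nodes.BNOf
  Cfsg.Agent.Nodes.RGDChev Cfsg.Agent.Nodes.Bruhat
open Cfsg.Agent.BpExc.TorCent Cfsg.Agent.BpExc.TorChev Cfsg.Agent.BpExc.Tow Cfsg.Agent.BpExc.TowChev Cfsg.Agent.BpExc.Fr
open Cfsg.Agent.BpExc.LangFr Cfsg.Agent.LangThm Cfsg.Agent.BpExc Cfsg.Agent.BpExc.FamExt Cfsg.Agent.BpExc.FamUntw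
  Cfsg.Agent.BpExc.FamInst Cfsg.Agent.BpExc.FamField
open Cfsg.Agent.GpExc.Field (glMap emb coe_emb glMap_xG emb_injective coe_glMap)
open Cfsg.Agent.H234.HT

def chkA3 (p : ℕ) (T : List V4) (q0 r : ℕ) : Bool :=
  decide (r % p ≠ 0) &&
    (decide (5 ≤ p) && decide ((T.map fun a => if val p q0 a % p = r % p then (val p q0 a / p) ^ 2 else 0).sum % p ≠ 0))

def chkAll3 (p : ℕ) (P : V4 × ℤ) (T : List V4) (cells : List (ℕ × ℕ × V4)) : Bool :=
  ((List.range (p ^ 2)).all fun q0 => decide (evP q0 P % ((p ^ 2 : ℕ) : ℤ) ≠ 0) || cells.any fun x => decide (x.1 = q0)) &&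
    cells.all fun x => chkA3 p T x.1 x.2.1 && chkB p T x.1 x.2.2

theorem chkAll3_spec {p : ℕ} {P : V4 × ℤ} {T : List V4} {cells : List (ℕ × ℕ × V4)} (h : chkAll3 p P T cells = true)
    {q0 : ℕ} (hq : q0 < p ^ 2) (h0 : evP q0 P % ((p ^ 2 : ℕ) : ℤ) = 0) :
    ∃ (r : ℕ) (a0 : V4), chkA3 p T q0 r = true ∧ chkB p T q0 a0 = true := by
  unfold chkAll3 at h
  rw [Bool.and_eq_true, List.all_eq_true, List.all_eq_true] at h
  obtain ⟨h1, h2⟩ := h
  have h3 := h1 q0 (List.mem_range.2 hq)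
  rw [Bool.or_eq_true, decide_eq_true_iff, List.any_eq_true] at h3
  rcases h3 with h3 | ⟨x, hx, h3⟩
  · exact absurd h0 h3
  · have h4 := h2 x hx
    rw [decide_eq_true_iff] at h3
    rw [Bool.and_eq_true, h3] at h4
    exact ⟨_, _, h4.1, h4.2⟩

/-- **The count.** -/
theorem cnt3_of {D : ChevalleyDatum} {l : ℕ} {c : Fin l → V4} {T : List V4} (hT : tab D l c = T) {p q m q0 r : ℕ}
    (hp : p.Prime) (hm : 2 ≤ m) (hq0 : q % p ^ 2 = q0) {a0 : V4} (hA : chkA3 p T q0 r = true)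
    (hB : chkB p T q0 a0 = true) : Cnt3 p m (exq D l c q (p ^ m)) := by
  have hp0 : 0 < p := hp.pos
  have hmod : (q : ℤ) ≡ (q0 : ℤ) [ZMOD ((p ^ 2 : ℕ) : ℤ)] := by
    rw [← hq0, Int.natCast_mod]
    exact (Int.mod_modEq _ _).symm
  have hev : ∀ a : V4, ev (q : ℤ) a % ((p ^ 2 : ℕ) : ℤ) = ev (q0 : ℤ) a % ((p ^ 2 : ℕ) : ℤ) := fun a => ev_modEq hmod a
  have hval : ∀ a : V4, ((val p q0 a : ℕ) : ℤ) = ev (q : ℤ) a % ((p ^ 2 : ℕ) : ℤ) := fun a => by
    unfold val
    rw [Int.toNat_of_nonneg (Int.emod_nonneg _ (by positivity)), hev]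
  unfold chkA3 at hA
  unfold chkB at hB
  simp only [Bool.and_eq_true, Bool.or_eq_true, decide_eq_true_eq, List.all_eq_true] at hA hB
  obtain ⟨hA1, h5, hA2⟩ := hA
  obtain ⟨⟨hB1, hB2⟩, hB3⟩ := hB
  rcases Nat.eq_or_lt_of_le hm with rfl | hm3
  · -- `m = 2`
    have hex : ∀ s : Fin D.nroots, exq D l c q (p ^ 2) (Sum.inr s) = val p q0 (lv c (vec D l s)) := fun s => by
      show (ev (q : ℤ) (lv c (vec D l s)) % ((p ^ 2 : ℕ) : ℤ)).toNat = _
      rw [hev]
      rfl
    refine Or.inr ⟨r, fun h => hA1 (Nat.mod_eq_zero_of_dvd h), h5, ?_⟩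
    have h21 : p ^ (2 - 1) = p := by norm_num
    rw [h21]
    have h0 : ∀ i : Fin D.rank, ¬ exq D l c q (p ^ 2) (Sum.inl i) % p = r % p := fun i hi => by
      have h1 : exq D l c q (p ^ 2) (Sum.inl i) = 0 := rfl
      rw [h1, Nat.zero_mod] at hi
      exact hA1 hi.symm
    intro h
    apply hA2
    rw [sum_idx (exq D l c q (p ^ 2)) (fun x => x % p = r % p) (fun x => (x / p) ^ 2) h0] at h
    rw [← hT]
    unfold tab
    rw [List.map_map]
    simp only [hex] at h
    exact Nat.mod_eq_zero_of_dvd h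
  · -- `m ≥ 3`
    obtain ⟨r', hr'⟩ : ∃ r' : ℕ, r' = (ev (q : ℤ) a0 % ((p ^ m : ℕ) : ℤ)).toNat := ⟨_, rfl⟩
    have hpm : 0 < p ^ m := by positivity
    have hpd : p ∣ p ^ m := dvd_pow_self p (by omega)
    have hrp : r' % p ≠ 0 := by
      intro h
      apply hB1
      have h1 := toNat_emod_emod (a := ev (q : ℤ) a0) hpm hpd
      rw [← hr', h] at h1
      have h2 : ((val p q0 a0 % p : ℕ) : ℤ) = 0 := by
        rw [Int.natCast_mod, hval, Int.emod_emod_of_dvd _ (Int.natCast_dvd_natCast.2 (dvd_pow_self p two_ne_zero)), ← h1]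
        rfl
      exact_mod_cast h2
    refine Or.inl ⟨r', fun h => hrp (Nat.mod_eq_zero_of_dvd h), Or.inl ?_⟩
    have hpp : p ∣ p ^ (m - 1) := dvd_pow_self p (by omega)
    have hpm1 : p ^ (m - 1) ∣ p ^ m := pow_dvd_pow p (by omega)
    have hp2 : p ^ 2 ∣ p ^ (m - 1) := pow_dvd_pow p (by omega)
    have h0 : ∀ i : Fin D.rank, ¬ exq D l c q (p ^ m) (Sum.inl i) % p ^ (m - 1) = r' % p ^ (m - 1) := fun i hi => by
      have h1 : exq D l c q (p ^ m) (Sum.inl i) = 0 := rfl
      rw [h1, Nat.zero_mod] at hi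
      apply hrp
      rw [← Nat.mod_mod_of_dvd r' hpp, ← hi, Nat.zero_mod]
    rw [card_idx (exq D l c q (p ^ m)) (fun x => x % p ^ (m - 1) = r' % p ^ (m - 1)) h0]
    intro h
    apply hB2
    rw [← hT]
    unfold tab
    rw [List.map_map]
    have hiff : ∀ s : Fin D.nroots, (exq D l c q (p ^ m) (Sum.inr s) % p ^ (m - 1) = r' % p ^ (m - 1)) ↔
        lv c (vec D l s) = a0 := by
      intro s
      have e1 : ((exq D l c q (p ^ m) (Sum.inr s) % p ^ (m - 1) : ℕ) : ℤ) =
          ev (q : ℤ) (lv c (vec D l s)) % ((p ^ (m - 1) : ℕ) : ℤ) := toNat_emod_emod hpm hpm1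
      have e2 : ((r' % p ^ (m - 1) : ℕ) : ℤ) = ev (q : ℤ) a0 % ((p ^ (m - 1) : ℕ) : ℤ) := by
        rw [hr']
        exact toNat_emod_emod hpm hpm1
      constructor
      · intro h1
        by_contra h2
        have h3 := hB3 (lv c (vec D l s)) (by
          rw [← hT]
          exact List.mem_map.2 ⟨s, List.mem_finRange s, rfl⟩)
        rcases h3 with h3 | h3
        · exact h2 h3
        · apply h3
          have h4 : ((val p q0 (lv c (vec D l s)) : ℕ) : ℤ) = ((val p q0 a0 : ℕ) : ℤ) := by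
            rw [hval, hval]
            rw [← Int.emod_emod_of_dvd (ev (q : ℤ) (lv c (vec D l s))) (Int.natCast_dvd_natCast.2 hp2),
              ← Int.emod_emod_of_dvd (ev (q : ℤ) a0) (Int.natCast_dvd_natCast.2 hp2), ← e1, ← e2, h1]
          exact_mod_cast h4
      · intro h1
        have h2 : ((exq D l c q (p ^ m) (Sum.inr s) % p ^ (m - 1) : ℕ) : ℤ) = ((r' % p ^ (m - 1) : ℕ) : ℤ) := by
          rw [e1, e2, h1]
        exact_mod_cast h2
    simp only [hiff] at h
    exact Nat.mod_eq_zero_of_dvd h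
/-! ### the cell -/

/-- **A cell** `(D, e, p)`: the element of the twisted torus of the word `L` with root values `ev q (c ·)`. -/
theorem hasElt3_cell {D : ChevalleyDatum} {l : ℕ} {M : CoxeterMatrix (Fin l)} (hp : IsType D l M) (F : Type) [Field F]
    [Fintype F] {p : ℕ} [hpp : Fact p.Prime] (hpF : ¬ p ∣ Fintype.card F) {d : ℕ} {B : Fin l → Fin l → ℤ}
    (hB : InvC D l d B) (hd : d ≠ 0) (hpd : ¬ p ∣ d) {e : ℕ} (he : orderOf ((Fintype.card F : ℕ) : ZMod p) = e)
    (hL : e ∈ [3, 4, 5, 6, 8, 10, 12]) {c : Fin l → V4} {L : List (Fin l)} {κ : Fin l → ℤ}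
    (hE : okEig (cartanOf D l) L c (Ph e) κ) {T : List V4} (hT : tab D l c = T) {cells : List (ℕ × ℕ × V4)}
    (hchk : chkAll3 p (Ph e) T cells = true) : HasElt3 p (D.group F) (Fintype.card F) := by
  classical
  intro m hm hdm _
  obtain ⟨r, hr⟩ := CharP.exists F
  have hrp : Fact r.Prime := ⟨CharP.char_is_prime F r⟩
  have hkc : CharP (AlgebraicClosure F) r := charP_of_injective_algebraMap (algebraMap F _).injective r
  let _ : Algebra (ZMod r) F := ZMod.algebra F r
  have hFa : Algebra.IsAlgebraic (ZMod r) F := Algebra.IsAlgebraic.of_finite (ZMod r) F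
  have hka : Algebra.IsAlgebraic (ZMod r) (AlgebraicClosure F) := Algebra.IsAlgebraic.trans (ZMod r) F _
  have hlf : LocFin (AlgebraicClosure F) := locFin_of_isAlgebraic r _
  obtain ⟨n, hn0, hn⟩ := exists_card (F := F) r
  have hq : Nat.card F = Fintype.card F := Nat.card_eq_fintype_card
  set q := Fintype.card F with hqdef
  rw [he] at hdm
  have hq1 : 1 ≤ q := Fintype.card_pos
  have hdm' : ((p ^ m : ℕ) : ℤ) ∣ (q : ℤ) ^ e - 1 := by
    have h1 := Int.natCast_dvd_natCast.2 hdm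
    rw [Nat.cast_sub (Nat.one_le_pow _ _ hq1)] at h1
    push_cast at h1 ⊢
    exact h1
  have hPh := dvd_Ph hpp.out he hL hdm'
  have hpr : ¬ r ∣ p ^ m := by
    intro h
    have h1 := (Nat.prime_dvd_prime_iff_eq hrp.out hpp.out).1 (hrp.out.dvd_of_dvd_pow h)
    apply hpF
    rw [← h1, ← hq, hn]
    exact dvd_pow_self r hn0.ne'
  have hNk : NeZero ((p ^ m : ℕ) : AlgebraicClosure F) := ⟨fun h => hpr ((CharP.cast_eq_zero_iff _ r _).1 h)⟩
  obtain ⟨ζ, hζ⟩ : ∃ ζ : AlgebraicClosure F, IsPrimitiveRoot ζ (p ^ m) :=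
    HasEnoughRootsOfUnity.exists_primitiveRoot _ _
  have hpm0 : p ^ m ≠ 0 := pow_ne_zero _ hpp.out.ne_zero
  have hNd : (p ^ m).Coprime d := Nat.Coprime.pow_left _ ((Nat.Prime.coprime_iff_not_dvd hpp.out).2 hpd)
  obtain ⟨y, hyN, -, hchar⟩ := exists_tor_charpoly hp M.toCoxeterSystem hlf r (algebraMap F (AlgebraicClosure F)) hn0 hn
    hB hd hpm0 hNd hζ (fun i => ev (q : ℤ) (c i)) (L.map M.toCoxeterSystem.simple).prod (by
      intro i
      rw [← ev_lv, lv_rep_word, lv_sr, lf_sr, hq]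
      have h1 := ev_of_okEig hE (q : ℤ) i
      rw [h1]
      exact Dvd.dvd.mul_left hPh _)
  refine ⟨y, y.2, AlgebraicClosure F, inferInstance, algebraMap F (AlgebraicClosure F), ζ, exq D l c q (p ^ m), hζ,
    ?_, ?_⟩
  · unfold Eig
    have h1 := hchar 1
    rw [pow_one] at h1
    rw [Matrix.charpoly_map, h1, Fintype.prod_sum_type]
    congr 1
    · show _ = ∏ _i : Fin D.rank, (Polynomial.X - Polynomial.C (ζ ^ 0))
      rw [pow_zero, Finset.prod_const, Finset.card_univ, Fintype.card_fin]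
    · refine Finset.prod_congr rfl fun s _ => ?_
      congr 2
      rw [pow_one, ← ev_lv]
      show _ = ζ ^ (ev (q : ℤ) (lv c (vec D l s)) % ((p ^ m : ℕ) : ℤ)).toNat
      have h2 : (((ev (q : ℤ) (lv c (vec D l s)) % ((p ^ m : ℕ) : ℤ)).toNat : ℕ) : ℤ) =
          ev (q : ℤ) (lv c (vec D l s)) % ((p ^ m : ℕ) : ℤ) :=
        Int.toNat_of_nonneg (Int.emod_nonneg _ (by exact_mod_cast hpm0))
      rw [← zpow_natCast ζ (Int.toNat _), h2]
      have hζ0 : ζ ≠ 0 := hζ.ne_zero hpm0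
      conv_lhs => rw [← Int.emod_add_mul_ediv (ev (q : ℤ) (lv c (vec D l s))) ((p ^ m : ℕ) : ℤ)]
      rw [zpow_add₀ hζ0, zpow_mul, zpow_natCast ζ (p ^ m), hζ.pow_eq_one, one_zpow, mul_one]
  · have hlt : q % p ^ 2 < p ^ 2 := Nat.mod_lt _ (by have := hpp.out.pos; positivity)
    obtain ⟨r0, a0, hA, hB'⟩ := chkAll3_spec hchk hlt (by
      have h1 : ((p ^ 2 : ℕ) : ℤ) ∣ evP q (Ph e) :=
        (Int.natCast_dvd_natCast.2 (pow_dvd_pow p hm)).trans hPh
      have h2 : (((q % p ^ 2 : ℕ) : ℕ) : ℤ) ≡ (q : ℤ) [ZMOD ((p ^ 2 : ℕ) : ℤ)] := by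
        rw [Int.natCast_mod]
        exact Int.mod_modEq _ _
      have h3 := evP_modEq h2 (Ph e)
      rw [Int.ModEq, Int.emod_eq_zero_of_dvd h1] at h3
      exact h3)
    exact cnt3_of hT hpp.out hm rfl hA hB'
end Cfsg.Agent.H395.HT
end

-- part: H395/HT/Row45
section
set_option linter.all false

/-!
# S4933, part (O): the cell `E7`, `e = 4`, `p = 5` (second moment)
-/

set_option autoImplicit false
set_option maxRecDepth 100000

namespace Cfsg.Agent.H395.HT.E7

open Cfsg Cfsg.Lie Cfsg.Agent.ChevalleyStructure Cfsg.Agent.ChevalleyStructure.CoxeterGeomTypes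
open Cfsg.Agent.BpExc.FamInst Cfsg.Agent.BpExc.RowsUntw Cfsg.Agent.H234.HT Cfsg.Agent.H395.HT

theorem chk4_5 : chkAll3 5 (Ph 4) T4 [(7, 1, (0, 1, 0, 0)), (18, 1, (0, 1, 0, 0))] = true := by
  decide +kernel

/-- `E7`, `e = 4`, `p = 5` -/
theorem hasElt3_4_5 (F : Type) [Field F] [Fintype F] (hF : ¬ 5 ∣ Fintype.card F)
    (he : orderOf ((Fintype.card F : ℕ) : ZMod 5) = 4) : HasElt3 5 (chevE7.group F) (Fintype.card F) := by
  have : Fact (Nat.Prime 5) := ⟨by norm_num⟩
  exact hasElt3_cell e7T F hF inv_E7 (by norm_num) (by norm_num) he (by simp) eig4 tab4 chk4_5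

end Cfsg.Agent.H395.HT.E7
end

-- part: H720/HT/Bridge
section
set_option linter.all false
open scoped Cfsg.Agent.FastGrp

/-!
# S4933: `DD` and `NV` agree, and either of them makes the row vacuous
-/

set_option autoImplicit false

namespace Cfsg.Agent.H720.HT

open Subgroup Cfsg
open scoped commutatorElement
open Cfsg.Agent.H483.HT (NV)
open Cfsg.Agent.H316.HT (Row CD GoodOn)

universe u v

theorem DD.nv {p : ℕ} {S : Type*} [Group S] (h : DD p S) : NV p S := by
  obtain ⟨Q, hQ, hne⟩ := h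
  refine ⟨Q, hQ, ?_⟩
  by_contra hcon
  push Not at hcon
  apply hne
  rw [commutator_eq_bot_iff_le_centralizer, commutator_le]
  intro x hx y hy
  rw [mem_centralizer_iff]
  intro g hg
  have hle : ⁅Q, Q⁆ ≤ centralizer {⁅x, y⁆} := by
    rw [commutator_le]
    intro z hz w hw
    rw [mem_centralizer_singleton_iff]
    exact (commutatorElement_eq_one_iff_mul_comm.1 (hcon x hx y hy z hz w hw)).symm
  have := hle hg
  rw [mem_centralizer_singleton_iff] at this
  exact this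

theorem NV.dd {p : ℕ} {S : Type*} [Group S] (h : NV p S) : DD p S := by
  obtain ⟨Q, hQ, x, hx, y, hy, z, hz, w, hw, hne⟩ := h
  exact DD.of_mem Q hQ hx hy hz hw hne

theorem nv_perm {n : ℕ} (hn : 8 ≤ n) : NV 2 (Equiv.Perm (Fin n)) := (dd_perm hn).nv

theorem nv_alt {n : ℕ} (hn : 10 ≤ n) : NV 2 (alternatingGroup (Fin n)) := (dd_alt hn).nv

/-- **vacuous rows**: a `p`-subgroup of `S` that is not metabelian -/
theorem row_of_nv {p : ℕ} (hp : p.Prime) {S : Type v} [Group S] (h : NV p S) : Row p S := by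
  have : Fact p.Prime := ⟨hp⟩
  intro A _ _ N _ ⟨e⟩ _ M _ P a ha hcd
  have hA : NV p A := (h.congr e.symm).of_subgroup
  exact (hA.vacuous' P ha hcd.1 hcd.2).elim

theorem row_of_dd {p : ℕ} (hp : p.Prime) {S : Type v} [Group S] (h : DD p S) : Row p S := row_of_nv hp h.nv

theorem row2_of_nv {S : Type v} [Group S] (h : NV 2 S) : Row 2 S := row_of_nv Nat.prime_two h

theorem row2_of_dd {S : Type v} [Group S] (h : DD 2 S) : Row 2 S := row_of_nv Nat.prime_two h.nv

end Cfsg.Agent.H720.HT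
end
end
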